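import Cfsg.Agent.Lib.AutPSL.Centralizer

/-!
Failure of local balance for an automorphism whose centraliser has a simple socle with small centraliser.
-/

set_option autoImplicit false

namespace Cfsg.Agent.AutBalance

/-- The inner automorphisms commuting with `x` correspond to the fixed points of `x`. -/
theorem card_eqLocus {K : Type*} [Group K] (hcen : Subgroup.center K = ⊥) (x : MulAut K) :
    Nat.card ↥(MonoidHom.eqLocus x.toMonoidHom (MonoidHom.id K)) =
      Nat.card ↥((MulAut.conj : K →* MulAut K).range ⊓ Subgroup.centralizer {x}) := by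
  have hinj : Function.Injective (MulAut.conj : K →* MulAut K) := by
    rw [← MonoidHom.ker_eq_bot_iff, eq_bot_iff]
    intro k hk
    rw [← hcen, Subgroup.mem_center_iff]
    intro z
    have h := congrArg (fun f : MulAut K => f z) (MonoidHom.mem_ker.1 hk)
    change k * z * k⁻¹ = z at h
    exact (mul_inv_eq_iff_eq_mul.1 h).symm
  rw [← Subgroup.card_map_of_injective hinj]
  congr 2
  have key : ∀ k : K, MulAut.conj k ∈ Subgroup.centralizer {x} ↔ x k = k := fun k => by
    have e : x * MulAut.conj k = MulAut.conj (x k) * x := MulEquiv.ext fun z => by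
      show x (k * z * k⁻¹) = x k * x z * (x k)⁻¹
      rw [map_mul, map_mul, map_inv]
    rw [Subgroup.mem_centralizer_singleton_iff, e]
    exact ⟨fun h => (hinj (mul_right_cancel h)).symm, fun h => by rw [h]⟩
  ext f
  constructor
  · rintro ⟨k, hk, rfl⟩
    exact ⟨⟨k, rfl⟩, (key k).2 hk⟩
  · rintro ⟨⟨k, rfl⟩, hk⟩
    exact ⟨k, (key k).1 hk, rfl⟩

/-- The criterion. -/
theorem core_ne_bot_iff {K : Type*} [Group K] [Finite K] (hcen : Subgroup.center K = ⊥)
    (A : Subgroup (MulAut K)) (hinn : ∀ k : K, MulAut.conj k ∈ A) {p : ℕ} [hp : Fact p.Prime]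
    {x : MulAut K} (hxA : x ∈ A) (hord : orderOf x = p) (L : Subgroup (MulAut K))
    (hL : L ≤ (MulAut.conj : K →* MulAut K).range ⊓ Subgroup.centralizer {x}) (hsimple : IsSimpleGroup L)
    (hLn : ∀ c ∈ Subgroup.centralizer {x}, ∀ l ∈ L, c * l * c⁻¹ ∈ L)
    (hdiv : p ∣ Nat.card ↥((MulAut.conj : K →* MulAut K).range ⊓ Subgroup.centralizer {x}) → p ∣ Nat.card L)
    (hcent : ∀ c ∈ Subgroup.centralizer {x}, (∀ l ∈ L, c * l = l * c) → c ∈ Subgroup.zpowers x) :
    Cfsg.pPrimeCore p ↥(A ⊓ Subgroup.centralizer {x}) ≠ ⊥ ↔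
      Nat.Coprime p (Nat.card ↥(MonoidHom.eqLocus x.toMonoidHom (MonoidHom.id K))) := by
  haveI := hsimple
  rw [card_eqLocus hcen]
  obtain ⟨B, hB⟩ : ∃ B, B = A ⊓ Subgroup.centralizer {x} := ⟨_, rfl⟩
  obtain ⟨J, hJ⟩ : ∃ J, J = (MulAut.conj : K →* MulAut K).range ⊓ Subgroup.centralizer {x} := ⟨_, rfl⟩
  rw [← hB]
  rw [← hJ] at hL hdiv ⊢
  have hJB : J ≤ B := by
    rw [hJ, hB]
    rintro f ⟨⟨k, rfl⟩, hf⟩
    exact ⟨hinn k, hf⟩
  have hJn : (J.subgroupOf B).Normal := by
    refine ⟨fun j hj b => ?_⟩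
    rw [Subgroup.mem_subgroupOf, hJ] at hj ⊢
    obtain ⟨⟨k, hk⟩, hjc⟩ := hj
    refine ⟨⟨(b : MulAut K) k, ?_⟩, ?_⟩
    · refine MulEquiv.ext fun z => ?_
      show (b : MulAut K) k * z * ((b : MulAut K) k)⁻¹ = (b : MulAut K) ((j : MulAut K) ((b : MulAut K)⁻¹ z))
      rw [← hk]
      show _ = (b : MulAut K) (k * (b : MulAut K)⁻¹ z * k⁻¹)
      rw [map_mul, map_mul, map_inv, MulAut.apply_inv_self]
    · have hbc : (b : MulAut K) ∈ Subgroup.centralizer {x} := (hB ▸ b.2 : (b : MulAut K) ∈ A ⊓ _).2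
      exact Subgroup.mul_mem _ (Subgroup.mul_mem _ hbc hjc) (Subgroup.inv_mem _ hbc)
  constructor
  · intro hne
    rw [Nat.Prime.coprime_iff_not_dvd hp.out]
    intro hpJ
    refine hne (le_bot_iff.1 (sSup_le fun N hN => ?_))
    obtain ⟨hNn, hNc⟩ := hN
    have hLB : L ≤ B := hL.trans hJB
    haveI : ((N ⊓ L.subgroupOf B).subgroupOf (L.subgroupOf B)).Normal := by
      refine ⟨fun n hn l => ?_⟩
      rw [Subgroup.mem_subgroupOf, Subgroup.mem_inf] at hn ⊢
      exact ⟨hNn.conj_mem _ hn.1 _, Subgroup.mul_mem _ (Subgroup.mul_mem _ l.2 hn.2) (Subgroup.inv_mem _ l.2)⟩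
    haveI : Nontrivial ↥(L.subgroupOf B) := (Subgroup.subgroupOfEquivOfLe hLB).toEquiv.nontrivial
    haveI : IsSimpleGroup ↥(L.subgroupOf B) :=
      IsSimpleGroup.isSimpleGroup_of_surjective (Subgroup.subgroupOfEquivOfLe hLB).symm.toMonoidHom
        (Subgroup.subgroupOfEquivOfLe hLB).symm.surjective
    rcases IsSimpleGroup.eq_bot_or_eq_top_of_normal ((N ⊓ L.subgroupOf B).subgroupOf (L.subgroupOf B))
        inferInstance with h | h
    · intro n hn
      rw [Subgroup.mem_bot]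
      have hnc : (n : MulAut K) ∈ Subgroup.centralizer {x} := (hB ▸ n.2 : (n : MulAut K) ∈ A ⊓ _).2
      have hz : (n : MulAut K) ∈ Subgroup.zpowers x := by
        refine hcent _ hnc fun l hl => ?_
        have hc : n * ⟨l, hLB hl⟩ * n⁻¹ * (⟨l, hLB hl⟩ : B)⁻¹ = 1 := by
          rw [Subgroup.subgroupOf_eq_bot, disjoint_iff] at h
          rw [← Subgroup.mem_bot, ← h]
          refine ⟨⟨?_, ?_⟩, ?_⟩
          · rw [mul_assoc, mul_assoc, ← mul_assoc (⟨l, hLB hl⟩ : B)]
            exact Subgroup.mul_mem _ hn (hNn.conj_mem _ (Subgroup.inv_mem _ hn) _)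
          · exact Subgroup.mul_mem _ (hLn _ hnc _ hl) (Subgroup.inv_mem _ hl)
          · exact Subgroup.mul_mem _ (hLn _ hnc _ hl) (Subgroup.inv_mem _ hl)
        have e := congrArg Subtype.val hc
        simp only [Subgroup.coe_mul, Subgroup.coe_inv, OneMemClass.coe_one] at e
        rwa [mul_inv_eq_one, mul_inv_eq_iff_eq_mul] at e
      have h1 : orderOf (n : MulAut K) ∣ p := hord ▸ orderOf_dvd_of_mem_zpowers hz
      have h2 : orderOf n ∣ Nat.card N := Subgroup.orderOf_dvd_natCard N hn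
      rw [Subgroup.orderOf_coe] at h1
      exact orderOf_eq_one_iff.1 (Nat.eq_one_of_dvd_coprimes hNc h2 h1)
    · exfalso
      rw [Subgroup.subgroupOf_eq_top] at h
      have hle : L.subgroupOf B ≤ N := h.trans inf_le_left
      have h1 : Nat.card L ∣ Nat.card N := by
        rw [← Nat.card_congr (Subgroup.subgroupOfEquivOfLe hLB).toEquiv]
        exact Subgroup.card_dvd_of_le hle
      exact hp.out.ne_one (Nat.eq_one_of_dvd_coprimes hNc ((hdiv hpJ).trans h1) dvd_rfl)
  · intro hco he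
    have hle : J.subgroupOf B ≤ Cfsg.pPrimeCore p B :=
      le_sSup ⟨hJn, by rw [Nat.card_congr (Subgroup.subgroupOfEquivOfLe hJB).toEquiv]; exact hco.symm⟩
    rw [he, le_bot_iff, Subgroup.subgroupOf_eq_bot, disjoint_iff, inf_eq_left.2 hJB] at hle
    have : L = ⊥ := le_bot_iff.1 (hle ▸ hL)
    exact not_subsingleton L (by rw [this]; infer_instance)

end Cfsg.Agent.AutBalance
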