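import Cfsg.Agent.Lib.AutBalance.Transfer
import Cfsg.Agent.Lib.Transfer.Basic

/-!
Odd cores of centralisers in almost simple groups read from the inner part of the centraliser.
-/

set_option autoImplicit false

namespace Cfsg.Agent.AutBalance

variable {K : Type*} [Group K] {p : ℕ} {x : MulAut K}

/-- The inner automorphisms commuting with `x`. -/
def innCent (x : MulAut K) : Subgroup (MulAut K) :=
  (MulAut.conj : K →* MulAut K).range ⊓ Subgroup.centralizer {x}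

theorem conj_innCent {c j : MulAut K} (hc : c ∈ Subgroup.centralizer {x}) (hj : j ∈ innCent x) :
    c * j * c⁻¹ ∈ innCent x := by
  obtain ⟨⟨k, rfl⟩, hk⟩ := hj
  refine ⟨⟨c k, MulEquiv.ext fun z => ?_⟩, Subgroup.mul_mem _ (Subgroup.mul_mem _ hc hk) (Subgroup.inv_mem _ hc)⟩
  show c k * z * (c k)⁻¹ = c (k * c⁻¹ z * k⁻¹)
  rw [map_mul, map_mul, map_inv, MulAut.apply_inv_self]

/-- Trivial core when the inner part has trivial invariant core and small centraliser. -/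
theorem core_eq_bot [Finite K] [hp : Fact p.Prime] (A : Subgroup (MulAut K))
    (hinn : ∀ k : K, MulAut.conj k ∈ A)
    (hJ : ∀ M : Subgroup (MulAut K), M ≤ innCent x →
      (∀ c ∈ Subgroup.centralizer {x}, ∀ m ∈ M, c * m * c⁻¹ ∈ M) → (Nat.card M).Coprime p → M = ⊥)
    (hC : ∀ c ∈ Subgroup.centralizer {x}, (∀ j ∈ innCent x, c * j = j * c) → (orderOf c).Coprime p → c = 1) :
    Cfsg.pPrimeCore p ↥(A ⊓ Subgroup.centralizer {x}) = ⊥ := by
  by_contra hne
  obtain ⟨N, hNn, hNc, hNb⟩ := pPrimeCore_ne_bot_iff.1 hne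
  refine hNb (eq_bot_iff.2 fun n hn => ?_)
  obtain ⟨B, hB⟩ : ∃ B, B = A ⊓ Subgroup.centralizer {x} := ⟨_, rfl⟩
  have hJB : innCent x ≤ A ⊓ Subgroup.centralizer {x} := by
    rintro f ⟨⟨k, rfl⟩, hf⟩
    exact ⟨hinn k, hf⟩
  obtain ⟨J, hJdef⟩ : ∃ J, J = innCent x := ⟨_, rfl⟩
  obtain ⟨M, hM⟩ : ∃ M, M = (Cfsg.pPrimeCore p J).map J.subtype := ⟨_, rfl⟩
  have hMbot : M = ⊥ := by
    refine hJ M (by rw [hM, ← hJdef]; exact Subgroup.map_subtype_le _) (fun c hc m hm => ?_)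
      (by rw [hM, Subgroup.card_map_of_injective J.subtype_injective]; exact PBasic.pPrimeCore_coprime p J)
    have hconj : ∀ d ∈ Subgroup.centralizer {x}, ∀ j ∈ J, d * j * d⁻¹ ∈ J := fun d hd j hj =>
      hJdef ▸ conj_innCent hd (hJdef ▸ hj)
    let e : J ≃* J :=
      { toFun := fun j => ⟨c * j * c⁻¹, hconj c hc j j.2⟩
        invFun := fun j => ⟨c⁻¹ * j * c, by
          have := hconj c⁻¹ (Subgroup.inv_mem _ hc) j j.2
          rwa [inv_inv] at this⟩
        left_inv := fun j => Subtype.ext (by simp [mul_assoc])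
        right_inv := fun j => Subtype.ext (by simp [mul_assoc])
        map_mul' := fun a b => Subtype.ext (by simp [mul_assoc]) }
    have hchar : (Cfsg.pPrimeCore p J).map e.toMonoidHom ≤ Cfsg.pPrimeCore p J :=
      le_sSup ⟨(Cfsg.pPrimeCore_normal p J).map _ e.surjective, by
        rw [Subgroup.card_map_of_injective (f := e.toMonoidHom) e.injective]
        exact PBasic.pPrimeCore_coprime p J⟩
    rw [hM] at hm ⊢
    obtain ⟨m', hm', rfl⟩ := hm
    exact ⟨e m', hchar ⟨m', hm', rfl⟩, rfl⟩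
  have hcent : ∀ j ∈ innCent x, (n : MulAut K) * j = j * (n : MulAut K) := by
    intro j hj
    obtain ⟨d, hd⟩ : ∃ d, d = n * ⟨j, hJB hj⟩ * n⁻¹ * (⟨j, hJB hj⟩ : ↥(A ⊓ Subgroup.centralizer {x}))⁻¹ :=
      ⟨_, rfl⟩
    have hdN : d ∈ N := by
      rw [hd, mul_assoc, mul_assoc, ← mul_assoc (⟨j, hJB hj⟩ : ↥(A ⊓ Subgroup.centralizer {x}))]
      exact N.mul_mem hn (hNn.conj_mem _ (N.inv_mem hn) _)
    have hdJ : (d : MulAut K) ∈ innCent x := by
      rw [hd]
      exact Subgroup.mul_mem _ (conj_innCent n.2.2 hj) (Subgroup.inv_mem _ hj)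
    have hN' : (N.comap (Subgroup.inclusion hJB)) ≤ Cfsg.pPrimeCore p (innCent x) :=
      le_sSup ⟨hNn.comap _, Nat.Coprime.coprime_dvd_left
        (Subgroup.card_comap_dvd_of_injective N _ (Subgroup.inclusion_injective hJB)) hNc⟩
    have : (d : MulAut K) ∈ M := by
      rw [hM, hJdef]
      exact ⟨⟨_, hdJ⟩, hN' (show Subgroup.inclusion hJB ⟨_, hdJ⟩ ∈ N by exact hdN), rfl⟩
    rw [hMbot, Subgroup.mem_bot, hd] at this
    simp only [Subgroup.coe_mul, Subgroup.coe_inv] at this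
    rwa [mul_inv_eq_one, mul_inv_eq_iff_eq_mul] at this
  rw [Subgroup.mem_bot]
  refine Subtype.ext (hC _ n.2.2 hcent ?_)
  rw [Subgroup.orderOf_coe]
  exact hNc.coprime_dvd_left (Subgroup.orderOf_dvd_natCard N hn)

/-- Non-trivial core when the inner part is non-trivial of order prime to `p`. -/
theorem core_ne_bot_of_coprime (A : Subgroup (MulAut K)) (hinn : ∀ k : K, MulAut.conj k ∈ A)
    (hco : (Nat.card ↥(innCent x)).Coprime p) (hne : innCent x ≠ ⊥) :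
    Cfsg.pPrimeCore p ↥(A ⊓ Subgroup.centralizer {x}) ≠ ⊥ := by
  have hJB : innCent x ≤ A ⊓ Subgroup.centralizer {x} := by
    rintro f ⟨⟨k, rfl⟩, hf⟩
    exact ⟨hinn k, hf⟩
  rw [pPrimeCore_ne_bot_iff]
  refine ⟨(innCent x).subgroupOf _, ⟨fun j hj b => ?_⟩, ?_, fun h => hne ?_⟩
  · rw [Subgroup.mem_subgroupOf] at hj ⊢
    exact conj_innCent b.2.2 hj
  · rwa [Nat.card_congr (Subgroup.subgroupOfEquivOfLe hJB).toEquiv]
  · rwa [Subgroup.subgroupOf_eq_bot, disjoint_iff, inf_eq_left.2 hJB] at h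

/-- The criterion: either the inner part has order prime to `p`, or it has trivial core. -/
theorem core_iff [Finite K] [hp : Fact p.Prime] (hcen : Subgroup.center K = ⊥) (A : Subgroup (MulAut K))
    (hinn : ∀ k : K, MulAut.conj k ∈ A) (hne : innCent x ≠ ⊥)
    (hJ : p ∣ Nat.card ↥(innCent x) → ∀ M : Subgroup (MulAut K), M ≤ innCent x →
      (∀ c ∈ Subgroup.centralizer {x}, ∀ m ∈ M, c * m * c⁻¹ ∈ M) → (Nat.card M).Coprime p → M = ⊥)
    (hC : ∀ c ∈ Subgroup.centralizer {x}, (∀ j ∈ innCent x, c * j = j * c) → (orderOf c).Coprime p → c = 1) :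
    Cfsg.pPrimeCore p ↥(A ⊓ Subgroup.centralizer {x}) ≠ ⊥ ↔
      Nat.Coprime p (Nat.card ↥(MonoidHom.eqLocus x.toMonoidHom (MonoidHom.id K))) := by
  rw [card_eqLocus hcen]
  refine ⟨fun h => ?_, fun h => core_ne_bot_of_coprime A hinn h.symm hne⟩
  rw [Nat.Prime.coprime_iff_not_dvd hp.out]
  exact fun hd => h (core_eq_bot A hinn (hJ hd) hC)

/-- A normal subgroup image with trivial core controls the invariant cores of the inner part. -/
theorem hJ_of_image [Finite K] (L : Subgroup (MulAut K)) (hLJ : L ≤ innCent x)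
    (hn : ∀ j ∈ innCent x, ∀ l ∈ L, j * l * j⁻¹ ∈ L)
    (hL : ∀ M ≤ L, (∀ l ∈ L, ∀ m ∈ M, l * m * l⁻¹ ∈ M) → (Nat.card M).Coprime p → M = ⊥)
    (hC : ∀ c ∈ innCent x, (∀ l ∈ L, c * l = l * c) → (orderOf c).Coprime p → c = 1) (M : Subgroup (MulAut K))
    (hM : M ≤ innCent x) (hMn : ∀ c ∈ Subgroup.centralizer {x}, ∀ m ∈ M, c * m * c⁻¹ ∈ M)
    (hMc : (Nat.card M).Coprime p) : M = ⊥ := by
  have h1 : M ⊓ L = ⊥ := hL _ inf_le_right (fun l hl m hm => ⟨hMn l (hLJ hl).2 m hm.1,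
    L.mul_mem (L.mul_mem hl hm.2) (L.inv_mem hl)⟩) (hMc.coprime_dvd_left (Subgroup.card_dvd_of_le inf_le_left))
  refine eq_bot_iff.2 fun m hm => ?_
  rw [Subgroup.mem_bot]
  refine hC m (hM hm) (fun l hl => ?_) (hMc.coprime_dvd_left (Subgroup.orderOf_dvd_natCard M hm))
  have : m * l * m⁻¹ * l⁻¹ ∈ M ⊓ L := by
    refine ⟨?_, L.mul_mem (hn m (hM hm) l hl) (L.inv_mem hl)⟩
    rw [mul_assoc, mul_assoc, ← mul_assoc l]
    exact M.mul_mem hm (hMn l (hLJ hl).2 _ (M.inv_mem hm))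
  rw [h1, Subgroup.mem_bot, mul_inv_eq_one, mul_inv_eq_iff_eq_mul] at this
  exact this

end Cfsg.Agent.AutBalance
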