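import Cfsg.Agent.Lib.AutBalance.Transfer
import Cfsg.Agent.Lib.AutPOmega.MinusBase

/-!
Local balance for a standard field automorphism of an orthogonal group, by base change from the fixed field,
and invariance of the criterion under isomorphisms.
-/

set_option autoImplicit false

namespace Cfsg.Agent.AutBalance

open Matrix QuadraticMap Cfsg.Agent.AutPOmega
open Cfsg.Agent.Orth (SpinVal SqCls)
open Cfsg.Agent.Transvec (mv mv_mul ext_mv)
open Cfsg.Agent.Transvec.Orth (mem_isometry)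

/-- The criterion is invariant under isomorphisms. -/
theorem iff_transport {K K' : Type*} [Group K] [Group K'] (p : ℕ) (Ψ : K' ≃* K) {x₀ : MulAut K'}
    (h : ∀ A : Subgroup (MulAut K'), (∀ k : K', MulAut.conj k ∈ A) → x₀ ∈ A →
      (Cfsg.pPrimeCore p ↥(A ⊓ Subgroup.centralizer {x₀}) ≠ ⊥ ↔
        Nat.Coprime p (Nat.card ↥(MonoidHom.eqLocus x₀.toMonoidHom (MonoidHom.id K')))))
    {x : MulAut K} (hx : x = MulAut.congr Ψ x₀) (A : Subgroup (MulAut K)) (hinn : ∀ k : K, MulAut.conj k ∈ A)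
    (hxA : x ∈ A) :
    Cfsg.pPrimeCore p ↥(A ⊓ Subgroup.centralizer {x}) ≠ ⊥ ↔
      Nat.Coprime p (Nat.card ↥(MonoidHom.eqLocus x.toMonoidHom (MonoidHom.id K))) := by
  subst hx
  obtain ⟨A₀, hA₀⟩ : ∃ A₀, A₀ = A.comap (MulAut.congr Ψ).toMonoidHom := ⟨_, rfl⟩
  have hinn₀ : ∀ k : K', MulAut.conj k ∈ A₀ := fun k => by
    rw [hA₀, Subgroup.mem_comap]
    show MulAut.congr Ψ (MulAut.conj k) ∈ A
    rw [show MulAut.congr Ψ (MulAut.conj k) = MulAut.conj (Ψ k) from MulEquiv.ext fun z => by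
      show Ψ (k * Ψ.symm z * k⁻¹) = Ψ k * z * (Ψ k)⁻¹
      rw [map_mul, map_mul, map_inv, MulEquiv.apply_symm_apply]]
    exact hinn _
  have hmem : ∀ y, MulAut.congr Ψ y ∈ A ↔ y ∈ A₀ := fun y => by rw [hA₀, Subgroup.mem_comap]; rfl
  obtain ⟨E⟩ := centralizer_transport (MulAut.congr Ψ) A₀ A hmem x₀
  rw [← pPrimeCore_ne_bot_congr E, h A₀ hinn₀ ((hmem _).1 hxA)]
  have e : Nat.card ↥(MonoidHom.eqLocus (MulAut.congr Ψ x₀).toMonoidHom (MonoidHom.id K)) =
      Nat.card ↥(MonoidHom.eqLocus x₀.toMonoidHom (MonoidHom.id K')) := by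
    rw [← Subgroup.card_map_of_injective (K := MonoidHom.eqLocus x₀.toMonoidHom (MonoidHom.id K'))
      (f := Ψ.toMonoidHom) Ψ.injective]
    congr 2
    ext k
    obtain ⟨j, rfl⟩ := Ψ.surjective k
    constructor
    · intro hk
      refine ⟨j, Ψ.injective ?_, rfl⟩
      change Ψ (x₀ (Ψ.symm (Ψ j))) = Ψ j at hk
      rwa [MulEquiv.symm_apply_apply] at hk
    · rintro ⟨i, hi, e⟩
      obtain rfl := Ψ.injective e
      show Ψ (x₀ (Ψ.symm (Ψ i))) = Ψ i
      rw [MulEquiv.symm_apply_apply]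
      exact congrArg Ψ hi
  rw [e]

theorem spinVal_sq {F : Type*} [Field F] (s : SpinVal F) : s * s = 1 := by
  obtain ⟨u, v⟩ := s
  refine Prod.ext ?_ ?_
  · show u * u = 1
    revert u; decide
  · show v * v = 1
    induction v using QuotientGroup.induction_on with
    | _ z =>
      rw [← QuotientGroup.mk_mul, QuotientGroup.eq_one_iff]
      exact ⟨z, pow_two z⟩

variable {ι : Type} [Fintype ι] [DecidableEq ι] {F : Type*} [Field F] [Fintype F] {F₀ : Type*} [Field F₀]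
  [Fintype F₀]

/-- The class-preserving similarities act through inner automorphisms up to exponent four. -/
theorem act_pow_four {q : QuadraticForm F (ι → F)} {P : GL ι F → Prop} (hP : Par q P) (g : hP.simP) :
    hP.act g ^ 4 ∈ Cfsg.Inn (Cfsg.POmega F (⇑q)) := by
  have h7 := hP.seven
  obtain ⟨μ, hμ⟩ := g.2.1
  obtain ⟨χ, hker, -⟩ := Cfsg.Agent.Orth.exists_matrix_spinor q hP.nondeg (by omega) (Or.inr (by omega))
  obtain ⟨k, hk⟩ : ∃ k : GL ι F, k = scal μ⁻¹ * ((g : GL ι F) * (g : GL ι F)) := ⟨_, rfl⟩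
  have hkiso : k ∈ Cfsg.isometryGroup F (⇑q) := mem_isometry.2 fun v => by
    show q (mv k v) = q v
    rw [hk, mv_mul, scal_mv, mv_mul, QuadraticMap.map_smul, smul_eq_mul]
    rw [show q (mv (g : GL ι F) (mv (g : GL ι F) v)) = μ * q (mv (g : GL ι F) v) from hμ _,
      show q (mv (g : GL ι F) v) = μ * q v from hμ _]
    field_simp
    simp
  have hΩ : (⟨k, hkiso⟩ : Cfsg.isometryGroup F (⇑q)) ^ 2 ∈ Cfsg.Omega F (⇑q) := by
    rw [← hker, MonoidHom.mem_ker, map_pow, pow_two, spinVal_sq]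
  rw [← map_pow]
  refine hP.mem_inn hΩ (μ * μ) _ ?_
  rw [SubgroupClass.coe_pow, SubgroupClass.coe_pow]
  show (g : GL ι F) ^ 4 = scal (μ * μ) * k ^ 2
  rw [hk]
  refine ext_mv fun v => ?_
  simp only [pow_succ, pow_zero, one_mul, mv_mul, scal_mv, Transvec.mv_smul, smul_smul, mul_inv_cancel_right₀,
    Units.val_mul]
  rw [show ((μ⁻¹ : Fˣ) : F) * ((μ⁻¹ : Fˣ) : F) * ((μ : F) * μ) = 1 by field_simp; simp, one_smul]

theorem center_eq_bot_par {q : QuadraticForm F (ι → F)} {P : GL ι F → Prop} (hP : Par q P) :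
    Subgroup.center (Cfsg.POmega F (⇑q)) = ⊥ := by
  rw [eq_bot_iff]
  intro z hz
  refine AutPOmega.conj_injective hP.geo hP.seven (MulEquiv.ext fun w => ?_)
  show z * w * z⁻¹ = 1 * w * 1⁻¹
  rw [inv_one, one_mul, mul_one, ← (Subgroup.mem_center_iff.1 hz) w, mul_inv_cancel_right]

/-- A matrix which is a scalar over the extension is a scalar. -/
theorem scal_descend [Nonempty ι] (φ : F₀ →+* F) {g : GL ι F₀} {a : Fˣ}
    (h : Matrix.GeneralLinearGroup.map φ g = scal a) : ∃ b : F₀ˣ, g = scal b ∧ φ b = a := by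
  have hent : ∀ i j, φ ((g : GL ι F₀) i j) = Matrix.scalar ι (a : F) i j := fun i j =>
    congrArg (fun u : GL ι F => (u : Matrix ι ι F) i j) h
  obtain ⟨i⟩ := ‹Nonempty ι›
  have hii := hent i i
  rw [Matrix.scalar_apply, Matrix.diagonal_apply_eq] at hii
  refine ⟨Units.mk0 ((g : GL ι F₀) i i) fun e => a.ne_zero (by rw [← hii, e, map_zero]),
    Units.ext (Matrix.ext fun k l => φ.injective ?_), hii⟩
  show φ ((g : GL ι F₀) k l) = φ (Matrix.scalar ι ((g : GL ι F₀) i i) k l)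
  rw [hent]
  rcases eq_or_ne k l with rfl | hkl
  · simp [Matrix.scalar_apply, hii]
  · simp [Matrix.scalar_apply, hkl]

omit [Fintype F₀] in
/-- A matrix fixed up to a scalar by a field automorphism is a scalar times one over the fixed field. -/
theorem exists_base_gl [Nonempty ι] (φ : F₀ →+* F) {σ : F ≃+* F} (hfix : ∀ a, a ∈ φ.range ↔ σ a = a)
    {g : GL ι F} {c : Fˣ} (hc : g = scal c * mapGL σ g) :
    ∃ (t : Fˣ) (g₀ : GL ι F₀), g = scal t * Matrix.GeneralLinearGroup.map φ g₀ := by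
  have hit : ∀ k, g = scal (∏ i ∈ Finset.range k, Units.map (σ ^ i : F ≃+* F).toMonoidHom c) *
      mapGL (σ ^ k) g := by
    intro k
    induction k with
    | zero =>
      rw [Finset.prod_range_zero, pow_zero, mapGL_one]
      exact ((congrArg (· * g) (map_one _)).trans (one_mul _)).symm
    | succ k ih =>
      conv_lhs => rw [ih, hc, map_mul, mapGL_scal, ← mapGL_comp, ← pow_succ]
      rw [Finset.prod_range_succ, ← mul_assoc]
      exact congrArg (· * mapGL (σ ^ (k + 1)) g) (map_mul _ _ _).symm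
  have hN : AutPSL.normHom σ c = 1 := by
    have h1 := hit (orderOf σ)
    rw [pow_orderOf_eq_one, mapGL_one, right_eq_mul, ← AutPSL.normHom_eq] at h1
    obtain ⟨i⟩ := ‹Nonempty ι›
    have h2 := congrArg (fun u : GL ι F => mv u (Pi.single i 1) i) h1
    simp only [scal_mv, Transvec.mv_one, Pi.smul_apply, Pi.single_eq_same, smul_eq_mul, mul_one] at h2
    exact Units.ext h2
  obtain ⟨t, ht⟩ := AutPSL.exists_div_of_normHom_eq_one σ hN
  obtain ⟨g', hg'⟩ : ∃ g', g' = scal t⁻¹ * g := ⟨_, rfl⟩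
  have hfixed : mapGL σ g' = g' := by
    rw [hg', map_mul, mapGL_scal, map_inv]
    conv_rhs => rw [hc, ← mul_assoc]
    refine congrArg (· * mapGL σ g) (Eq.trans ?_ (map_mul _ _ _))
    refine congrArg _ ?_
    rw [eq_inv_mul_iff_mul_eq, mul_inv_eq_iff_eq_mul, ht]
  have hent : ∀ i j, (g' : Matrix ι ι F) i j ∈ φ.range := fun i j =>
    (hfix _).2 (congrArg (fun u : GL ι F => (u : Matrix ι ι F) i j) hfixed)
  choose A hA using hent
  have hmap : (Matrix.of A).map φ = (g' : Matrix ι ι F) := Matrix.ext hA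
  have hdet : (Matrix.of A).det ≠ 0 := fun e => by
    have h1 := RingHom.map_det φ (Matrix.of A)
    rw [e, map_zero, RingHom.mapMatrix_apply, hmap] at h1
    exact (Matrix.GeneralLinearGroup.det g').ne_zero h1.symm
  refine ⟨t, Matrix.GeneralLinearGroup.mkOfDetNeZero _ hdet, ?_⟩
  rw [show Matrix.GeneralLinearGroup.map φ (Matrix.GeneralLinearGroup.mkOfDetNeZero _ hdet) = g' from
    Units.ext hmap, hg', ← mul_assoc, ← map_mul, mul_inv_cancel, map_one, one_mul]

set_option maxHeartbeats 2000000 in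
/-- The criterion for the standard field automorphism. -/
theorem base_criterion {q : QuadraticForm F (ι → F)} {P : GL ι F → Prop}
    {q₀ : QuadraticForm F₀ (ι → F₀)} {P₀ : GL ι F₀ → Prop} {φ : F₀ →+* F} (hB : Base q P q₀ P₀ φ)
    {σ : F ≃+* F} (hfix : ∀ a, a ∈ φ.range ↔ σ a = a) (hσ : Cfsg.IsSemisimilarityPair (⇑q) (1 : GL ι F) σ)
    {p : ℕ} [hp : Fact p.Prime] (hp2 : p ≠ 2) (ho : orderOf σ = p)
    [IsSimpleGroup (Cfsg.POmega F₀ (⇑q₀))]
    (hext : ∀ β : MulAut (Cfsg.POmega F (⇑q)), ∃ (g : GL ι F) (τ : F ≃+* F)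
      (hg : Cfsg.IsSemisimilarityPair (⇑q) g τ), β = semi g τ hg)
    (A : Subgroup (MulAut (Cfsg.POmega F (⇑q)))) (hinn : ∀ k : Cfsg.POmega F (⇑q), MulAut.conj k ∈ A)
    (hxA : semi 1 σ hσ ∈ A) :
    Cfsg.pPrimeCore p ↥(A ⊓ Subgroup.centralizer {semi 1 σ hσ}) ≠ ⊥ ↔
      Nat.Coprime p (Nat.card ↥(MonoidHom.eqLocus (semi 1 σ hσ).toMonoidHom
        (MonoidHom.id (Cfsg.POmega F (⇑q))))) := by
  haveI : Nonempty ι := Fintype.card_pos_iff.1 (by have := hB.par.seven; omega)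
  have hpow : ∀ k, ∃ hk : Cfsg.IsSemisimilarityPair (⇑q) (1 : GL ι F) (σ ^ k),
      semi 1 σ hσ ^ k = semi 1 (σ ^ k) hk := fun k => by
    have ht : tw σ (1 : GL ι F) k = 1 := by
      induction k with
      | zero => rfl
      | succ k ih => rw [tw, ih, map_one, one_mul]
    obtain ⟨hG, e⟩ := semi_pow hσ k
    have hk : Cfsg.IsSemisimilarityPair (⇑q) (1 : GL ι F) (σ ^ k) := ht ▸ hG
    exact ⟨hk, e.trans (semi_congr _ _ ht rfl)⟩
  have hxord : orderOf (semi 1 σ hσ) = p := by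
    refine orderOf_eq_prime ?_ fun e => ?_
    · obtain ⟨hk, e⟩ := hpow p
      rw [e]
      exact (semi_congr _ ⟨1, fun v => by simp⟩ rfl (ho ▸ pow_orderOf_eq_one σ)).trans (semi_one' _)
    · obtain ⟨r, hr⟩ := CharP.exists F
      haveI : Fact r.Prime := ⟨CharP.char_is_prime F r⟩
      exact hp.out.ne_one (by rw [← ho, orderOf_eq_one_iff]
                              exact (semi_eq_one_imp hB.par.geo hB.par.seven r hσ e).1)
  let Θ : hB.par₀.simP →* MulAut (Cfsg.POmega F (⇑q)) := hB.par.act.comp hB.simHom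
  have hker : Θ.ker = hB.par₀.act.ker := by
    ext g
    rw [MonoidHom.mem_ker, MonoidHom.mem_ker, MonoidHom.comp_apply, hB.par.act_eq_one_iff,
      hB.par₀.act_eq_one_iff]
    constructor
    · rintro ⟨a, ha⟩
      obtain ⟨b, hb, -⟩ := scal_descend φ ha
      exact ⟨b, hb⟩
    · rintro ⟨a, ha⟩
      refine ⟨Units.map φ.toMonoidHom a, ?_⟩
      rw [hB.simHom_coe, ha]
      refine Units.ext (Matrix.ext fun k l => ?_)
      show φ (Matrix.scalar ι (a : F₀) k l) = Matrix.scalar ι (φ a) k l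
      rcases eq_or_ne k l with rfl | hkl
      · simp [Matrix.scalar_apply]
      · simp [Matrix.scalar_apply, hkl]
  obtain ⟨S, hS⟩ : ∃ S, S = (Cfsg.Inn (Cfsg.POmega F₀ (⇑q₀))).comap hB.par₀.act := ⟨_, rfl⟩
  obtain ⟨L, hL⟩ : ∃ L, L = S.map Θ := ⟨_, rfl⟩
  -- the subgroup is isomorphic to the group over the fixed field
  obtain ⟨eL⟩ : Nonempty (Cfsg.POmega F₀ (⇑q₀) ≃* L) := by
    have h1 : (Cfsg.Inn (Cfsg.POmega F₀ (⇑q₀))) = S.map hB.par₀.act := by
      rw [hS, Subgroup.map_comap_eq_self hB.par₀.inn_le]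
    have hk : (hB.par₀.act.subgroupMap S).ker = (Θ.subgroupMap S).ker := by
      ext g
      rw [MonoidHom.mem_ker, MonoidHom.mem_ker, Subtype.ext_iff, Subtype.ext_iff]
      show hB.par₀.act (g : hB.par₀.simP) = 1 ↔ Θ (g : hB.par₀.simP) = 1
      rw [← MonoidHom.mem_ker, ← MonoidHom.mem_ker, hker]
    exact ⟨(MonoidHom.ofInjective (AutPOmega.conj_injective hB.par₀.geo hB.par₀.seven)).trans
      ((MulEquiv.subgroupCongr h1).trans
        ((QuotientGroup.quotientKerEquivOfSurjective _ (hB.par₀.act.subgroupMap_surjective S)).symm.trans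
          ((QuotientGroup.quotientMulEquivOfEq hk).trans
            ((QuotientGroup.quotientKerEquivOfSurjective _ (Θ.subgroupMap_surjective S)).trans
              (MulEquiv.subgroupCongr hL.symm)))))⟩
  haveI : Nontrivial L := eL.symm.toEquiv.nontrivial
  haveI hLs : IsSimpleGroup L := IsSimpleGroup.isSimpleGroup_of_surjective eL.toMonoidHom eL.surjective
  -- it is generated by fourth powers
  obtain ⟨M, hM⟩ : ∃ M, M = Subgroup.closure {y | ∃ l ∈ L, y = l ^ 4} := ⟨_, rfl⟩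
  have hML : M = L := by
    have hle : M ≤ L := by
      rw [hM, Subgroup.closure_le]
      rintro _ ⟨l, hl, rfl⟩
      exact L.pow_mem hl 4
    have hn : (M.subgroupOf L).Normal := by
      refine ⟨fun n hn l => ?_⟩
      rw [Subgroup.mem_subgroupOf] at hn ⊢
      have h2 : M.map (MulAut.conj (l : MulAut (Cfsg.POmega F (⇑q)))).toMonoidHom ≤ M := by
        rw [hM, MonoidHom.map_closure, Subgroup.closure_le]
        rintro _ ⟨_, ⟨l', hl', rfl⟩, rfl⟩
        exact Subgroup.subset_closure ⟨_, L.mul_mem (L.mul_mem l.2 hl') (L.inv_mem l.2),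
          by rw [map_pow]; rfl⟩
      exact h2 (Subgroup.mem_map_of_mem _ hn)
    rcases hn.eq_bot_or_eq_top with h | h
    · exfalso
      have h4 : IsPGroup 2 L := fun l => ⟨2, by
        have h1 : (l ^ 4) ∈ M.subgroupOf L := by
          rw [Subgroup.mem_subgroupOf, hM]
          exact Subgroup.subset_closure ⟨l, l.2, rfl⟩
        rwa [h, Subgroup.mem_bot] at h1⟩
      have h5 := (h4.of_equiv eL.symm)
      haveI : Nontrivial (Cfsg.POmega F₀ (⇑q₀)) := eL.toEquiv.nontrivial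
      haveI := h5.center_nontrivial
      exact (Subgroup.nontrivial_iff_ne_bot _).1 ‹_› (center_eq_bot_par hB.par₀)
    · exact le_antisymm hle (Subgroup.subgroupOf_eq_top.1 h)
  have hfour₀ : ∀ g : hB.par₀.simP, Θ g ^ 4 ∈ L := fun g => by
    rw [← map_pow, hL]
    refine Subgroup.mem_map_of_mem _ ?_
    rw [hS, Subgroup.mem_comap, map_pow]
    exact act_pow_four hB.par₀ g
  obtain ⟨J, hJ⟩ : ∃ J, J = (MulAut.conj : Cfsg.POmega F (⇑q) →* MulAut _).range ⊓
      Subgroup.centralizer {semi 1 σ hσ} := ⟨_, rfl⟩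
  have hfour : ∀ f ∈ J, f ^ 4 ∈ L := fun f hf => by
    rw [hJ] at hf
    obtain ⟨g, rfl⟩ := hB.par.inn_le hf.1
    obtain ⟨t, g₀, hg₀⟩ := hB.exists_base hfix hσ g (Subgroup.mem_centralizer_singleton_iff.1 hf.2)
    have e := semi_mul_one (isPair_scal (q := q) t) (hB.simHom g₀).2.1
    rw [semi_scal, one_mul] at e
    rw [show hB.par.act g = Θ g₀ from (e.trans (semi_congr _ g.2.1 hg₀.symm rfl)).symm]
    exact hfour₀ g₀
  have hLJ : L ≤ J := by
    rw [← hML, hM, Subgroup.closure_le]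
    rintro _ ⟨l, hl, rfl⟩
    rw [hL] at hl
    obtain ⟨g, -, rfl⟩ := hl
    rw [SetLike.mem_coe, hJ]
    exact ⟨act_pow_four hB.par _, Subgroup.pow_mem _
      (Subgroup.mem_centralizer_singleton_iff.2 (hB.commute_simHom hfix hσ g).eq) 4⟩
  refine core_ne_bot_iff (center_eq_bot_par hB.par) A hinn hxA hxord L (hJ ▸ hLJ) hLs ?_ ?_ ?_
  · intro c hc l hl
    have hcJ : ∀ f ∈ J, c * f * c⁻¹ ∈ J := by
      rw [hJ]
      rintro _ ⟨⟨k, rfl⟩, hf⟩
      refine ⟨⟨c k, MulEquiv.ext fun z => ?_⟩, ?_⟩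
      · show c k * z * (c k)⁻¹ = c (k * c⁻¹ z * k⁻¹)
        rw [map_mul, map_mul, map_inv, MulAut.apply_inv_self]
      · exact Subgroup.mul_mem _ (Subgroup.mul_mem _ hc hf) (Subgroup.inv_mem _ hc)
    have h1 : L.map (MulAut.conj c).toMonoidHom ≤ L := by
      conv_lhs => rw [← hML, hM, MonoidHom.map_closure]
      rw [Subgroup.closure_le]
      rintro _ ⟨_, ⟨l', hl', rfl⟩, rfl⟩
      show MulAut.conj c (l' ^ 4) ∈ L
      rw [map_pow]
      exact hfour _ (hcJ _ (hLJ hl'))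
    exact h1 (Subgroup.mem_map_of_mem _ hl)
  · intro hd
    rw [← hJ] at hd
    haveI : Finite (MulAut (Cfsg.POmega F (⇑q))) :=
      Finite.of_injective (fun e : MulAut (Cfsg.POmega F (⇑q)) => (e : _ → _)) DFunLike.coe_injective
    obtain ⟨f, hf⟩ := exists_prime_orderOf_dvd_card' p hd
    have hf' : orderOf (f : MulAut (Cfsg.POmega F (⇑q))) = p := by rw [Subgroup.orderOf_coe, hf]
    have h4 : orderOf ((f : MulAut (Cfsg.POmega F (⇑q))) ^ 4) = p := by
      rw [orderOf_pow, hf']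
      have : Nat.Coprime p 4 := by
        rw [show (4 : ℕ) = 2 ^ 2 by norm_num]
        exact ((Nat.coprime_primes hp.out Nat.prime_two).2 hp2).pow_right 2
      rw [this, Nat.div_one]
    exact h4 ▸ Subgroup.orderOf_dvd_natCard L (hfour _ f.2)
  · intro c hc hcl
    obtain ⟨h, τ, hh, rfl⟩ := hext c
    have hcm := Subgroup.mem_centralizer_singleton_iff.1 hc
    rw [semi_mul, semi_mul] at hcm
    obtain ⟨-, a, ha⟩ := semi_eq_semi hB.par.geo hB.par.seven _ _ hcm
    rw [map_one, mul_one, one_mul] at ha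
    obtain ⟨t, g₀, hg₀⟩ := exists_base_gl φ hfix ha
    have hτr : ∀ a, τ (φ a) ∈ φ.range := fun a => (hfix _).2 (by
      have e : σ (τ (φ a)) = τ (σ (φ a)) :=
        congrArg (fun f : F ≃+* F => f (φ a)) (AutPSL.ringAut_comm σ τ)
      rw [e, (hfix (φ a)).1 ⟨a, rfl⟩])
    choose tf htf using hτr
    let t₀ : F₀ →+* F₀ :=
      { toFun := tf
        map_one' := φ.injective (by rw [htf]; simp)
        map_zero' := φ.injective (by rw [htf]; simp)
        map_mul' := fun a b => φ.injective (by simp only [map_mul, htf])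
        map_add' := fun a b => φ.injective (by simp only [map_add, htf]) }
    obtain ⟨τ₀, hτ₀⟩ : ∃ τ₀ : F₀ ≃+* F₀, ∀ a, φ (τ₀ a) = τ (φ a) :=
      ⟨RingEquiv.ofBijective t₀ ⟨t₀.injective, Finite.injective_iff_surjective.1 t₀.injective⟩, htf⟩
    have hmapτ : ∀ s : GL ι F₀, mapGL τ (Matrix.GeneralLinearGroup.map φ s) =
        Matrix.GeneralLinearGroup.map φ (mapGL τ₀ s) := fun s =>
      Units.ext (Matrix.ext fun i j => (hτ₀ _).symm)
    have hg₀p : Cfsg.IsSemisimilarityPair (⇑q₀) g₀ τ₀ := by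
      obtain ⟨μ, hμ⟩ := id hh
      have hm : ∀ v : ι → F₀, (t : F) * t * φ (q₀ (mv g₀ (τ₀ ∘ v))) = (μ : F) * φ (τ₀ (q₀ v)) := fun v => by
        have h1 : (h : Matrix ι ι F) *ᵥ (fun i => τ ((φ ∘ v) i)) = (t : F) • (φ ∘ mv g₀ (τ₀ ∘ v)) := by
          show mv h _ = _
          rw [hg₀, mv_mul, scal_mv]
          congr 1
          funext i
          show _ = φ (mv g₀ (τ₀ ∘ v) i)
          rw [show (fun i => τ ((φ ∘ v) i)) = φ ∘ τ₀ ∘ v from funext fun i => (hτ₀ _).symm]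
          exact (RingHom.map_mulVec φ _ _ i).symm
        have h2 := hμ (φ ∘ v)
        rw [h1, QuadraticMap.map_smul, smul_eq_mul, hB.compat, hB.compat, ← hτ₀] at h2
        exact h2
      obtain ⟨v₀, hv₀⟩ := Cfsg.Agent.Orth.exists_ne_zero_value (V := ι → F₀) hB.par₀.nondeg
      obtain ⟨μ₀, hμ₀⟩ : ∃ μ₀ : F₀, μ₀ = q₀ (mv g₀ (τ₀ ∘ v₀)) / τ₀ (q₀ v₀) := ⟨_, rfl⟩
      have hv₁ : φ (τ₀ (q₀ v₀)) ≠ 0 := (map_ne_zero φ).2 ((map_ne_zero τ₀).2 hv₀)
      have ht0 : (t : F) * t ≠ 0 := mul_ne_zero t.ne_zero t.ne_zero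
      have hμe : (t : F) * t * φ μ₀ = μ := by
        rw [hμ₀, map_div₀, mul_div_assoc', hm, mul_div_assoc, div_self hv₁, mul_one]
      refine ⟨Units.mk0 μ₀ fun e => μ.ne_zero (by rw [← hμe, e, map_zero, mul_zero]), fun v => φ.injective ?_⟩
      refine mul_left_cancel₀ ht0 ?_
      rw [map_mul, ← mul_assoc ((t : F) * t), Units.val_mk0, hμe]
      exact hm v
    have hone : semi g₀ τ₀ hg₀p = 1 := by
      refine MulEquiv.ext fun z => ?_
      obtain ⟨s, hs⟩ := hB.par₀.inn_le ⟨z, rfl⟩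
      have hsS : s ∈ S := by rw [hS, Subgroup.mem_comap, hs]; exact ⟨z, rfl⟩
      have e := hcl _ (hL ▸ Subgroup.mem_map_of_mem Θ hsS)
      change semi h τ hh * semi (hB.simHom s : GL ι F) 1 _ =
        semi (hB.simHom s : GL ι F) 1 _ * semi h τ hh at e
      rw [semi_mul, semi_mul] at e
      obtain ⟨-, b, hb⟩ := semi_eq_semi hB.par.geo hB.par.seven _ _ e
      rw [mapGL_one, hB.simHom_coe, hmapτ, hg₀, mul_assoc, ← map_mul, ← mul_assoc (scal b),
        ← mul_assoc (scal b * _)] at hb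
      have hb' : Matrix.GeneralLinearGroup.map φ (g₀ * mapGL τ₀ (s : GL ι F₀) * g₀⁻¹ * (s : GL ι F₀)⁻¹) =
          scal b := by
        rw [map_mul, map_mul, map_inv, map_inv, mul_inv_eq_iff_eq_mul, mul_inv_eq_iff_eq_mul]
        refine ext_mv fun v => ?_
        have hv := congrArg (fun u : GL ι F => mv u v) hb
        simp only [map_mul, mv_mul, scal_mv, Transvec.mv_smul, smul_smul] at hv ⊢
        rw [← smul_smul] at hv
        exact smul_right_injective _ t.ne_zero hv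
      obtain ⟨b₀, hb₀, -⟩ := scal_descend φ hb'
      refine AutPOmega.conj_injective hB.par₀.geo hB.par₀.seven ?_
      rw [MulAut.one_apply, show MulAut.conj (semi g₀ τ₀ hg₀p z) =
          semi g₀ τ₀ hg₀p * MulAut.conj z * (semi g₀ τ₀ hg₀p)⁻¹ from MulEquiv.ext fun w => by
        show _ * w * _⁻¹ = semi g₀ τ₀ hg₀p (z * (semi g₀ τ₀ hg₀p)⁻¹ w * z⁻¹)
        rw [map_mul, map_mul, map_inv, MulAut.apply_inv_self], mul_inv_eq_iff_eq_mul, ← hs]
      show semi g₀ τ₀ hg₀p * semi (s : GL ι F₀) 1 _ = semi (s : GL ι F₀) 1 _ * semi g₀ τ₀ hg₀p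
      rw [mul_inv_eq_iff_eq_mul, mul_inv_eq_iff_eq_mul] at hb₀
      have e3 := semi_mul (isPair_scal (q := q₀) b₀) (isPair_comp s.2.1 hg₀p)
      rw [semi_scal, one_mul] at e3
      rw [semi_mul, semi_mul, e3]
      refine semi_congr _ _ ?_ (by rw [one_mul, mul_one, one_mul])
      rw [hb₀, mapGL_one, mapGL_one, mul_assoc]
    obtain ⟨r, hr⟩ := CharP.exists F₀
    haveI : Fact r.Prime := ⟨CharP.char_is_prime F₀ r⟩
    obtain ⟨hτ1, b, hb0, hbv⟩ := semi_eq_one_imp hB.par₀.geo hB.par₀.seven r hg₀p hone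
    have hτfix : ∀ a, σ a = a → τ a = a := fun a ha' => by
      obtain ⟨a₀, rfl⟩ := (hfix a).2 ha'
      rw [← hτ₀, hτ1, RingAut.one_apply]
    have hg₀s : g₀ = scal (Units.mk0 b hb0) := ext_mv fun v => by rw [hbv, scal_mv]; rfl
    haveI : Finite (F ≃+* F) :=
      Finite.of_injective (fun e : F ≃+* F => (e : F → F)) DFunLike.coe_injective
    obtain ⟨k, hk⟩ := (mem_powers_iff_mem_zpowers (x := σ)).2 (mem_zpowers_of_fix ho hτfix)
    obtain ⟨u, hu⟩ : ∃ u : Fˣ, h = scal u := ⟨t * Units.map φ.toMonoidHom (Units.mk0 b hb0), by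
      rw [hg₀, hg₀s]
      refine (congrArg (scal t * ·) (Units.ext (Matrix.ext fun i j => ?_))).trans (map_mul _ _ _).symm
      show φ (Matrix.scalar ι b i j) = Matrix.scalar ι (φ b) i j
      rcases eq_or_ne i j with rfl | hij
      · simp [Matrix.scalar_apply]
      · simp [Matrix.scalar_apply, hij]⟩
    change σ ^ k = τ at hk
    obtain ⟨hk', ek⟩ := hpow k
    refine ⟨(k : ℤ), ?_⟩
    show semi 1 σ hσ ^ (k : ℤ) = semi h τ hh
    rw [zpow_natCast, ek]
    have e3 := semi_mul (isPair_scal (q := q) u) hk'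
    rw [semi_scal, one_mul] at e3
    exact e3.trans (semi_congr _ _ (by rw [mapGL_one, mul_one, hu]) (by rw [hk, one_mul]))

end Cfsg.Agent.AutBalance
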