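import Cfsg.Agent.Lib.Orthogonal.Perp
import Cfsg.Agent.Lib.Orthogonal.OmegaIndex

/-!
Groups of isometries normalised by reflections, and semilinear maps fixing many lines: the geometric input for
the triviality of odd cores of centralisers of involutions.
-/

set_option autoImplicit false

namespace Cfsg.Agent.AutBalance

open QuadraticMap Module Cfsg.Agent.Orth

variable {K V : Type*} [Field K] [Finite K] [AddCommGroup V] [Module K V] [FiniteDimensional K V]
  {Q : QuadraticForm K V}

omit [Finite K] [FiniteDimensional K V] in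
/-- The span of an orthogonal anisotropic family is non-degenerate. -/
theorem orth_span_nondeg {k : ℕ} (h2 : (2 : K) ≠ 0) (s : Fin k → V)
    (ho : ∀ i j, i ≠ j → polar Q (s i) (s j) = 0) (hne : ∀ i, Q (s i) ≠ 0) :
    ∀ a ∈ Submodule.span K (Set.range s),
      (∀ b ∈ Submodule.span K (Set.range s), polar Q a b = 0) → a = 0 := by
  intro a ha h
  obtain ⟨c, rfl⟩ := (Submodule.mem_span_range_iff_exists_fun K).1 ha
  refine Finset.sum_eq_zero fun i _ => ?_
  have hi := h (s i) (Submodule.subset_span ⟨i, rfl⟩)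
  rw [← polarBilin_apply_apply, map_sum, LinearMap.sum_apply,
    Finset.sum_eq_single i (fun j _ hj => by simp [ho j i hj]) (fun h => absurd (Finset.mem_univ i) h)] at hi
  simp only [map_smul, LinearMap.smul_apply, polarBilin_apply_apply, smul_eq_mul, b_self (Q := Q)] at hi
  rw [(mul_eq_zero.1 hi).resolve_right (mul_ne_zero h2 (hne i)), zero_smul]

/-- Values taken orthogonally to an orthogonal family. -/
theorem exists_value_perp (hQ : (polarBilin Q).Nondegenerate) (h2 : (2 : K) ≠ 0) {k : ℕ} (s : Fin k → V)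
    (ho : ∀ i j, i ≠ j → polar Q (s i) (s j) = 0) (hne : ∀ i, Q (s i) ≠ 0) (hk : k + 2 ≤ finrank K V) (d : K) :
    ∃ x, Q x = d ∧ ∀ i, polar Q (s i) x = 0 := by
  classical
  have hP := orth_span_nondeg h2 s ho hne
  have hd : finrank K (Submodule.span K (Set.range s)) ≤ k :=
    (finrank_range_le_card s).trans (Fintype.card_fin k).le
  have hp := finrank_perp hP
  obtain ⟨x, hx⟩ := exists_value (Q := restr Q (perp Q (Submodule.span K (Set.range s))))
    (nondeg_restr (perp_nondeg hQ hP)) (by omega) d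
  exact ⟨x, hx, fun i => x.2 _ (Submodule.subset_span ⟨i, rfl⟩)⟩

/-- A non-zero vector orthogonal to an orthogonal family. -/
theorem exists_aniso_perp (hQ : (polarBilin Q).Nondegenerate) (h2 : (2 : K) ≠ 0) {k : ℕ} (s : Fin k → V)
    (ho : ∀ i j, i ≠ j → polar Q (s i) (s j) = 0) (hne : ∀ i, Q (s i) ≠ 0) (hk : k + 1 ≤ finrank K V) :
    ∃ x, Q x ≠ 0 ∧ ∀ i, polar Q (s i) x = 0 := by
  classical
  have hP := orth_span_nondeg h2 s ho hne
  have hd : finrank K (Submodule.span K (Set.range s)) ≤ k :=
    (finrank_range_le_card s).trans (Fintype.card_fin k).le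
  have hp := finrank_perp hP
  haveI : Nontrivial (perp Q (Submodule.span K (Set.range s))) :=
    Module.nontrivial_of_finrank_pos (R := K) (by omega)
  obtain ⟨x, hx⟩ := exists_ne_zero_value (nondeg_restr (perp_nondeg hQ hP))
  exact ⟨x, hx, fun i => x.2 _ (Submodule.subset_span ⟨i, rfl⟩)⟩

omit [Finite K] [FiniteDimensional K V] in
theorem hyp_sum_diff {z z' : V} (hz : Q z = 0) (hz' : Q z' = 0) {p : K} (hp : polar Q z z' = p) :
    Q (z + z') = p ∧ Q (z - z') = -p ∧ polar Q (z + z') (z - z') = 0 := by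
  refine ⟨?_, ?_, ?_⟩
  · rw [q_add, hz, hz', hp]; ring
  · rw [q_sub, hz, hz', hp]; ring
  · rw [b_add_left, b_sub_right, b_sub_right, b_self, b_self, hz, hz', b_comm z' z, hp]; ring

omit [Finite K] [FiniteDimensional K V] in
theorem orth_one {a : V} : ∀ i j : Fin 1, i ≠ j → polar Q (![a] i) (![a] j) = 0 :=
  fun i j h => absurd (Subsingleton.elim i j) h

omit [Finite K] [FiniteDimensional K V] in
theorem orth_two {a b : V} (h : polar Q a b = 0) : ∀ i j : Fin 2, i ≠ j → polar Q (![a, b] i) (![a, b] j) = 0 := by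
  intro i j hij
  fin_cases i <;> fin_cases j
  all_goals first
    | exact absurd rfl hij
    | exact h
    | exact (b_comm _ _).trans h

omit [Finite K] [FiniteDimensional K V] in
theorem orth_three {a b c : V} (h₁ : polar Q a b = 0) (h₂ : polar Q a c = 0) (h₃ : polar Q b c = 0) :
    ∀ i j : Fin 3, i ≠ j → polar Q (![a, b, c] i) (![a, b, c] j) = 0 := by
  intro i j hij
  fin_cases i <;> fin_cases j
  all_goals first
    | exact absurd rfl hij
    | exact h₁
    | exact h₂
    | exact h₃
    | exact (b_comm _ _).trans h₁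
    | exact (b_comm _ _).trans h₂
    | exact (b_comm _ _).trans h₃

/-- A semilinear map fixing the lines of enough anisotropic vectors is a scalar. -/
theorem semi_scalar {V' : Type*} [AddCommGroup V'] [Module K V'] (hQ : (polarBilin Q).Nondegenerate)
    (h2 : (2 : K) ≠ 0) (hn : 3 ≤ finrank K V) (i : V →ₗ[K] V') (hi : Function.Injective i)
    (L : V → V') (hLi : Function.Injective L) (τ : K → K) (hadd : ∀ x y, L (x + y) = L x + L y)
    (hsmul : ∀ a x, L (a • x) = τ a • L x) (good : V → Prop)
    (hgood : ∀ u, good u → Q u ≠ 0) (hstable : ∀ u x, good u → Q x = Q u → good x)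
    (heig : ∀ u, good u → ∃ l : K, L u = l • i u)
    (hex : ∀ z z', Q z = 0 → Q z' = 0 → polar Q z z' ≠ 0 →
      ∃ u, good u ∧ polar Q u z = 0 ∧ polar Q u z' = 0) :
    (∀ a, τ a = a) ∧ ∃ l : K, l ≠ 0 ∧ ∀ x, L x = l • i x := by
  have hsub : ∀ x y, L (x - y) = L x - L y := fun x y => by
    rw [eq_sub_iff_add_eq, ← hadd, sub_add_cancel]
  -- singular vectors orthogonal to a good one share its multiplier
  have key : ∀ u z, good u → Q z = 0 → polar Q u z = 0 → ∀ l : K, L u = l • i u → L z = l • i z := by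
    intro u z hu hz huz l hl
    rcases eq_or_ne z 0 with rfl | hz0
    · rw [map_zero, smul_zero]
      have := hsub u u
      rwa [sub_self, sub_self] at this
    have hq : ∀ s : K, Q (u + s • z) = Q u := fun s => by
      rw [q_add, QuadraticMap.map_smul, hz, b_smul_right, huz]; simp
    obtain ⟨μ, hμ⟩ := heig _ (hstable u _ hu (by simpa using hq 1))
    obtain ⟨ν, hν⟩ := heig _ (hstable u (u - z) hu (by simpa [sub_eq_add_neg] using hq (-1)))
    rw [hadd, hl, map_add] at hμ
    rw [hsub, hl, map_sub] at hν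
    have hsum : (μ + ν - 2 * l) • u + (μ - ν) • z = 0 := hi (by
      rw [map_zero, map_add, map_smul, map_smul]
      linear_combination (norm := module) (-1 : K) • hμ + (-1 : K) • hν)
    have h1 := congrArg (fun x => polar Q u x) hsum
    simp only [b_add_right, b_smul_right, b_zero_right, b_self (Q := Q), huz, mul_zero, add_zero] at h1
    have hl2 : μ + ν - 2 * l = 0 := (mul_eq_zero.1 h1).resolve_right (mul_ne_zero h2 (hgood u hu))
    rw [hl2, zero_smul, zero_add] at hsum
    have hμν : μ - ν = 0 := (smul_eq_zero.1 hsum).resolve_right hz0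
    have : μ = l := mul_left_cancel₀ h2 (by linear_combination hl2 + hμν)
    rw [this] at hμ
    linear_combination (norm := module) hμ
  have pair : ∀ z z', Q z = 0 → Q z' = 0 → polar Q z z' ≠ 0 →
      ∃ l : K, L z = l • i z ∧ L z' = l • i z' := by
    intro z z' hz hz' hp
    obtain ⟨u, hu, h1, h2'⟩ := hex z z' hz hz' hp
    obtain ⟨l, hl⟩ := heig u hu
    exact ⟨l, key u z hu hz h1 l hl, key u z' hu hz' h2' l hl⟩
  have huniq : ∀ {z : V} {l l' : K}, z ≠ 0 → L z = l • i z → L z = l' • i z → l = l' := fun {z l l'} hz0 h h' =>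
    sub_eq_zero.1 ((smul_eq_zero.1 (show (l - l') • i z = 0 by rw [sub_smul, ← h, ← h', sub_self])).resolve_right
      fun e => hz0 (hi (by rw [e, map_zero])))
  obtain ⟨e, he0, he⟩ := exists_singular hQ hn
  obtain ⟨f, hef, hf⟩ := exists_partner hQ he0 he
  obtain ⟨l, hle, hlf⟩ := pair e f he hf (by rw [hef]; exact one_ne_zero)
  have hf0 : f ≠ 0 := fun h => one_ne_zero (α := K) (by rw [← hef, h, b_zero_right])
  have hl0 : l ≠ 0 := fun h => he0 (hLi (by
    rw [hle, h, zero_smul]
    have := hsub e e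
    rw [sub_self, sub_self] at this
    exact this.symm))
  refine ⟨fun a => ?_, l, hl0, fun x => ?_⟩
  · rcases eq_or_ne a 0 with rfl | ha
    · have h0 := hsmul 0 e
      rw [zero_smul, hle] at h0
      have := hsub e e
      rw [sub_self, sub_self] at this
      rw [this, smul_smul] at h0
      exact (mul_eq_zero.1 ((smul_eq_zero.1 h0.symm).resolve_right fun e' => he0 (hi (by rw [e', map_zero])))).resolve_right hl0
    · obtain ⟨l', hle', hlf'⟩ := pair (a • e) f (by rw [QuadraticMap.map_smul, he, smul_zero]) hf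
        (by rw [b_smul_left, hef, mul_one]; exact ha)
      obtain rfl := huniq hf0 hlf' hlf
      rw [hsmul, hle, map_smul, smul_smul, smul_smul] at hle'
      have := (smul_eq_zero.1 (show (τ a * l' - l' * a) • i e = 0 by rw [sub_smul, hle', sub_self])).resolve_right
        fun e' => he0 (hi (by rw [e', map_zero]))
      exact mul_right_cancel₀ hl0 (by linear_combination this)
  · -- decompose along the hyperbolic pair
    obtain ⟨y, hy⟩ : ∃ y, y = x - polar Q x f • e - polar Q x e • f := ⟨_, rfl⟩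
    have hye : polar Q y e = 0 := by
      rw [hy, b_sub_left, b_sub_left, b_smul_left, b_smul_left, b_self, he, b_comm f e, hef]; ring
    have hyf : polar Q y f = 0 := by
      rw [hy, b_sub_left, b_sub_left, b_smul_left, b_smul_left, b_self, hf, hef]; ring
    obtain ⟨z, hz⟩ : ∃ z, z = y + e - Q y • f := ⟨_, rfl⟩
    have hzq : Q z = 0 := by
      rw [hz, sub_eq_add_neg, q_add, q_add, he, hye, ← neg_smul, QuadraticMap.map_smul, hf, b_smul_right,
        b_add_left, hyf, hef, smul_zero]
      ring
    have hzf : polar Q z f = 1 := by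
      rw [hz, b_sub_left, b_add_left, b_smul_left, b_self, hf, hyf, hef]; ring
    obtain ⟨l', hlz, hlf'⟩ := pair z f hzq hf (by rw [hzf]; exact one_ne_zero)
    obtain rfl := huniq hf0 hlf' hlf
    have hscal : ∀ (a : K) (w : V), Q w = 0 → L w = l' • i w → (polar Q w e ≠ 0 ∨ polar Q w f ≠ 0) →
        L (a • w) = l' • i (a • w) := by
      intro a w hw hlw hor
      rcases eq_or_ne a 0 with rfl | ha
      · rw [zero_smul, map_zero, smul_zero]
        have := hsub e e
        rwa [sub_self, sub_self] at this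
      have hw0 : w ≠ 0 := fun h => by
        rcases hor with h' | h' <;> exact h' (by rw [h, b_zero_left])
      rcases hor with h' | h'
      · obtain ⟨μ, h3, h4⟩ := pair (a • w) e (by rw [QuadraticMap.map_smul, hw, smul_zero]) he
          (by rw [b_smul_left]; exact mul_ne_zero ha h')
        rw [huniq he0 hle h4]
        exact h3
      · obtain ⟨μ, h3, h4⟩ := pair (a • w) f (by rw [QuadraticMap.map_smul, hw, smul_zero]) hf
          (by rw [b_smul_left]; exact mul_ne_zero ha h')
        rw [huniq hf0 hlf h4]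
        exact h3
    have hse := fun a => hscal a e he hle (Or.inr (by rw [hef]; exact one_ne_zero))
    have hsf := fun a => hscal a f hf hlf (Or.inl (by rw [b_comm, hef]; exact one_ne_zero))
    have hLy : L y = l' • i y := by
      have e1 : y = z + Q y • f - e := by rw [hz]; abel
      rw [e1, hsub, hadd, hlz, hsf, hle]
      simp only [map_sub, map_add]
      module
    have e2 : x = y + polar Q x f • e + polar Q x e • f := by rw [hy]; abel
    rw [e2, hadd, hadd, hLy, hse, hsf]
    simp only [map_add]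
    module

variable {G : Type*} [Group G] (ρ : G →* (V ≃ₗ[K] V)) (R : V → G) (M : Subgroup G)

omit [Finite K] [FiniteDimensional K V] in
/-- Two orthogonal conjugate reflections cannot arise inside the group. -/
theorem refl_pair_false (h2 : (2 : K) ≠ 0)
    (hR : ∀ u, Q u ≠ 0 → ∀ x, ρ (R u) x = x - (polar Q x u / Q u) • u)
    (hRR : ∀ u, Q u ≠ 0 → R u * R u = 1)
    (hconj : ∀ g u, Q u ≠ 0 → g * R u * g⁻¹ = R (ρ g u))
    (hinv : ∀ m ∈ M, m * m = 1 → (∀ x, ρ m x = x) ∨ ∀ x, ρ m x = -x)
    {u v x : V} (hu : Q u ≠ 0) (hv : Q v ≠ 0) {T k : G} (he : R u * T * R v ∈ M)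
    (hk : ∀ m ∈ M, k * m * k⁻¹ ∈ M) (hkT : k * T = T * k) (hku : ρ k u = u) (hkv : Q (ρ k v) ≠ 0)
    (horth : polar Q v (ρ k v) = 0) (hx : polar Q x v = 0) (hx' : polar Q x (ρ k v) = 0) (hx0 : x ≠ 0) :
    False := by
  have he' : R u * T * R (ρ k v) ∈ M := by
    have h := hk _ he
    rwa [show k * (R u * T * R v) * k⁻¹ = (k * R u * k⁻¹) * (k * T * k⁻¹) * (k * R v * k⁻¹) by group,
      hconj k u hu, hconj k v hv, hku, hkT, mul_inv_cancel_right] at h
  have hm : R v * R (ρ k v) ∈ M := by
    have h := M.mul_mem (M.inv_mem he) he'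
    rwa [show (R u * T * R v)⁻¹ * (R u * T * R (ρ k v)) = (R v)⁻¹ * R (ρ k v) by group,
      inv_eq_of_mul_eq_one_left (hRR v hv)] at h
  have hcomm : R v * R (ρ k v) = R (ρ k v) * R v := by
    have h := hconj (R v) (ρ k v) hkv
    rw [hR v hv, b_comm, horth, zero_div, zero_smul, sub_zero, mul_inv_eq_iff_eq_mul] at h
    exact h
  have hsq : R v * R (ρ k v) * (R v * R (ρ k v)) = 1 := by
    conv_lhs => rw [mul_assoc, ← mul_assoc (R (ρ k v)), ← hcomm, mul_assoc, hRR _ hkv, mul_one]
    exact hRR v hv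
  have hap : ∀ y, ρ (R v * R (ρ k v)) y = ρ (R v) (ρ (R (ρ k v)) y) := fun y => by
    rw [map_mul]; rfl
  have hv0 : v ≠ 0 := fun h => hv (by rw [h, QuadraticMap.map_zero])
  rcases hinv _ hm hsq with h | h
  · have h1 := h v
    rw [hap, hR _ hkv, horth, zero_div, zero_smul, sub_zero, hR v hv, b_self, mul_div_assoc, div_self hv,
      mul_one] at h1
    exact hv0 ((smul_eq_zero.1 (sub_eq_self.1 h1)).resolve_left h2)
  · have h1 := h x
    rw [hap, hR _ hkv, hx', zero_div, zero_smul, sub_zero, hR v hv, hx, zero_div, zero_smul, sub_zero] at h1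
    have : (2 : K) • x = 0 := by linear_combination (norm := module) h1
    exact hx0 ((smul_eq_zero.1 this).resolve_left h2)

/-- In dimension at least five the group fixes the lines of a class of anisotropic vectors. -/
theorem eigen_five (hQ : (polarBilin Q).Nondegenerate) (h2 : (2 : K) ≠ 0) (hn : 5 ≤ finrank K V)
    (hiso : ∀ g x, Q (ρ g x) = Q x)
    (hR : ∀ u, Q u ≠ 0 → ∀ x, ρ (R u) x = x - (polar Q x u / Q u) • u)
    (hRR : ∀ u, Q u ≠ 0 → R u * R u = 1)
    (hconj : ∀ g u, Q u ≠ 0 → g * R u * g⁻¹ = R (ρ g u))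
    (hinv : ∀ m ∈ M, m * m = 1 → (∀ x, ρ m x = x) ∨ ∀ x, ρ m x = -x)
    {u : V} {m : G} (hu : Q u ≠ 0) {T : G} (he : R u * T * R (ρ m u) ∈ M)
    (hk : ∀ z z₁, Q z ≠ 0 → Q z₁ = Q z → polar Q z z₁ = 0 →
      ∃ k, (∀ m ∈ M, k * m * k⁻¹ ∈ M) ∧ k * T = T * k ∧ ρ k = ρ (R z) * ρ (R z₁)) :
    ρ m u = u ∨ ρ m u = -u := by
  obtain ⟨v, hv⟩ : ∃ v, v = ρ m u := ⟨_, rfl⟩
  rw [← hv] at he ⊢
  have hvq : Q v = Q u := hv ▸ hiso m u
  obtain ⟨c, hc⟩ : ∃ c, c = Q u := ⟨_, rfl⟩
  rw [← hc] at hvq hu
  have hc2 : (2 : K) * c ≠ 0 := mul_ne_zero h2 hu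
  obtain ⟨α, hα⟩ : ∃ α, α = polar Q u v / (2 * c) := ⟨_, rfl⟩
  obtain ⟨y, hy⟩ : ∃ y, y = v - α • u := ⟨_, rfl⟩
  have huy : polar Q u y = 0 := by
    rw [hy, b_sub_right, b_smul_right, b_self, ← hc, hα, div_mul_cancel₀ _ hc2, sub_self]
  rcases eq_or_ne y 0 with rfl | hy0
  · have hvu : v = α • u := sub_eq_zero.1 hy.symm
    rw [hvu, QuadraticMap.map_smul, smul_eq_mul, ← hc] at hvq
    rcases mul_self_eq_one_iff.1 (mul_right_cancel₀ hu (hvq.trans (one_mul c).symm)) with e | e
    · exact Or.inl (by rw [hvu, e, one_smul])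
    · exact Or.inr (by rw [hvu, e, neg_one_smul])
  exfalso
  -- a mirror turning the image into an orthogonal vector
  obtain ⟨z, z₁, huz, hyz, hqz, huz₁, hyz₁, hzz₁, hqz₁⟩ : ∃ z z₁, polar Q u z = 0 ∧ polar Q y z = 2 * c ∧
      Q z = 2 * c ∧ polar Q u z₁ = 0 ∧ polar Q y z₁ = 0 ∧ polar Q z z₁ = 0 ∧ Q z₁ = 2 * c := by
    by_cases hqy : Q y = 0
    · have hP := orth_span_nondeg (Q := Q) h2 ![u] (fun i j h => absurd (Subsingleton.elim i j) h)
        fun i => by rw [Subsingleton.elim i 0]; exact hc ▸ hu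
      obtain ⟨y', hy1, hy2⟩ := exists_partner (nondeg_restr (perp_nondeg hQ hP))
        (e := ⟨y, fun b hb => by
          obtain ⟨s, rfl⟩ := Submodule.mem_span_singleton.1 (by simpa using hb)
          rw [b_smul_left, huy, mul_zero]⟩) (fun e => hy0 (congrArg Subtype.val e)) hqy
      have huy' : polar Q u (y' : V) = 0 := y'.2 u (Submodule.subset_span (by simp))
      rw [polar_restr] at hy1
      change polar Q y (y' : V) = 1 at hy1
      change Q (y' : V) = 0 at hy2
      obtain ⟨h3, h4, h5⟩ := hyp_sum_diff (z := y) (z' := (2 * c) • (y' : V)) hqy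
        (by rw [QuadraticMap.map_smul, hy2, smul_zero]) (show polar Q y ((2 * c) • (y' : V)) = 2 * c by
          rw [b_smul_right, hy1, mul_one])
      obtain ⟨z₁, hz₁, hz₁o⟩ := exists_value_perp hQ h2
        ![u, y + (2 * c) • (y' : V), y - (2 * c) • (y' : V)] (orth_three
          (by rw [b_add_right, b_smul_right, huy, huy']; ring)
          (by rw [b_sub_right, b_smul_right, huy, huy']; ring) h5)
        (fun i => by
          fin_cases i
          · simpa using hc ▸ hu
          · simp [h3, hu, h2]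
          · simp [h4, hu, h2])
        (by omega) (2 * c)
      have o1 : polar Q u z₁ = 0 := by simpa using hz₁o 0
      have o2 : polar Q (y + (2 * c) • (y' : V)) z₁ = 0 := by simpa using hz₁o 1
      have o3 : polar Q (y - (2 * c) • (y' : V)) z₁ = 0 := by simpa using hz₁o 2
      refine ⟨y + (2 * c) • (y' : V), z₁, ?_, ?_, h3, o1, mul_left_cancel₀ h2 ?_, o2, hz₁⟩
      · rw [b_add_right, b_smul_right, huy, huy']; ring
      · rw [b_add_right, b_smul_right, b_self, hqy, hy1]; ring
      · rw [b_add_left] at o2; rw [b_sub_left] at o3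
        linear_combination o2 + o3
    · obtain ⟨d, hd⟩ : ∃ d, d = 2 * c - c * c / Q y := ⟨_, rfl⟩
      rcases eq_or_ne d 0 with hd0 | hd0
      · obtain ⟨z₁, hz₁, hz₁o⟩ := exists_value_perp hQ h2 ![u, y] (orth_two huy)
          (fun i => by
            fin_cases i
            · simpa using hc ▸ hu
            · simpa using hqy)
          (by omega) (2 * c)
        have o1 : polar Q u z₁ = 0 := by simpa using hz₁o 0
        have o2 : polar Q y z₁ = 0 := by simpa using hz₁o 1
        refine ⟨(c / Q y) • y, z₁, ?_, ?_, ?_, o1, o2, ?_, hz₁⟩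
        · rw [b_smul_right, huy, mul_zero]
        · rw [b_smul_right, b_self]; field_simp
        · rw [QuadraticMap.map_smul, smul_eq_mul]
          have hq : c = 2 * Q y := by
            rw [hd] at hd0
            field_simp at hd0
            first
              | linear_combination -hd0
              | exact mul_left_cancel₀ hu (by linear_combination -hd0)
          field_simp
          linear_combination hq
        · rw [b_smul_left, o2, mul_zero]
      · obtain ⟨w, hw, hwo⟩ := exists_value_perp hQ h2 ![u, y] (orth_two huy)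
          (fun i => by
            fin_cases i
            · simpa using hc ▸ hu
            · simpa using hqy)
          (by omega) d
        have o1 : polar Q u w = 0 := by simpa using hwo 0
        have o2 : polar Q y w = 0 := by simpa using hwo 1
        obtain ⟨z₁, hz₁, hz₁o⟩ := exists_value_perp hQ h2 ![u, y, w] (orth_three huy o1 o2)
          (fun i => by
            fin_cases i
            · simpa using hc ▸ hu
            · simpa using hqy
            · simp [hw, hd0])
          (by omega) (2 * c)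
        have p1 : polar Q u z₁ = 0 := by simpa using hz₁o 0
        have p2 : polar Q y z₁ = 0 := by simpa using hz₁o 1
        have p3 : polar Q w z₁ = 0 := by simpa using hz₁o 2
        refine ⟨(c / Q y) • y + w, z₁, ?_, ?_, ?_, p1, p2, ?_, hz₁⟩
        · rw [b_add_right, b_smul_right, huy, o1]; ring
        · rw [b_add_right, b_smul_right, b_self, o2]; field_simp; ring
        · rw [q_add, QuadraticMap.map_smul, smul_eq_mul, hw, b_smul_left, o2, hd]; field_simp; ring
        · rw [b_add_left, b_smul_left, p2, p3]; ring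
  obtain ⟨k, hkM, hkT, hkρ⟩ := hk z z₁ (hqz ▸ hc2) (hqz₁.trans hqz.symm) hzz₁
  have hzv : polar Q v z = 2 * c := by
    rw [show v = y + α • u by rw [hy]; abel, b_add_left, b_smul_left, huz, hyz]; ring
  have hz₁v : polar Q v z₁ = 0 := by
    rw [show v = y + α • u by rw [hy]; abel, b_add_left, b_smul_left, huz₁, hyz₁]; ring
  have hap : ∀ x, ρ k x = ρ (R z) (ρ (R z₁) x) := fun x => by rw [hkρ]; rfl
  have hku : ρ k u = u := by
    rw [hap, hR z₁ (hqz₁ ▸ hc2), huz₁, zero_div, zero_smul, sub_zero, hR z (hqz ▸ hc2), huz, zero_div, zero_smul,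
      sub_zero]
  have hkv : ρ k v = v - z := by
    rw [hap, hR z₁ (hqz₁ ▸ hc2), hz₁v, zero_div, zero_smul, sub_zero, hR z (hqz ▸ hc2), hzv, hqz,
      div_self hc2, one_smul]
  have horth : polar Q v (ρ k v) = 0 := by rw [hkv, b_sub_right, b_self, hvq, hzv]; ring
  refine refl_pair_false ρ R M h2 hR hRR hconj hinv (hc ▸ hu) (hvq ▸ hu) he hkM hkT hku
    (by rw [hiso, hvq]; exact hu) horth (x := z₁) ?_ ?_ ?_
  · rw [b_comm, hz₁v]
  · rw [hkv, b_sub_right, b_comm z₁ v, hz₁v, b_comm z₁ z, hzz₁, sub_zero]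
  · exact fun e => hc2 (by rw [← hqz₁, e, QuadraticMap.map_zero])

/-- In dimension three an element without eigenvalue minus one is scalar. -/
theorem eigen_three (hQ : (polarBilin Q).Nondegenerate) (h2 : (2 : K) ≠ 0) (hn : finrank K V = 3)
    (hiso : ∀ g x, Q (ρ g x) = Q x)
    (hR : ∀ u, Q u ≠ 0 → ∀ x, ρ (R u) x = x - (polar Q x u / Q u) • u)
    (hRR : ∀ u, Q u ≠ 0 → R u * R u = 1)
    (hconj : ∀ g u, Q u ≠ 0 → g * R u * g⁻¹ = R (ρ g u))
    (hinv : ∀ m ∈ M, m * m = 1 → (∀ x, ρ m x = x) ∨ ∀ x, ρ m x = -x)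
    {m : G} (hno : ∀ x, ρ m x = -x → x = 0) (he : ∀ u, Q u ≠ 0 → R u * R (ρ m u) ∈ M)
    (hk : ∀ z, Q z ≠ 0 → ∃ k, (∀ m ∈ M, k * m * k⁻¹ ∈ M) ∧ ρ k = ρ (R z)) :
    ∃ l : K, ∀ x, ρ m x = l • x := by
  haveI : Finite V := Module.finite_of_finite K
  have hiso' : ∀ x y, polar Q (ρ m x) (ρ m y) = polar Q x y := fun x y => by
    simp only [polar, ← map_add, hiso]
  -- singular images come from singular vectors
  have step : ∀ u, Q (u + ρ m u) = 0 → Q u = 0 := by
    intro u hw
    by_contra hu
    obtain ⟨c, hc⟩ : ∃ c, c = Q u := ⟨_, rfl⟩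
    rw [← hc] at hu
    have hc2 : (2 : K) * c ≠ 0 := mul_ne_zero h2 hu
    obtain ⟨y, hy⟩ : ∃ y, y = u + ρ m u := ⟨_, rfl⟩
    rw [← hy] at hw
    have huy : polar Q u y = 0 := by
      have h1 : Q (u + ρ m u) = 0 := hy ▸ hw
      rw [q_add, hiso, ← hc] at h1
      rw [hy, b_add_right, b_self, ← hc]
      linear_combination h1
    have hy0 : y ≠ 0 := fun e => by
      rw [hy] at e
      exact hu (by rw [hc, hno u (eq_neg_of_add_eq_zero_right e), QuadraticMap.map_zero])
    have hP := orth_span_nondeg (Q := Q) h2 ![u] (fun i j h => absurd (Subsingleton.elim i j) h)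
      fun i => by rw [Subsingleton.elim i 0]; exact hc ▸ hu
    obtain ⟨y', hy1, hy2⟩ := exists_partner (nondeg_restr (perp_nondeg hQ hP))
      (e := ⟨y, fun b hb => by
        obtain ⟨s, rfl⟩ := Submodule.mem_span_singleton.1 (by simpa using hb)
        rw [b_smul_left, huy, mul_zero]⟩) (fun e => hy0 (congrArg Subtype.val e)) hw
    have huy' : polar Q u (y' : V) = 0 := y'.2 u (Submodule.subset_span (by simp))
    rw [polar_restr] at hy1
    change polar Q y (y' : V) = 1 at hy1
    change Q (y' : V) = 0 at hy2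
    obtain ⟨z, hz⟩ : ∃ z, z = y + (2 * c) • (y' : V) := ⟨_, rfl⟩
    have hqz : Q z = 2 * c := by
      rw [hz, q_add, hw, QuadraticMap.map_smul, hy2, b_smul_right, hy1, smul_zero]; ring
    have huz : polar Q u z = 0 := by rw [hz, b_add_right, b_smul_right, huy, huy']; ring
    have hv : ρ m u = y - u := by rw [hy]; abel
    have hzv : polar Q (ρ m u) z = 2 * c := by
      rw [hv, b_sub_left, huz, hz, b_add_right, b_smul_right, b_self, hw, hy1]; ring
    obtain ⟨k, hkM, hkρ⟩ := hk z (hqz ▸ hc2)
    have hku : ρ k u = u := by rw [hkρ, hR z (hqz ▸ hc2), huz, zero_div, zero_smul, sub_zero]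
    have hkv : ρ k (ρ m u) = ρ m u - z := by
      rw [hkρ, hR z (hqz ▸ hc2), hzv, hqz, div_self hc2, one_smul]
    have horth : polar Q (ρ m u) (ρ k (ρ m u)) = 0 := by
      rw [hkv, b_sub_right, b_self, hiso, ← hc, hzv]; ring
    obtain ⟨x, hx, hxo⟩ := exists_aniso_perp hQ h2 ![ρ m u, ρ k (ρ m u)] (orth_two horth)
      (fun i => by fin_cases i <;> simp [hiso, ← hc, hu]) (by omega)
    refine refl_pair_false ρ R M h2 hR hRR hconj hinv (T := 1) (hc ▸ hu) (by rw [hiso, ← hc]; exact hu)
      (by rw [mul_one]; exact he u (hc ▸ hu)) hkM (by rw [mul_one, one_mul]) hku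
      (by rw [hiso, hiso, ← hc]; exact hu) horth (x := x) ?_ ?_ fun e => hx (by rw [e, QuadraticMap.map_zero])
    · rw [b_comm]; simpa using hxo 0
    · rw [b_comm]; simpa using hxo 1
  have hTinj : Function.Injective fun x => x + ρ m x := fun a b h => by
    refine sub_eq_zero.1 (hno (a - b) ?_)
    rw [map_sub]
    linear_combination (norm := module) h
  have hTsurj := Finite.injective_iff_surjective.1 hTinj
  choose S hS using hTsurj
  replace hS : ∀ w, S w + ρ m (S w) = w := hS
  have hcone : ∀ u, Q u = 0 → Q (u + ρ m u) = 0 := by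
    let S' : {x : V // Q x = 0} → {x : V // Q x = 0} := fun x => ⟨S x.1, step _ (by rw [hS]; exact x.2)⟩
    have hS' : Function.Injective S' := fun a b h => Subtype.ext (by
      rw [← hS a.1, ← hS b.1, show S a.1 = S b.1 from congrArg Subtype.val h])
    intro u hu
    obtain ⟨⟨w, hw⟩, he⟩ := Finite.injective_iff_surjective.1 hS' ⟨u, hu⟩
    rw [← show S w = u from congrArg Subtype.val he, hS]
    exact hw
  have hline : ∀ u, Q u = 0 → ∃ l : K, ρ m u = l • u := by
    intro u hu
    rcases eq_or_ne u 0 with rfl | hu0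
    · exact ⟨0, by rw [map_zero, smul_zero]⟩
    have h := hcone u hu
    rw [q_add, hu, hiso, hu, zero_add, zero_add] at h
    by_contra hne
    push Not at hne
    have hind : LinearIndependent K ![u, ρ m u] :=
      (LinearIndependent.pair_iff' hu0).2 fun t ht => hne t ht.symm
    have hle := finrank_singular_le hQ (W := Submodule.span K (Set.range ![u, ρ m u])) fun x hx => by
      obtain ⟨c, rfl⟩ := (Submodule.mem_span_range_iff_exists_fun K).1 hx
      simp [Fin.sum_univ_two, q_add, QuadraticMap.map_smul, hu, hiso, h, b_smul_left, b_smul_right]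
    rw [finrank_span_eq_card hind, Fintype.card_fin, hn] at hle
    omega
  obtain ⟨e, he0, he'⟩ := exists_singular hQ (by omega)
  obtain ⟨f, hef, hf⟩ := exists_partner hQ he0 he'
  obtain ⟨hs1, hs2, hs3⟩ := hyp_sum_diff he' hf hef
  obtain ⟨d, hd, hdo⟩ := exists_aniso_perp hQ h2 ![e + f, e - f] (orth_two hs3)
    (fun i => by fin_cases i <;> simp [hs1, hs2]) (by omega)
  have hde : polar Q e d = 0 := by
    have h1 : polar Q (e + f) d = 0 := by simpa using hdo 0
    have h2' : polar Q (e - f) d = 0 := by simpa using hdo 1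
    rw [b_add_left] at h1; rw [b_sub_left] at h2'
    exact mul_left_cancel₀ h2 (by linear_combination h1 + h2')
  have hdf : polar Q f d = 0 := by
    have h1 : polar Q (e + f) d = 0 := by simpa using hdo 0
    rw [b_add_left, hde, zero_add] at h1
    exact h1
  obtain ⟨p, hp⟩ := hline e he'
  obtain ⟨s, hs⟩ := hline f hf
  have hzq : ∀ t : K, t * t = 1 → Q (e - Q d • f + t • d) = 0 := fun t ht => by
    rw [q_add, sub_eq_add_neg, q_add, ← neg_smul, QuadraticMap.map_smul, QuadraticMap.map_smul, he', hf,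
      b_smul_right, b_smul_right, b_add_left, b_smul_left, hde, hdf, hef]
    simp only [smul_eq_mul]
    linear_combination Q d * ht
  obtain ⟨a, ha⟩ := hline _ (hzq 1 (one_mul 1))
  obtain ⟨b, hb⟩ := hline _ (hzq (-1) (by ring))
  simp only [map_add, map_sub, map_smul, map_neg, hp, hs, one_smul, neg_smul] at ha hb
  rw [← sub_eq_zero] at ha hb
  have key : ∀ x, (polar Q (p • e - Q d • s • f + ρ m d - a • (e - Q d • f + d)) x) +
      polar Q (p • e - Q d • s • f + -ρ m d - b • (e - Q d • f + -d)) x = 0 := fun x => by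
    rw [ha, hb, b_zero_left, add_zero]
  have k1 := key d
  have k2 := key f
  have k3 := key e
  simp only [b_sub_left, b_add_left, QuadraticMap.polar_neg_left, b_smul_left, hde, hdf, hef, b_self (Q := Q), he', hf,
    b_comm d f, b_comm d e, b_comm f e] at k1 k2 k3
  have hab : a = b := by
    have : (2 * Q d) * (a - b) = 0 := by linear_combination -k1
    exact sub_eq_zero.1 ((mul_eq_zero.1 this).resolve_left (mul_ne_zero h2 hd))
  subst hab
  have hpa : p = a := mul_left_cancel₀ h2 (by linear_combination k2)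
  have hsa : s = a := by
    have : (2 * Q d) * (s - a) = 0 := by linear_combination -k3
    exact sub_eq_zero.1 ((mul_eq_zero.1 this).resolve_left (mul_ne_zero h2 hd))
  rw [hpa] at hp ha
  rw [hsa] at hs ha
  have hdd : ρ m d = a • d := by
    linear_combination (norm := module) ha
  refine ⟨a, fun x => ?_⟩
  -- the three vectors span
  have hspan : Submodule.span K (Set.range ![e, f, d]) = ⊤ := by
    have hind : LinearIndependent K ![e, f, d] := Fintype.linearIndependent_iff.2 fun c hc => by
      simp only [Fin.sum_univ_three] at hc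
      simp at hc
      have j1 := congrArg (fun y => polar Q y f) hc
      have j2 := congrArg (fun y => polar Q y e) hc
      have j3 := congrArg (fun y => polar Q y d) hc
      simp [b_add_left, b_smul_left, b_self (Q := Q), he', hf, hef, hde, hdf, b_comm d f, b_comm d e,
        b_comm f e, h2, hd, b_zero_left] at j1 j2 j3
      intro i; fin_cases i <;> assumption
    exact hind.span_eq_top_of_card_eq_finrank (by simp [hn])
  have hx : x ∈ Submodule.span K (Set.range ![e, f, d]) := hspan ▸ Submodule.mem_top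
  obtain ⟨c, rfl⟩ := (Submodule.mem_span_range_iff_exists_fun K).1 hx
  simp [Fin.sum_univ_three, hp, hs, hdd, smul_comm a]

end Cfsg.Agent.AutBalance
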