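import Cfsg.Agent.Lib.AutBalance.ReflGen
import Mathlib.LinearAlgebra.Matrix.ToLin
import Mathlib.Algebra.CharP.Lemmas
import Mathlib.RingTheory.Nilpotent.Lemmas

/-!
Semilinear maps commuting with unipotent elements over a subfield fix the lines of their centres, and are
scalars when there are enough of these.
-/

set_option autoImplicit false

namespace Cfsg.Agent.AutBalance.Unip

open Matrix

variable {F : Type*} [Field F] {F₀ : Type*} [Field F₀] {n : ℕ}

/-- The semilinear map of a matrix and a field automorphism. -/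
def sl (h : GL (Fin n) F) (τ : F ≃+* F) (x : Fin n → F) : Fin n → F :=
  (h : Matrix (Fin n) (Fin n) F) *ᵥ (τ ∘ x)

theorem sl_add (h : GL (Fin n) F) (τ : F ≃+* F) (x y : Fin n → F) :
    sl h τ (x + y) = sl h τ x + sl h τ y := by
  rw [sl, sl, sl, ← mulVec_add]
  congr 1
  funext i
  simp

theorem sl_smul (h : GL (Fin n) F) (τ : F ≃+* F) (a : F) (x : Fin n → F) :
    sl h τ (a • x) = τ a • sl h τ x := by
  rw [sl, sl, ← mulVec_smul]
  congr 1
  funext i
  simp

theorem sl_zero (h : GL (Fin n) F) (τ : F ≃+* F) : sl h τ 0 = 0 := by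
  rw [sl, show (τ : F → F) ∘ (0 : Fin n → F) = 0 from funext fun i => map_zero τ, mulVec_zero]

theorem sl_sub (h : GL (Fin n) F) (τ : F ≃+* F) (x y : Fin n → F) :
    sl h τ (x - y) = sl h τ x - sl h τ y := by
  rw [eq_sub_iff_add_eq, ← sl_add, sub_add_cancel]

/-- The commutation with a matrix of the subfield. -/
def Comm (ι : F₀ →+* F) (h : GL (Fin n) F) (τ : F ≃+* F) (P : Matrix (Fin n) (Fin n) F₀) : Prop :=
  ∃ s : F, (h : Matrix (Fin n) (Fin n) F) * (P.map ι).map τ = s • (P.map ι * (h : Matrix (Fin n) (Fin n) F))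

/-- Conjugate unipotents differ by no scalar. -/
theorem nilp_of_conj (h : GL (Fin n) F) (hn : 0 < n) {A A' : Matrix (Fin n) (Fin n) F} (hAn : IsNilpotent A)
    (hA'n : IsNilpotent A') {s : F}
    (hs : (h : Matrix (Fin n) (Fin n) F) * (1 + A') = s • ((1 + A) * (h : Matrix (Fin n) (Fin n) F))) :
    (h : Matrix (Fin n) (Fin n) F) * A' = A * (h : Matrix (Fin n) (Fin n) F) := by
  haveI : Nonempty (Fin n) := ⟨⟨0, hn⟩⟩
  obtain ⟨C, hC⟩ : ∃ C, C = (h : Matrix (Fin n) (Fin n) F) * A' * ((h⁻¹ : GL (Fin n) F) : Matrix (Fin n) (Fin n) F) :=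
    ⟨_, rfl⟩
  have hCA : (h : Matrix (Fin n) (Fin n) F) * A' = C * (h : Matrix (Fin n) (Fin n) F) := by
    rw [hC, Matrix.mul_assoc _ _ (h : Matrix (Fin n) (Fin n) F), Units.inv_mul, Matrix.mul_one]
  have hCn : IsNilpotent C := by
    obtain ⟨k, hk⟩ := hA'n
    refine ⟨k, ?_⟩
    rw [hC]
    have : ∀ j : ℕ, ((h : Matrix (Fin n) (Fin n) F) * A' * ((h⁻¹ : GL (Fin n) F) : Matrix (Fin n) (Fin n) F)) ^ j =
        (h : Matrix (Fin n) (Fin n) F) * A' ^ j * ((h⁻¹ : GL (Fin n) F) : Matrix (Fin n) (Fin n) F) :=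
      fun j => Units.conj_pow h A' j
    rw [this, hk, Matrix.mul_zero, Matrix.zero_mul]
  have hC1 : 1 + C = s • (1 + A) := by
    refine h.isUnit.mul_right_cancel ?_
    rw [smul_mul_assoc, ← hs, Matrix.mul_add, Matrix.mul_one, Matrix.add_mul, Matrix.one_mul, hCA]
  have hcomm : Commute C (s • A) := by
    rw [show C = s • (1 : Matrix (Fin n) (Fin n) F) + s • A - 1 by rw [← smul_add, ← hC1]; abel]
    exact (((Commute.one_left (s • A)).smul_left s).add_left (Commute.refl _)).sub_left (Commute.one_left _)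
  have hd : IsNilpotent ((s - 1) • (1 : Matrix (Fin n) (Fin n) F)) := by
    rw [show (s - 1) • (1 : Matrix (Fin n) (Fin n) F) = C - s • A by
      rw [sub_smul, one_smul]; rw [smul_add] at hC1; linear_combination (norm := abel) -hC1]
    exact hcomm.isNilpotent_sub hCn (hAn.smul s)
  have hs1 : s = 1 := by
    obtain ⟨k, hk⟩ := hd
    rw [smul_pow, one_pow] at hk
    exact sub_eq_zero.1 (eq_zero_of_pow_eq_zero ((smul_eq_zero.1 hk).resolve_right one_ne_zero))
  rw [hs1, one_smul] at hC1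
  rw [hCA, add_left_cancel hC1]

/-- Commutation with a unipotent gives commutation with its nilpotent part. -/
theorem comm_nilpotent (ι : F₀ →+* F) (h : GL (Fin n) F) (τ : F ≃+* F) (hn : 0 < n)
    {N : Matrix (Fin n) (Fin n) F₀} (hN : IsNilpotent N) (hc : Comm ι h τ (1 + N)) :
    (h : Matrix (Fin n) (Fin n) F) * (N.map ι).map τ = N.map ι * (h : Matrix (Fin n) (Fin n) F) := by
  obtain ⟨s, hs⟩ := hc
  have e1 : (1 + N).map ι = 1 + N.map ι :=
    (map_add (RingHom.mapMatrix ι) 1 N).trans (by rw [map_one]; rfl)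
  have e2 : ((1 + N).map ι).map τ = 1 + (N.map ι).map τ := by
    rw [e1]
    exact (map_add (RingHom.mapMatrix (m := Fin n) τ.toRingHom) 1 (N.map ι)).trans (by rw [map_one]; rfl)
  rw [e2, e1] at hs
  have hAn : IsNilpotent (N.map ι) := hN.map (RingHom.mapMatrix ι)
  exact nilp_of_conj h hn hAn (hAn.map (RingHom.mapMatrix (m := Fin n) τ.toRingHom)) hs

/-- A rank one commutation fixes the line of the centre. -/
theorem line_of_rank_one (ι : F₀ →+* F) (h : GL (Fin n) F) (τ : F ≃+* F) {u f : Fin n → F₀} (hf : f ≠ 0)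
    (hc : (h : Matrix (Fin n) (Fin n) F) * ((vecMulVec u f).map ι).map τ =
      (vecMulVec u f).map ι * (h : Matrix (Fin n) (Fin n) F)) :
    ∃ l : F, sl h τ (ι ∘ u) = l • (ι ∘ u) := by
  obtain ⟨i, hi⟩ : ∃ i, f i ≠ 0 := Function.ne_iff.1 hf
  refine ⟨(τ (ι (f i)))⁻¹ * ∑ k, ι (f k) * (h : Matrix (Fin n) (Fin n) F) k i, funext fun j => ?_⟩
  have e := congrFun (congrFun hc j) i
  simp only [Matrix.mul_apply, Matrix.map_apply, vecMulVec_apply, map_mul] at e
  rw [show ∑ x, (h : Matrix (Fin n) (Fin n) F) j x * (τ (ι (u x)) * τ (ι (f i))) =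
      (∑ x, (h : Matrix (Fin n) (Fin n) F) j x * τ (ι (u x))) * τ (ι (f i)) by
      rw [Finset.sum_mul]; exact Finset.sum_congr rfl fun x _ => by ring,
    show ∑ x, ι (u j) * ι (f x) * (h : Matrix (Fin n) (Fin n) F) x i =
      ι (u j) * ∑ x, ι (f x) * (h : Matrix (Fin n) (Fin n) F) x i by
      rw [Finset.mul_sum]; exact Finset.sum_congr rfl fun x _ => by ring] at e
  have hne : τ (ι (f i)) ≠ 0 := by simpa using hi
  show ∑ x, (h : Matrix (Fin n) (Fin n) F) j x * τ (ι (u x)) = _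
  rw [Pi.smul_apply, Function.comp_apply, smul_eq_mul, mul_assoc, mul_comm _ (ι (u j)), ← e]
  field_simp

/-- Commutation with the square. -/
theorem comm_sq (ι : F₀ →+* F) (h : GL (Fin n) F) (τ : F ≃+* F) {N : Matrix (Fin n) (Fin n) F₀}
    (hc : (h : Matrix (Fin n) (Fin n) F) * (N.map ι).map τ = N.map ι * (h : Matrix (Fin n) (Fin n) F)) :
    (h : Matrix (Fin n) (Fin n) F) * ((N * N).map ι).map τ = (N * N).map ι * (h : Matrix (Fin n) (Fin n) F) := by
  rw [Matrix.map_mul, Matrix.map_mul, ← Matrix.mul_assoc, hc, Matrix.mul_assoc, hc, ← Matrix.mul_assoc]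

/-- A unipotent matrix has determinant one. -/
theorem det_one_add {r : ℕ} [Fact r.Prime] [CharP F₀ r] {N : Matrix (Fin n) (Fin n) F₀} (hN : IsNilpotent N) :
    (1 + N).det = 1 := by
  rcases isEmpty_or_nonempty (Fin n) with he | he
  · exact det_isEmpty
  obtain ⟨k, hk⟩ := hN
  have hle : k ≤ r ^ k := (Nat.lt_pow_self (Fact.out : r.Prime).one_lt).le
  have h1 : (1 + N) ^ r ^ k = 1 := by
    rw [add_pow_char_pow_of_commute _ _ (Commute.one_left N), one_pow, pow_eq_zero_of_le hle hk, add_zero]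
  have h2 := congrArg Matrix.det h1
  rw [det_pow, det_one] at h2
  haveI : ExpChar F₀ r := ExpChar.prime Fact.out
  exact (iterateFrobenius_inj F₀ r k) (by simpa [iterateFrobenius_def] using h2)

section scalar

variable (ι : F₀ →+* F) (h : GL (Fin n) F) (τ : F ≃+* F)

theorem comp_single (i : Fin n) : (ι : F₀ → F) ∘ (Pi.single i 1 : Fin n → F₀) = Pi.single i 1 :=
  funext fun k => by rcases eq_or_ne k i with rfl | hk <;> simp [*]

theorem eq_scalar_of_basis (hn : 0 < n) {l : F} (hl : ∀ i, sl h τ (Pi.single i 1) = l • Pi.single i 1) :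
    ∃ c : Fˣ, h = Matrix.GeneralLinearGroup.scalar (Fin n) c := by
  have hM : (h : Matrix (Fin n) (Fin n) F) = l • (1 : Matrix (Fin n) (Fin n) F) := by
    ext a b
    have e := congrFun (hl b) a
    rw [sl, show (τ : F → F) ∘ (Pi.single b 1 : Fin n → F) = Pi.single b 1 from
      funext fun k => by rcases eq_or_ne k b with rfl | hk <;> simp [*], mulVec_single_one] at e
    rw [show (h : Matrix (Fin n) (Fin n) F).col b a = (h : Matrix (Fin n) (Fin n) F) a b from rfl] at e
    rw [e]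
    simp [Matrix.one_apply, Pi.single_apply]
  have hl0 : l ≠ 0 := fun e => by
    haveI : Nonempty (Fin n) := ⟨⟨0, hn⟩⟩
    exact not_isUnit_zero (M₀ := Matrix (Fin n) (Fin n) F) (by rw [← zero_smul F (1 : Matrix (Fin n) (Fin n) F), ← e, ← hM]; exact h.isUnit)
  refine ⟨Units.mk0 l hl0, Units.ext ?_⟩
  rw [hM, Matrix.smul_one_eq_diagonal]
  rfl

theorem ne_single (i : Fin n) : (Pi.single i (1 : F) : Fin n → F) ≠ 0 :=
  Pi.single_ne_zero_iff.2 one_ne_zero

theorem pair_unique {i j : Fin n} (hij : i ≠ j) {a b c d : F}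
    (e : a • (Pi.single i 1 : Fin n → F) + b • Pi.single j 1 = c • Pi.single i 1 + d • Pi.single j 1) :
    a = c ∧ b = d :=
  ⟨by simpa [hij] using congrFun e i, by simpa [hij.symm] using congrFun e j⟩

/-- All rational lines fixed. -/
theorem scalar_of_all (hn : 2 ≤ n) (hall : ∀ u : Fin n → F₀, u ≠ 0 → ∃ l : F, sl h τ (ι ∘ u) = l • (ι ∘ u)) :
    (∀ a, τ (ι a) = ι a) ∧ ∃ c : Fˣ, h = Matrix.GeneralLinearGroup.scalar (Fin n) c := by
  have hb : ∀ i, ∃ l : F, sl h τ (Pi.single i 1) = l • Pi.single i 1 := fun i => by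
    obtain ⟨l, hl⟩ := hall (Pi.single i 1) (Pi.single_ne_zero_iff.2 one_ne_zero)
    rw [comp_single] at hl
    exact ⟨l, hl⟩
  choose l hl using hb
  have key : ∀ i j, i ≠ j → ∀ a : F₀, τ (ι a) * l j = ι a * l i := fun i j hij a => by
    obtain ⟨m, hm⟩ := hall (Pi.single i 1 + a • Pi.single j 1) (fun e => by simpa [hij] using congrFun e i)
    rw [show (ι : F₀ → F) ∘ (Pi.single i 1 + a • Pi.single j 1 : Fin n → F₀) =
      Pi.single i 1 + ι a • (Pi.single j 1 : Fin n → F) from funext fun k => by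
        simp [Pi.single_apply, apply_ite (ι : F₀ → F)],
      sl_add, sl_smul, hl, hl, smul_add, smul_smul, smul_smul] at hm
    obtain ⟨e1, e2⟩ := pair_unique hij hm
    rw [e2, ← e1, mul_comm]
  have heq : ∀ i j, l i = l j := fun i j => by
    rcases eq_or_ne i j with rfl | hij
    · rfl
    · have := key i j hij 1
      simpa using this.symm
  obtain ⟨i, j, hij⟩ : ∃ i j : Fin n, i ≠ j := ⟨⟨0, by omega⟩, ⟨1, by omega⟩, by simp [Fin.ext_iff]⟩
  have hl0 : l i ≠ 0 := fun e => by
    have h2 := hl i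
    rw [e, zero_smul, sl, ← Matrix.mulVec_zero (h : Matrix (Fin n) (Fin n) F)] at h2
    have h3 := (Matrix.mulVec_injective_iff_isUnit.2 h.isUnit) h2
    simpa using congrFun h3 i
  refine ⟨fun a => ?_, eq_scalar_of_basis h τ (by omega) (fun k => by rw [hl, heq k i])⟩
  have := key i j hij a
  rw [← heq i j] at this
  exact mul_right_cancel₀ hl0 this

/-- The rational isotropic lines of the standard Hermitian form fixed. -/
theorem scalar_of_isotropic [Fintype F₀] (hn : 3 ≤ n) (q : ℕ) (hq : Fintype.card F₀ = q ^ 2)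
    (S : Finset F₀) (hS : q + 1 ≤ S.card) (hS0 : (0 : F₀) ∉ S)
    (hall : ∀ (i j : Fin n), i ≠ j → ∀ a ∈ S, ∃ l : F,
      sl h τ (Pi.single i 1 + ι a • Pi.single j 1) = l • (Pi.single i 1 + ι a • Pi.single j 1)) :
    (∀ a, τ (ι a) = ι a) ∧ ∃ c : Fˣ, h = Matrix.GeneralLinearGroup.scalar (Fin n) c := by
  have hq1 : 1 ≤ q := Nat.one_le_iff_ne_zero.2 fun e => by
    rw [e] at hq; simp at hq
  obtain ⟨a, ha, a', ha', haa⟩ := Finset.one_lt_card.1 (show 1 < S.card by omega)
  have ha0 : ι a ≠ 0 := (map_ne_zero ι).2 fun e => hS0 (e ▸ ha)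
  have hne : ι a - ι a' ≠ 0 := sub_ne_zero.2 fun e => haa (ι.injective e)
  have hplane : ∀ i j, i ≠ j → ∃ x y : F, sl h τ (Pi.single j 1) = x • Pi.single i 1 + y • Pi.single j 1 := by
    intro i j hij
    obtain ⟨l, hl⟩ := hall i j hij a ha
    obtain ⟨l', hl'⟩ := hall i j hij a' ha'
    rw [sl_add, sl_smul] at hl hl'
    have hd : τ (ι a) - τ (ι a') ≠ 0 := sub_ne_zero.2 fun e => haa (ι.injective (τ.injective e))
    refine ⟨(τ (ι a) - τ (ι a'))⁻¹ * (l - l'), (τ (ι a) - τ (ι a'))⁻¹ * (l * ι a - l' * ι a'), ?_⟩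
    rw [mul_smul, mul_smul, ← smul_add, eq_inv_smul_iff₀ hd]
    linear_combination (norm := module) hl - hl'
  have hb : ∀ j, ∃ l : F, sl h τ (Pi.single j 1) = l • Pi.single j 1 := by
    intro j
    obtain ⟨i, k, hij, hkj, hik⟩ : ∃ i k : Fin n, i ≠ j ∧ k ≠ j ∧ i ≠ k := by
      by_cases h0 : j.val = 0
      · exact ⟨⟨1, by omega⟩, ⟨2, by omega⟩, by simp [Fin.ext_iff]; omega, by simp [Fin.ext_iff]; omega, by simp [Fin.ext_iff]⟩
      by_cases h1 : j.val = 1
      · exact ⟨⟨0, by omega⟩, ⟨2, by omega⟩, by simp [Fin.ext_iff]; omega, by simp [Fin.ext_iff]; omega, by simp [Fin.ext_iff]⟩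
      exact ⟨⟨0, by omega⟩, ⟨1, by omega⟩, by simp [Fin.ext_iff]; omega, by simp [Fin.ext_iff]; omega, by simp [Fin.ext_iff]⟩
    obtain ⟨x, y, hxy⟩ := hplane i j hij
    obtain ⟨z, w, hzw⟩ := hplane k j hkj
    refine ⟨y, ?_⟩
    have e := congrFun (hxy.symm.trans hzw) i
    simp [hij, hik] at e
    rw [hxy, e, zero_smul, zero_add]
  choose l hl using hb
  have key : ∀ i j, i ≠ j → ∀ b ∈ S, τ (ι b) * l j = ι b * l i := fun i j hij b hb' => by
    obtain ⟨m, hm⟩ := hall i j hij b hb'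
    rw [sl_add, sl_smul, hl, hl, smul_add, smul_smul, smul_smul] at hm
    obtain ⟨e1, e2⟩ := pair_unique hij hm
    rw [e2, ← e1, mul_comm]
  have hl0 : ∀ i, l i ≠ 0 := fun i e => by
    have h2 := hl i
    rw [e, zero_smul, sl, ← Matrix.mulVec_zero (h : Matrix (Fin n) (Fin n) F)] at h2
    have h3 := (Matrix.mulVec_injective_iff_isUnit.2 h.isUnit) h2
    simpa using congrFun h3 i
  have hta : τ (ι a) ≠ 0 := by simpa using (map_ne_zero ι).1 ha0
  have heq : ∀ j k, l j = l k := by
    intro j k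
    rcases eq_or_ne j k with rfl | hjk
    · rfl
    obtain ⟨i, hij, hik⟩ : ∃ i : Fin n, i ≠ j ∧ i ≠ k := by
      have hc : ({j, k} : Finset (Fin n)).card < (Finset.univ : Finset (Fin n)).card := by
        rw [Finset.card_pair hjk, Finset.card_univ, Fintype.card_fin]; omega
      obtain ⟨i, -, hi⟩ := Finset.exists_mem_notMem_of_card_lt_card hc
      simp only [Finset.mem_insert, Finset.mem_singleton, not_or] at hi
      exact ⟨i, hi.1, hi.2⟩
    exact mul_left_cancel₀ hta ((key i j hij a ha).trans (key i k hik a ha).symm)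
  obtain ⟨i, j, hij⟩ : ∃ i j : Fin n, i ≠ j := ⟨⟨0, by omega⟩, ⟨1, by omega⟩, by simp [Fin.ext_iff]⟩
  refine ⟨fun b => ?_, eq_scalar_of_basis h τ (by omega) (fun k => by rw [hl, heq k i])⟩
  -- the fixed elements form the whole field
  let K : Subfield F₀ := RingHom.eqLocusField (τ.toRingHom.comp ι) ι
  have hK : ∀ c, c ∈ K ↔ τ (ι c) = ι c := fun c => Iff.rfl
  classical
  have hsub : insert 0 S ⊆ Finset.univ.filter (· ∈ K) := by
    intro c hc
    rw [Finset.mem_filter]
    refine ⟨Finset.mem_univ _, ?_⟩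
    rcases Finset.mem_insert.1 hc with rfl | hc
    · exact K.zero_mem
    · rw [hK]
      have := key i j hij c hc
      rw [← heq i j] at this
      exact mul_right_cancel₀ (hl0 i) this
  have hcard : q + 2 ≤ Fintype.card K := by
    have := Finset.card_le_card hsub
    rw [Finset.card_insert_of_notMem hS0] at this
    rw [Fintype.card_subtype]
    omega
  have hpow := Module.card_eq_pow_finrank (K := K) (V := F₀)
  rw [hq] at hpow
  have hr : Module.finrank K F₀ = 1 := by
    rcases Nat.lt_or_ge (Module.finrank K F₀) 2 with h2 | h2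
    · have := Module.finrank_pos (R := K) (M := F₀)
      omega
    · exfalso
      have h3 : (q + 2) ^ 2 ≤ q ^ 2 := by
        rw [hpow]
        exact (Nat.pow_le_pow_left hcard 2).trans (Nat.pow_le_pow_right (by omega) h2)
      nlinarith
  rw [hr, pow_one] at hpow
  refine (hK b).1 ?_
  by_contra hb'
  have : Fintype.card K < Fintype.card F₀ := Fintype.card_subtype_lt hb'
  omega

open QuadraticMap Module Cfsg.Agent.Orth in
/-- The rational singular lines of a quadratic form fixed. -/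
theorem scalar_of_singular [Finite F₀] (h2 : (2 : F₀) ≠ 0) {Q : QuadraticForm F₀ (Fin n → F₀)}
    (hQ : (polarBilin Q).Nondegenerate) (hn : 3 ≤ n)
    (hall : ∀ e : Fin n → F₀, e ≠ 0 → Q e = 0 → ∃ l : F, sl h τ (ι ∘ e) = l • (ι ∘ e)) :
    (∀ a, τ (ι a) = ι a) ∧ ∃ c : Fˣ, h = Matrix.GeneralLinearGroup.scalar (Fin n) c := by
  have hdim : finrank F₀ (Fin n → F₀) = n := by simp
  obtain ⟨e, he0, he⟩ := exists_singular hQ (by omega)
  obtain ⟨f, hef, hf⟩ := exists_partner hQ he0 he
  have hf0 : f ≠ 0 := fun h => one_ne_zero (α := F₀) (by rw [← hef, h, b_zero_right])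
  have cadd : ∀ x y : Fin n → F₀, (ι : F₀ → F) ∘ (x + y) = ι ∘ x + ι ∘ y := fun x y =>
    funext fun k => map_add ι _ _
  have csmul : ∀ (a : F₀) (x : Fin n → F₀), (ι : F₀ → F) ∘ (a • x) = ι a • (ι ∘ x) := fun a x =>
    funext fun k => map_mul ι _ _
  obtain ⟨p, hp⟩ := hall e he0 he
  obtain ⟨s, hs⟩ := hall f hf0 hf
  -- extension of the pairing with a rational vector
  obtain ⟨φ, hφ⟩ : ∃ φ : (Fin n → F₀) → (Fin n → F) →ₗ[F] F,
      ∀ v y, φ v (ι ∘ y) = ι (polar Q y v) := by
    refine ⟨fun v => ∑ k, ι (polar Q (Pi.single k 1) v) • LinearMap.proj k, fun v y => ?_⟩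
    have e1 : polar Q y v = ∑ k, y k * polar Q (Pi.single k 1) v := by
      conv_lhs => rw [← polarBilin_apply_apply, pi_eq_sum_univ' y, map_sum, LinearMap.sum_apply]
      exact Finset.sum_congr rfl fun k _ => by rw [map_smul]; rfl
    rw [e1, map_sum, LinearMap.sum_apply]
    exact Finset.sum_congr rfl fun k _ => by
      rw [LinearMap.smul_apply, LinearMap.proj_apply, Function.comp_apply, smul_eq_mul, map_mul, mul_comm]
  -- the values on the orthogonal complement of the pair
  have key : ∀ y : Fin n → F₀, polar Q y e = 0 → polar Q y f = 0 → y ≠ 0 →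
      sl h τ (ι ∘ y) = p • (ι ∘ y) ∧ τ (ι (Q y)) * s = ι (Q y) * p := by
    intro y hye hyf hy
    have hq : ∀ t : F₀, t * t = 1 → Q (t • y + e + (-Q y) • f) = 0 := fun t ht => by
      rw [q_add, q_add, QuadraticMap.map_smul, QuadraticMap.map_smul, he, hf, b_smul_left, hye,
        b_smul_right, b_add_left, b_smul_left, hyf, hef]
      simp only [smul_eq_mul]
      linear_combination Q y * ht
    have hline : ∀ t : F₀, t * t = 1 → ∃ l : F, τ (ι t) • sl h τ (ι ∘ y) + p • (ι ∘ e) +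
        (τ (-ι (Q y)) * s) • (ι ∘ f) = (l * ι t) • (ι ∘ y) + l • (ι ∘ e) + (l * -ι (Q y)) • (ι ∘ f) := by
      intro t ht
      obtain ⟨l, hl⟩ := hall _ (fun h0 => by
        have := congrArg (fun v => polar Q v f) h0
        simp [b_add_left, b_smul_left, hyf, hef, b_self (Q := Q), hf, b_zero_left] at this) (hq t ht)
      refine ⟨l, ?_⟩
      rw [cadd, cadd, csmul, csmul, sl_add, sl_add, sl_smul, sl_smul, hp, hs, smul_add, smul_add,
        smul_smul, smul_smul, smul_smul, map_neg] at hl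
      exact hl
    obtain ⟨l, hl⟩ := hline 1 (one_mul 1)
    obtain ⟨m, hm⟩ := hline (-1) (by ring)
    simp only [map_neg, map_one, neg_mul, mul_neg, mul_one, one_smul, neg_smul] at hl hm
    have hsum : (l - m) • (ι ∘ y) + (l + m - 2 * p) • (ι ∘ e) +
        (2 * (τ (ι (Q y)) * s) - (l + m) * ι (Q y)) • (ι ∘ f) = (0 : Fin n → F) := by
      linear_combination (norm := module) -hl - hm
    have k1 := congrArg (φ f) hsum
    have k2 := congrArg (φ e) hsum
    simp only [map_add, map_smul, hφ, hyf, hye, hef, b_self (Q := Q), he, hf, b_comm f e, mul_zero, map_zero,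
      map_one, smul_eq_mul, zero_add, add_zero, mul_one] at k1 k2
    rw [k1, k2, zero_smul, zero_smul, add_zero, add_zero] at hsum
    have hy' : (ι : F₀ → F) ∘ y ≠ 0 := fun h0 => hy (funext fun k => ι.injective (by
      have := congrFun h0 k
      simpa using this))
    have hlm : l = m := sub_eq_zero.1 ((smul_eq_zero.1 hsum).resolve_right hy')
    subst hlm
    have h2F : (2 : F) ≠ 0 := fun e => h2 (ι.injective (by rw [map_ofNat, e, map_zero]))
    have hlp : l = p := mul_left_cancel₀ h2F (by linear_combination k1)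
    subst hlp
    have hqs : τ (ι (Q y)) * s = ι (Q y) * l := mul_left_cancel₀ h2F (by linear_combination k2)
    refine ⟨?_, hqs⟩
    rw [hqs, mul_comm (ι (Q y))] at hl
    linear_combination (norm := module) hl
  have hp0 : p ≠ 0 := fun e' => he0 (funext fun k => ι.injective (by
    have h3 := (Matrix.mulVec_injective_iff_isUnit.2 h.isUnit) (show (h : Matrix (Fin n) (Fin n) F) *ᵥ
      ((τ : F → F) ∘ (ι ∘ e)) = (h : Matrix (Fin n) (Fin n) F) *ᵥ 0 by
        rw [mulVec_zero]; exact hp.trans (by rw [e', zero_smul]))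
    simpa using congrFun h3 k))
  obtain ⟨hs1, hs2, hs3⟩ := hyp_sum_diff he hf hef
  obtain ⟨y₀, hy₀, hy₀o⟩ := exists_aniso_perp hQ h2 ![e + f, e - f] (orth_two hs3)
    (fun i => by fin_cases i <;> simp [hs1, hs2]) (by omega)
  have o1 : polar Q (e + f) y₀ = 0 := by simpa using hy₀o 0
  have o2 : polar Q (e - f) y₀ = 0 := by simpa using hy₀o 1
  rw [b_add_left] at o1
  rw [b_sub_left] at o2
  have hye : polar Q y₀ e = 0 := by
    rw [b_comm]; exact mul_left_cancel₀ h2 (by linear_combination o1 + o2)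
  have hyf : polar Q y₀ f = 0 := by
    rw [b_comm]; exact mul_left_cancel₀ h2 (by linear_combination o1 - o2)
  have hy00 : y₀ ≠ 0 := fun e' => hy₀ (by rw [e', QuadraticMap.map_zero])
  obtain ⟨k0, k0'⟩ := key y₀ hye hyf hy00
  have hτ : ∀ a, τ (ι a) = ι a := by
    intro a
    rcases eq_or_ne a 0 with rfl | ha
    · rw [map_zero, map_zero]
    obtain ⟨k1, -⟩ := key (a • y₀) (by rw [b_smul_left, hye, mul_zero]) (by rw [b_smul_left, hyf, mul_zero])
      (smul_ne_zero ha hy00)
    rw [csmul, sl_smul, k0, smul_smul, smul_smul] at k1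
    have hy' : (ι : F₀ → F) ∘ y₀ ≠ 0 := fun h0 => hy00 (funext fun k => ι.injective (by
      have := congrFun h0 k
      simpa using this))
    have := (smul_eq_zero.1 (sub_eq_zero.2 k1 |> fun e' => (sub_smul _ _ _).trans e')).resolve_right hy'
    exact mul_right_cancel₀ hp0 (by linear_combination this)
  have hsp : s = p := by
    rw [hτ] at k0'
    exact mul_left_cancel₀ ((map_ne_zero ι).2 hy₀) k0'
  have hallv : ∀ x : Fin n → F₀, sl h τ (ι ∘ x) = p • (ι ∘ x) := by
    intro x
    obtain ⟨y, hy⟩ : ∃ y, y = x - polar Q x f • e - polar Q x e • f := ⟨_, rfl⟩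
    have e2 : x = y + polar Q x f • e + polar Q x e • f := by rw [hy]; abel
    have hye' : polar Q y e = 0 := by
      rw [hy, b_sub_left, b_sub_left, b_smul_left, b_smul_left, b_self, he, b_comm f e, hef]; ring
    have hyf' : polar Q y f = 0 := by
      rw [hy, b_sub_left, b_sub_left, b_smul_left, b_smul_left, b_self, hf, hef]; ring
    have hy' : sl h τ (ι ∘ y) = p • (ι ∘ y) := by
      rcases eq_or_ne y 0 with hy0 | hy0
      · rw [show (ι : F₀ → F) ∘ y = 0 from funext fun k => by simp [hy0], sl_zero, smul_zero]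
      · exact (key y hye' hyf' hy0).1
    rw [e2, cadd, cadd, csmul, csmul, sl_add, sl_add, sl_smul, sl_smul, hτ, hτ, hy', hp, hs, hsp]
    module
  exact ⟨hτ, eq_scalar_of_basis h τ (by omega) fun i => by
    have := hallv (Pi.single i 1)
    rwa [comp_single] at this⟩

end scalar

end Cfsg.Agent.AutBalance.Unip
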