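import Cfsg.Agent.Lib.AutBalance.GraphCommon
import Cfsg.Agent.Lib.AutBalance.ReflGen
import Cfsg.Agent.Lib.AutBalance.UnipLines

/-!
Normal subgroups without involutions of full orthogonal groups, and Siegel unipotents as matrices.
-/

set_option autoImplicit false

namespace Cfsg.Agent.AutBalance

open Matrix QuadraticMap Module Cfsg.Agent.Orth

section Four

variable {K V : Type*} [Field K] [Finite K] [AddCommGroup V] [Module K V] [FiniteDimensional K V]
  {Q : QuadraticForm K V}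
variable {G : Type*} [Group G] (ρ : G →* (V ≃ₗ[K] V)) (R : V → G) (M : Subgroup G)

/-- In dimension at least four a product of two reflections inside the group joins dependent vectors. -/
theorem eigen_four (hQ : (polarBilin Q).Nondegenerate) (h2 : (2 : K) ≠ 0) (hn : 4 ≤ finrank K V)
    (hR : ∀ u, Q u ≠ 0 → ∀ x, ρ (R u) x = x - (polar Q x u / Q u) • u)
    (hRR : ∀ u, Q u ≠ 0 → R u * R u = 1)
    (hconj : ∀ g u, Q u ≠ 0 → g * R u * g⁻¹ = R (ρ g u))
    (hinv : ∀ m ∈ M, m * m = 1 → (∀ x, ρ m x = x) ∨ ∀ x, ρ m x = -x)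
    (hk : ∀ z, Q z ≠ 0 → ∀ m ∈ M, R z * m * (R z)⁻¹ ∈ M)
    {u v : V} (hu : Q u ≠ 0) (hvq : Q v = Q u) (he : R u * R v ∈ M) : v = u ∨ v = -u := by
  obtain ⟨c, hc⟩ : ∃ c, c = Q u := ⟨_, rfl⟩
  rw [← hc] at hvq hu
  have hc2 : (2 : K) * c ≠ 0 := mul_ne_zero h2 hu
  obtain ⟨α, hα⟩ : ∃ α, α = polar Q u v / (2 * c) := ⟨_, rfl⟩
  obtain ⟨y, hy⟩ : ∃ y, y = v - α • u := ⟨_, rfl⟩
  have huy : polar Q u y = 0 := by
    rw [hy, b_sub_right, b_smul_right, b_self, ← hc, hα, div_mul_cancel₀ _ hc2, sub_self]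
  rcases eq_or_ne y 0 with rfl | hy0
  · have hvu : v = α • u := sub_eq_zero.1 hy.symm
    rw [hvu, QuadraticMap.map_smul, smul_eq_mul, ← hc] at hvq
    rcases mul_self_eq_one_iff.1 (mul_right_cancel₀ hu (hvq.trans (one_mul c).symm)) with e | e
    · exact Or.inl (by rw [hvu, e, one_smul])
    · exact Or.inr (by rw [hvu, e, neg_one_smul])
  exfalso
  obtain ⟨z, huz, hyz, hqz⟩ : ∃ z, polar Q u z = 0 ∧ polar Q y z = 2 * c ∧ Q z = 2 * c := by
    by_cases hqy : Q y = 0
    · have hP := orth_span_nondeg (Q := Q) h2 ![u] (fun i j h => absurd (Subsingleton.elim i j) h)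
        fun i => by rw [Subsingleton.elim i 0]; exact hc ▸ hu
      obtain ⟨y', hy1, hy2⟩ := exists_partner (nondeg_restr (perp_nondeg hQ hP))
        (e := ⟨y, fun b hb => by
          obtain ⟨s, rfl⟩ := Submodule.mem_span_singleton.1 (by simpa using hb)
          rw [b_smul_left, huy, mul_zero]⟩) (fun e => hy0 (congrArg Subtype.val e)) hqy
      have huy' : polar Q u (y' : V) = 0 := y'.2 u (Submodule.subset_span (by simp))
      rw [polar_restr] at hy1
      change polar Q y (y' : V) = 1 at hy1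
      change Q (y' : V) = 0 at hy2
      refine ⟨y + (2 * c) • (y' : V), ?_, ?_, ?_⟩
      · rw [b_add_right, b_smul_right, huy, huy']; ring
      · rw [b_add_right, b_smul_right, b_self, hqy, hy1]; ring
      · rw [q_add, hqy, QuadraticMap.map_smul, hy2, b_smul_right, hy1, smul_zero]; ring
    · obtain ⟨w, hw, hwo⟩ := exists_value_perp hQ h2 ![u, y] (orth_two huy)
        (fun i => by
          fin_cases i
          · simpa using hc ▸ hu
          · simpa using hqy)
        (by omega) (2 * c - c * c / Q y)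
      have o1 : polar Q u w = 0 := by simpa using hwo 0
      have o2 : polar Q y w = 0 := by simpa using hwo 1
      refine ⟨(c / Q y) • y + w, ?_, ?_, ?_⟩
      · rw [b_add_right, b_smul_right, huy, o1]; ring
      · rw [b_add_right, b_smul_right, b_self, o2]; field_simp; ring
      · rw [q_add, QuadraticMap.map_smul, smul_eq_mul, hw, b_smul_left, o2]; field_simp; ring
  have hz0 : Q z ≠ 0 := hqz ▸ hc2
  have hzv : polar Q v z = 2 * c := by
    rw [show v = y + α • u by rw [hy]; abel, b_add_left, b_smul_left, huz, hyz]; ring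
  have hku : ρ (R z) u = u := by rw [hR z hz0, huz, zero_div, zero_smul, sub_zero]
  have hkv : ρ (R z) v = v - z := by rw [hR z hz0, hzv, hqz, div_self hc2, one_smul]
  have horth : polar Q v (ρ (R z) v) = 0 := by rw [hkv, b_sub_right, b_self, hvq, hzv]; ring
  have hkq : Q (ρ (R z) v) ≠ 0 := by
    rw [hkv, q_sub, hvq, hqz, hzv]
    simpa [show c + 2 * c - 2 * c = c by ring] using hu
  obtain ⟨x, hx, hxo⟩ := exists_aniso_perp hQ h2 ![v, ρ (R z) v] (orth_two horth)
    (fun i => by fin_cases i <;> simp [hvq, hu, hkq]) (by omega)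
  exact refl_pair_false ρ R M h2 hR hRR hconj hinv (T := 1) (hc ▸ hu) (hvq ▸ hu)
    (by rw [mul_one]; exact he) (hk z hz0) (by rw [mul_one, one_mul]) hku hkq horth (x := x)
    (by rw [b_comm]; simpa using hxo 0) (by rw [b_comm]; simpa using hxo 1)
    fun e => hx (by rw [e, QuadraticMap.map_zero])

end Four

section Core

open Cfsg.Agent.Transvec (mv mv_mul mv_inv_mv mv_mv_inv ext_mv mv_inj)
open Cfsg.Agent.Transvec.Orth (mem_isometry)
open Cfsg.Agent.AutPOmega (scal scal_mv)

variable {F : Type*} [Field F] [Finite F] {n : ℕ} {q : QuadraticForm F (Fin n → F)}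

/-- A subgroup of the orthogonal group normalised by it, of odd exponent modulo signs and without other
involutions, consists of scalars. -/
theorem iso_normal_scalar (h2 : (2 : F) ≠ 0) (hq : (polarBilin q).Nondegenerate) (hn : 3 ≤ n)
    (M : Subgroup (GL (Fin n) F)) (hM : M ≤ Cfsg.isometryGroup F (⇑q))
    (hnorm : ∀ k ∈ Cfsg.isometryGroup F (⇑q), ∀ m ∈ M, k * m * k⁻¹ ∈ M)
    (hinv : ∀ m ∈ M, m * m = 1 → m = 1 ∨ m = scal (-1)) (hneg : scal (-1) ∈ M)
    (hodd : ∀ m ∈ M, ∃ j : ℕ, Odd j ∧ (m ^ j = 1 ∨ m ^ j = scal (-1))) :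
    ∀ m ∈ M, ∃ c : F, ∀ x, mv m x = c • x := by
  classical
  let ρ : ↥(Cfsg.isometryGroup F (⇑q)) →* ((Fin n → F) ≃ₗ[F] (Fin n → F)) :=
    { toFun := fun k =>
        { toFun := mv (k : GL (Fin n) F)
          invFun := mv ((k⁻¹ : ↥(Cfsg.isometryGroup F (⇑q))) : GL (Fin n) F)
          map_add' := fun x y => Cfsg.Agent.Transvec.mv_add _ _ _
          map_smul' := fun c x => Cfsg.Agent.Transvec.mv_smul _ _ _
          left_inv := fun x => by rw [Subgroup.coe_inv]; exact mv_inv_mv _ x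
          right_inv := fun x => by rw [Subgroup.coe_inv]; exact mv_mv_inv _ x }
      map_one' := LinearEquiv.ext fun x => Cfsg.Agent.Transvec.mv_one x
      map_mul' := fun k k' => LinearEquiv.ext fun x => mv_mul _ _ x }
  obtain ⟨R, hR'⟩ : ∃ R : (Fin n → F) → ↥(Cfsg.isometryGroup F (⇑q)),
      ∀ u, (R u : GL (Fin n) F) = refl' q u := ⟨fun u => ⟨_, refl'_iso u⟩, fun u => rfl⟩
  obtain ⟨M', hM'⟩ : ∃ M', M' = M.subgroupOf (Cfsg.isometryGroup F (⇑q)) := ⟨_, rfl⟩
  have hR : ∀ u, q u ≠ 0 → ∀ x, ρ (R u) x = x - (polar q x u / q u) • u := fun u hu x => by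
    show mv (R u : GL (Fin n) F) x = _
    rw [hR', mv_refl' hu]
  have hRR : ∀ u, q u ≠ 0 → R u * R u = 1 := fun u hu => Subtype.ext (by
    rw [Subgroup.coe_mul, hR']; exact refl'_sq hu)
  have hconj : ∀ g u, q u ≠ 0 → g * R u * g⁻¹ = R (ρ g u) := fun g u hu => Subtype.ext (by
    rw [Subgroup.coe_mul, Subgroup.coe_mul, Subgroup.coe_inv, hR', hR']
    exact refl'_conj g.2 hu one_ne_zero (one_smul _ _).symm)
  have hnorm' : ∀ k : ↥(Cfsg.isometryGroup F (⇑q)), ∀ m ∈ M', k * m * k⁻¹ ∈ M' := fun k m hm => by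
    rw [hM', Subgroup.mem_subgroupOf] at hm ⊢
    exact hnorm _ k.2 _ hm
  have hinv' : ∀ m ∈ M', m * m = 1 → (∀ x, ρ m x = x) ∨ ∀ x, ρ m x = -x := fun m hm h => by
    rw [hM', Subgroup.mem_subgroupOf] at hm
    rcases hinv _ hm (congrArg Subtype.val h) with e | e
    · refine Or.inl fun x => ?_
      show mv (m : GL (Fin n) F) x = x
      rw [e, Cfsg.Agent.Transvec.mv_one]
    · refine Or.inr fun x => ?_
      show mv (m : GL (Fin n) F) x = -x
      rw [e, scal_mv]; simp
  have hpair : ∀ m ∈ M', ∀ u, q u ≠ 0 → R u * R (ρ m u) ∈ M' := fun m hm u hu => by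
    rw [← hconj m u hu, show R u * (m * R u * m⁻¹) = (R u * m * (R u)⁻¹) * m⁻¹ by
      rw [inv_eq_of_mul_eq_one_left (hRR u hu)]; group]
    exact M'.mul_mem (hnorm' _ m hm) (M'.inv_mem hm)
  have hdim : finrank F (Fin n → F) = n := by simp
  intro m hm
  have hs1 : (scal 1 : GL (Fin n) F) = 1 := ext_mv fun x => by
    rw [scal_mv, Cfsg.Agent.Transvec.mv_one, Units.val_one, one_smul]
  obtain ⟨m', hm', s, hms, hno⟩ : ∃ m' : ↥(Cfsg.isometryGroup F (⇑q)), m' ∈ M' ∧ ∃ s : F,
      (∀ x, mv m x = s • ρ m' x) ∧ ∀ x, ρ m' x = -x → x = 0 := by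
    obtain ⟨j, hj, hmj⟩ := hodd m hm
    obtain ⟨s, hs, hsj⟩ : ∃ s : Fˣ, (s = 1 ∨ s = -1) ∧ (scal s * m) ^ j = 1 := by
      rcases hmj with e | e
      · exact ⟨1, Or.inl rfl, by rw [hs1, one_mul, e]⟩
      · exact ⟨-1, Or.inr rfl, by
          rw [Commute.mul_pow (Cfsg.Agent.AutPOmega.scal_mul_comm _ _), ← map_pow, hj.neg_one_pow, e, ← map_mul,
            neg_one_mul, neg_neg, map_one]⟩
    have hmem : scal s * m ∈ M := M.mul_mem (by
      rcases hs with rfl | rfl
      · rw [hs1]; exact M.one_mem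
      · exact hneg) hm
    refine ⟨⟨_, hM hmem⟩, hM' ▸ hmem, (s : F), fun x => ?_, fun x hx => ?_⟩
    · show _ = (s : F) • mv (scal s * m) x
      rw [mv_mul, scal_mv, smul_smul]
      rcases hs with rfl | rfl <;> simp
    · change mv (scal s * m) x = -x at hx
      have hpow : ∀ i : ℕ, mv ((scal s * m) ^ i) x = ((-1 : F) ^ i) • x := fun i => by
        induction i with
        | zero => rw [pow_zero, pow_zero, one_smul, Cfsg.Agent.Transvec.mv_one]
        | succ i ih =>
          rw [pow_succ, mv_mul, hx, ← neg_one_smul F x, Cfsg.Agent.Transvec.mv_smul, ih, smul_smul, pow_succ,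
            mul_comm]
      have h1 := hpow j
      rw [hsj, hj.neg_one_pow, Cfsg.Agent.Transvec.mv_one] at h1
      have : (2 : F) • x = 0 := by linear_combination (norm := module) h1
      exact (smul_eq_zero.1 this).resolve_left h2
  suffices h : ∃ c : F, ∀ x, ρ m' x = c • x by
    obtain ⟨c, hc⟩ := h
    exact ⟨s * c, fun x => by rw [hms, hc, smul_smul]⟩
  rcases eq_or_lt_of_le hn with h3 | h4
  · exact eigen_three (Q := q) ρ R M' hq h2 (by omega) (fun g x => mem_isometry.1 g.2 x) hR hRR hconj hinv' hno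
      (fun u hu => hpair m' hm' u hu) fun z hz => ⟨R z, hnorm' _, rfl⟩
  · have heig : ∀ u, q u ≠ 0 → ∃ l : F, ρ m' u = l • u := fun u hu => by
      rcases eigen_four (Q := q) ρ R M' hq h2 (by omega) hR hRR hconj hinv' (fun z _ => hnorm' _) hu
        (mem_isometry.1 m'.2 u) (hpair m' hm' u hu) with e | e
      · exact ⟨1, by rw [one_smul]; exact e⟩
      · exact ⟨-1, by rw [neg_one_smul]; exact e⟩
    obtain ⟨-, l, -, hl⟩ := semi_scalar (Q := q) hq h2 (by omega) LinearMap.id Function.injective_id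
      (fun x => ρ m' x) (ρ m').injective id (fun x y => map_add _ _ _) (fun a x => map_smul _ _ _)
      (fun u => q u ≠ 0) (fun u h => h) (fun u x h e => e ▸ h) heig
      (fun z z' hz hz' hp => by
        obtain ⟨s1, s2, s3⟩ := hyp_sum_diff hz hz' (rfl : polar q z z' = _)
        obtain ⟨x, hx, hxo⟩ := exists_aniso_perp hq h2 ![z + z', z - z'] (orth_two s3)
          (fun i => by fin_cases i <;> simp [s1, s2, hp]) (by omega)
        have o1 : polar q (z + z') x = 0 := by simpa using hxo 0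
        have o2 : polar q (z - z') x = 0 := by simpa using hxo 1
        rw [b_add_left] at o1
        rw [b_sub_left] at o2
        refine ⟨x, hx, ?_, ?_⟩
        · rw [b_comm]; exact mul_left_cancel₀ h2 (by linear_combination o1 + o2)
        · rw [b_comm]; exact mul_left_cancel₀ h2 (by linear_combination o1 - o2))
    exact ⟨l, hl⟩

/-- The Siegel unipotent at a singular vector. -/
theorem exists_siegel_mat (h2 : (2 : F) ≠ 0) (hq : (polarBilin q).Nondegenerate) (hn : 3 ≤ n)
    {e : Fin n → F} (he0 : e ≠ 0) (he : q e = 0) :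
    ∃ (N : Matrix (Fin n) (Fin n) F) (f : Fin n → F), IsNilpotent N ∧ f ≠ 0 ∧ N * N = vecMulVec e f ∧
      ∀ v, q ((1 + N) *ᵥ v) = q v := by
  classical
  have hdim : finrank F (Fin n → F) = n := by simp
  obtain ⟨g, heg, hg⟩ := exists_partner hq he0 he
  obtain ⟨hs1, hs2, hs3⟩ := hyp_sum_diff he hg heg
  obtain ⟨x, hx, hxo⟩ := exists_aniso_perp hq h2 ![e + g, e - g] (orth_two hs3)
    (fun i => by fin_cases i <;> simp [hs1, hs2]) (by omega)
  have hex : polar q e x = 0 := by
    have o1 : polar q (e + g) x = 0 := by simpa using hxo 0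
    have o2 : polar q (e - g) x = 0 := by simpa using hxo 1
    rw [b_add_left] at o1; rw [b_sub_left] at o2
    exact mul_left_cancel₀ h2 (by linear_combination o1 + o2)
  have hdot : ∀ v y : Fin n → F, (fun k => polar q (Pi.single k 1) v) ⬝ᵥ y = polar q y v := fun v y => by
    conv_rhs => rw [← polarBilin_apply_apply, pi_eq_sum_univ' y, map_sum, LinearMap.sum_apply]
    exact Finset.sum_congr rfl fun k _ => by
      rw [map_smul, LinearMap.smul_apply, polarBilin_apply_apply, smul_eq_mul, mul_comm]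
  obtain ⟨b, hb⟩ : ∃ b : Fin n → F, ∀ y, b ⬝ᵥ y = polar q y e := ⟨_, hdot e⟩
  obtain ⟨a, ha⟩ : ∃ a : Fin n → F, ∀ y, a ⬝ᵥ y = polar q y x := ⟨_, hdot x⟩
  obtain ⟨N, hN⟩ : ∃ N, N = vecMulVec x b - vecMulVec e (a + q x • b) := ⟨_, rfl⟩
  have hNy : ∀ y, N *ᵥ y = polar q y e • x - (polar q y x + q x * polar q y e) • e := fun y => by
    rw [hN, sub_mulVec, vecMulVec_mulVec, vecMulVec_mulVec, add_dotProduct, smul_dotProduct, hb, ha,
      op_smul_eq_smul, op_smul_eq_smul, smul_eq_mul]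
  have h1 : ∀ y, polar q (N *ᵥ y) e = 0 := fun y => by
    rw [hNy, b_sub_left, b_smul_left, b_smul_left, b_comm x e, hex, b_self, he]; ring
  have h3 : ∀ y, polar q (N *ᵥ y) x = 2 * q x * polar q y e := fun y => by
    rw [hNy, b_sub_left, b_smul_left, b_smul_left, hex, b_self]; ring
  have hNN : N * N = vecMulVec e ((-(2 * q x)) • b) := by
    refine Matrix.ext_iff_mulVec.2 fun y => ?_
    rw [← mulVec_mulVec, hNy (N *ᵥ y), h1, h3, vecMulVec_mulVec, smul_dotProduct, hb, op_smul_eq_smul, smul_eq_mul]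
    module
  refine ⟨N, (-(2 * q x)) • b, ⟨3, ?_⟩, ?_, hNN, fun v => ?_⟩
  · refine Matrix.ext_iff_mulVec.2 fun y => ?_
    rw [pow_succ, pow_two, ← mulVec_mulVec, hNN, vecMulVec_mulVec, smul_dotProduct, hb, h1, zero_mulVec]
    simp
  · intro h0
    have e1 := congrArg (· ⬝ᵥ g) h0
    simp only [smul_dotProduct, hb, zero_dotProduct, b_comm g e, heg] at e1
    simp [h2, hx] at e1
  · rw [add_mulVec, one_mulVec, hNy, sub_eq_add_neg, ← neg_smul, q_add, q_add, QuadraticMap.map_smul,
      QuadraticMap.map_smul, he, b_smul_right, b_smul_left, b_add_right, b_smul_right, b_smul_right,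
      b_comm x e, hex]
    simp only [smul_eq_mul]
    ring

end Core

end Cfsg.Agent.AutBalance
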