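import Cfsg.Agent.Lib.AutBalance.LinField
import Cfsg.Agent.Lib.AutBalance.OrthCore
import Cfsg.Agent.Lib.AutPSL.GraphInvClasses
import Cfsg.Agent.Lib.AutPSp.Basic
import Cfsg.Agent.S0270

/-!
Odd cores of centralisers whose inner part contains the isometries of a symmetric or alternating form.
-/

set_option autoImplicit false

namespace Cfsg.Agent.AutBalance

open Matrix
open Cfsg.Agent.Transvec (mv)

variable {K : Type*} [Field K] {n : ℕ}

local notation "Mk" => Matrix (Fin n) (Fin n) K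

/-- The isometries of a bilinear form. -/
def isoSub (B : Matrix (Fin n) (Fin n) K) : Subgroup (GL (Fin n) K) where
  carrier := {g | (g : Mk)ᵀ * B * (g : Mk) = B}
  one_mem' := by simp
  mul_mem' {a b} ha hb := by
    show ((a * b : GL (Fin n) K) : Mk)ᵀ * B * ((a * b : GL (Fin n) K) : Mk) = B
    calc _ = (b : Mk)ᵀ * ((a : Mk)ᵀ * B * (a : Mk)) * (b : Mk) := by
          simp only [Units.val_mul, transpose_mul, Matrix.mul_assoc]
      _ = _ := by rw [show (a : Mk)ᵀ * B * (a : Mk) = B from ha]; exact hb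
  inv_mem' {a} ha := by
    show ((a⁻¹ : GL (Fin n) K) : Mk)ᵀ * B * ((a⁻¹ : GL (Fin n) K) : Mk) = B
    calc _ = ((a⁻¹ : GL (Fin n) K) : Mk)ᵀ * ((a : Mk)ᵀ * B * (a : Mk)) * ((a⁻¹ : GL (Fin n) K) : Mk) := by
          rw [show (a : Mk)ᵀ * B * (a : Mk) = B from ha]
      _ = ((a : Mk) * ((a⁻¹ : GL (Fin n) K) : Mk))ᵀ * B * ((a : Mk) * ((a⁻¹ : GL (Fin n) K) : Mk)) := by
          simp only [transpose_mul, Matrix.mul_assoc]
      _ = B := by rw [Units.mul_inv, transpose_one, Matrix.one_mul, Matrix.mul_one]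

theorem mem_isoSub {B : Mk} {g : GL (Fin n) K} : g ∈ isoSub B ↔ (g : Mk)ᵀ * B * (g : Mk) = B := Iff.rfl

variable [Fintype K]

/-- The semilinear maps commuting with the special isometries of a form over a subfield. -/
theorem forms_scalar {F : Type*} [Field F] (ι : K →+* F) (hn : 3 ≤ n) {r : ℕ} [Fact r.Prime] [CharP K r]
    (h2 : (2 : K) ≠ 0) {B : GL (Fin n) K} (hB : (B : Mk)ᵀ = (B : Mk) ∨ (B : Mk)ᵀ = -(B : Mk))
    {h : GL (Fin n) F} {τ : F ≃+* F}
    (hc : ∀ P : Mk, P.det = 1 → Pᵀ * (B : Mk) * P = (B : Mk) → Unip.Comm ι h τ P) :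
    (∀ a, τ (ι a) = ι a) ∧ ∃ c : Fˣ, h = Matrix.GeneralLinearGroup.scalar (Fin n) c := by
  have hcomm : ∀ N : Mk, IsNilpotent N → (1 + N)ᵀ * (B : Mk) * (1 + N) = (B : Mk) →
      (h : Matrix (Fin n) (Fin n) F) * (N.map ι).map τ = N.map ι * (h : Matrix (Fin n) (Fin n) F) :=
    fun N hN hiso => Unip.comm_nilpotent ι h τ (by omega) hN (hc _ (Unip.det_one_add (r := r) hN) hiso)
  rcases hB with hB | hB
  · have hq := SimForms.qf_nondeg h2 B.isUnit hB
    refine Unip.scalar_of_singular ι h τ h2 hq hn fun e he0 he => ?_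
    obtain ⟨N, f, hN, hf, hNN, hiso⟩ := exists_siegel_mat h2 hq hn he0 he
    refine Unip.line_of_rank_one ι h τ hf ?_
    rw [← hNN]
    refine Unip.comm_sq ι h τ (hcomm N hN (SimForms.eq_of_bl fun u v => ?_))
    have hd : ∀ w, SimForms.bl ((1 + N)ᵀ * (B : Mk) * (1 + N)) w w = SimForms.bl (B : Mk) w w := fun w => by
      rw [← SimForms.bl_mulVec, ← SimForms.qf_apply, hiso, SimForms.qf_apply]
    have hsym : ((1 + N)ᵀ * (B : Mk) * (1 + N))ᵀ = (1 + N)ᵀ * (B : Mk) * (1 + N) := by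
      simp only [transpose_mul, transpose_transpose, hB, Matrix.mul_assoc]
    have h3 := hd (u + v)
    simp only [SimForms.bl_add_left, SimForms.bl_add_right] at h3
    rw [hd u, hd v, SimForms.bl_comm hB v u, SimForms.bl_comm hsym v u] at h3
    exact mul_left_cancel₀ h2 (by linear_combination h3)
  · refine Unip.scalar_of_all ι h τ (by omega) fun u hu => ?_
    obtain ⟨f, hf⟩ : ∃ f, f = (B : Mk) *ᵥ u := ⟨_, rfl⟩
    have hf0 : f ≠ 0 := fun e => hu ((Matrix.mulVec_injective_iff_isUnit.2 B.isUnit) (by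
      rw [← hf, e, Matrix.mulVec_zero]))
    have hfu : f ⬝ᵥ u = 0 := by
      rw [dotProduct_comm, hf]
      exact AutPSL.alt_of_skew h2 hB u
    have hN : IsNilpotent (vecMulVec u f) := ⟨2, by
      rw [pow_two, vecMulVec_mul_vecMulVec, hfu, zero_smul]; ext; simp [vecMulVec_apply]⟩
    refine Unip.line_of_rank_one ι h τ hf0 (hcomm _ hN ?_)
    have h1 : (B : Mk) * vecMulVec u f = vecMulVec f f := by rw [Matrix.mul_vecMulVec, ← hf]
    have h2' : (vecMulVec u f)ᵀ * (B : Mk) = -vecMulVec f f := by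
      rw [transpose_vecMulVec, Matrix.vecMulVec_mul, ← Matrix.mulVec_transpose, hB, Matrix.neg_mulVec, ← hf]
      ext a b; simp [vecMulVec_apply]
    rw [transpose_add, transpose_one, Matrix.add_mul, Matrix.one_mul, h2', Matrix.mul_add, Matrix.mul_one,
      Matrix.add_mul, h1, Matrix.neg_mul, vecMulVec_mul_vecMulVec, hfu, zero_smul]
    ext a b; simp [vecMulVec_apply]

/-- Some special isometry is not scalar. -/
theorem exists_not_scalar (hn : 3 ≤ n) {r : ℕ} [Fact r.Prime] [CharP K r] (h2 : (2 : K) ≠ 0)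
    {B : GL (Fin n) K} (hB : (B : Mk)ᵀ = (B : Mk) ∨ (B : Mk)ᵀ = -(B : Mk)) :
    ∃ g : ↥(isoSub (B : Mk)), ((g : GL (Fin n) K) : Mk).det = 1 ∧
      ¬ ∃ c : Kˣ, (g : GL (Fin n) K) = Matrix.GeneralLinearGroup.scalar (Fin n) c := by
  by_contra hcon
  push Not at hcon
  haveI : Nontrivial (Fin n) := Fin.nontrivial_iff_two_le.2 (by omega)
  obtain ⟨i, j, hij⟩ := exists_pair_ne (Fin n)
  obtain ⟨t, ht⟩ : ∃ t : GL (Fin n) K, (t : Mk) = Matrix.transvection i j 1 :=
    ⟨((Matrix.isUnit_iff_isUnit_det (Matrix.transvection i j (1 : K))).2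
      (by rw [det_transvection_of_ne i j hij 1]; exact isUnit_one)).unit, rfl⟩
  obtain ⟨-, c, hc⟩ := forms_scalar (RingHom.id K) hn (r := r) h2 hB (h := t) (τ := 1) fun P hd hP => by
    have hu : IsUnit P := (Matrix.isUnit_iff_isUnit_det _).2 (by rw [hd]; exact isUnit_one)
    obtain ⟨c, hc⟩ := hcon ⟨hu.unit, hP⟩ hd
    refine ⟨1, ?_⟩
    have hP' : P = (c : K) • (1 : Mk) := by
      rw [Matrix.smul_one_eq_diagonal]
      exact congrArg (fun u : GL (Fin n) K => (u : Mk)) hc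
    have e1 : (P.map (RingHom.id K)).map (1 : K ≃+* K) = P := by ext a b; rfl
    have e2 : P.map (RingHom.id K) = P := by ext a b; rfl
    rw [one_smul, e1, e2, hP', Matrix.mul_smul, Matrix.smul_mul, Matrix.mul_one, Matrix.one_mul]
  have h01 : (t : Mk) = diagonal fun _ => (c : K) := congrArg (fun u : GL (Fin n) K => (u : Mk)) hc
  have := congrFun (congrFun h01 i) j
  simp [ht, Matrix.transvection, hij] at this

variable {X : Type*} [Group X] [Finite X] {x : MulAut X}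

/-- The inner part is nontrivial. -/
theorem forms_ne_bot (hn : 3 ≤ n) {r : ℕ} [Fact r.Prime] [CharP K r] (h2 : (2 : K) ≠ 0) {B : GL (Fin n) K}
    (hB : (B : Mk)ᵀ = (B : Mk) ∨ (B : Mk)ᵀ = -(B : Mk)) (φ : ↥(isoSub (B : Mk)) →* MulAut X)
    (hin : ∀ g : ↥(isoSub (B : Mk)), ((g : GL (Fin n) K) : Mk).det = 1 → φ g ∈ innCent x)
    (hone : ∀ g : ↥(isoSub (B : Mk)), φ g = 1 ↔
      ∃ c : Kˣ, (g : GL (Fin n) K) = Matrix.GeneralLinearGroup.scalar (Fin n) c) :
    innCent x ≠ ⊥ := fun h0 => by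
  obtain ⟨g, hgd, hg⟩ := exists_not_scalar hn (r := r) h2 hB
  exact hg ((hone g).1 (Subgroup.mem_bot.1 (h0 ▸ hin g hgd)))

/-- Trivial odd core when the inner part is governed by the isometries of a form. -/
theorem forms_core (hn : 3 ≤ n) {r : ℕ} [Fact r.Prime] [CharP K r] (h2 : (2 : K) ≠ 0) {B : GL (Fin n) K}
    (hB : (B : Mk)ᵀ = (B : Mk) ∨ (B : Mk)ᵀ = -(B : Mk)) (φ : ↥(isoSub (B : Mk)) →* MulAut X)
    (hcen : ∀ g, φ g ∈ Subgroup.centralizer {x})
    (hin : ∀ g : ↥(isoSub (B : Mk)), ((g : GL (Fin n) K) : Mk).det = 1 → φ g ∈ innCent x)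
    (hone : ∀ g : ↥(isoSub (B : Mk)), φ g = 1 ↔
      ∃ c : Kˣ, (g : GL (Fin n) K) = Matrix.GeneralLinearGroup.scalar (Fin n) c)
    (hnormal : ∀ j ∈ innCent x, ∀ g : ↥(isoSub (B : Mk)), ∃ g' : ↥(isoSub (B : Mk)),
      ((g' : GL (Fin n) K) : Mk).det = ((g : GL (Fin n) K) : Mk).det ∧ j * φ g * j⁻¹ = φ g')
    (hC : ∀ c ∈ Subgroup.centralizer {x}, (∀ g : ↥(isoSub (B : Mk)), ((g : GL (Fin n) K) : Mk).det = 1 →
      c * φ g = φ g * c) → (orderOf c).Coprime 2 → c = 1)
    (𝒢 : Subgroup (MulAut X)) (hinn : ∀ k : X, MulAut.conj k ∈ 𝒢) :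
    Cfsg.pPrimeCore 2 ↥(𝒢 ⊓ Subgroup.centralizer {x}) = ⊥ := by
  classical
  haveI : Fact (Nat.Prime 2) := ⟨Nat.prime_two⟩
  haveI : Nonempty (Fin n) := ⟨⟨0, by omega⟩⟩
  refine core_eq_bot (p := 2) 𝒢 hinn (fun M hM hMn hMc => ?_)
    fun c hc hcj hco => hC c hc (fun g hg => hcj _ (hin g hg)) hco
  have hsq : ∀ c ∈ M, c * c = 1 → c = 1 := fun c hc h => by
    have h1 : orderOf c ∣ 2 := orderOf_dvd_of_pow_eq_one (by rw [pow_two, h])
    exact orderOf_eq_one_iff.1 (Nat.eq_one_of_dvd_coprimes hMc.symm h1 (Subgroup.orderOf_dvd_natCard M hc))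
  rcases hB with hB | hB
  · -- symmetric forms
    have hq := SimForms.qf_nondeg h2 B.isUnit hB
    obtain ⟨O, hO⟩ : ∃ O, O = Cfsg.isometryGroup K (⇑(SimForms.qf (B : Mk))) := ⟨_, rfl⟩
    have hOiff : ∀ g : GL (Fin n) K, g ∈ O ↔ g ∈ isoSub (B : Mk) := fun g => by
      rw [hO, Cfsg.Agent.Transvec.Orth.mem_isometry, mem_isoSub]
      constructor
      · intro h
        refine SimForms.eq_of_bl fun u v => ?_
        have hd : ∀ w, SimForms.bl ((g : Mk)ᵀ * (B : Mk) * (g : Mk)) w w = SimForms.bl (B : Mk) w w := fun w => by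
          rw [← SimForms.bl_mulVec, ← SimForms.qf_apply, ← SimForms.qf_apply]; exact h w
        have hsym : ((g : Mk)ᵀ * (B : Mk) * (g : Mk))ᵀ = (g : Mk)ᵀ * (B : Mk) * (g : Mk) := by
          simp only [transpose_mul, transpose_transpose, hB, Matrix.mul_assoc]
        have h3 := hd (u + v)
        simp only [SimForms.bl_add_left, SimForms.bl_add_right] at h3
        rw [hd u, hd v, SimForms.bl_comm hB v u, SimForms.bl_comm hsym v u] at h3
        exact mul_left_cancel₀ h2 (by linear_combination h3)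
      · intro h v
        rw [SimForms.qf_apply, SimForms.qf_apply]
        show SimForms.bl _ ((g : Mk) *ᵥ v) ((g : Mk) *ᵥ v) = _
        rw [SimForms.bl_mulVec, h]
    obtain ⟨M₁, hM₁⟩ : ∃ M₁, M₁ = (M.comap φ).map (isoSub (B : Mk)).subtype := ⟨_, rfl⟩
    have hmem : ∀ g, g ∈ M₁ ↔ ∃ hg : g ∈ isoSub (B : Mk), φ ⟨g, hg⟩ ∈ M := fun g => by
      rw [hM₁]
      constructor
      · rintro ⟨⟨g', hg'⟩, hm, rfl⟩; exact ⟨hg', hm⟩
      · rintro ⟨hg, hm⟩; exact ⟨⟨g, hg⟩, hm, rfl⟩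
    have hneg : (Cfsg.Agent.AutPOmega.scal (-1 : Kˣ) : GL (Fin n) K) ∈ isoSub (B : Mk) := by
      rw [mem_isoSub, show ((Cfsg.Agent.AutPOmega.scal (-1 : Kˣ) : GL (Fin n) K) : Mk) = (-1 : K) • (1 : Mk) by
        rw [Matrix.smul_one_eq_diagonal]; rfl]
      simp
    have hsign : ∀ g (hg : g ∈ isoSub (B : Mk)), φ ⟨g, hg⟩ = 1 →
        g = 1 ∨ g = Cfsg.Agent.AutPOmega.scal (-1) := by
      intro g hg h
      obtain ⟨c, hc⟩ := (hone ⟨g, hg⟩).1 h
      change g = _ at hc
      have hval : (g : Mk) = (c : K) • (1 : Mk) := by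
        rw [hc, Matrix.smul_one_eq_diagonal]; rfl
      have e := mem_isoSub.1 hg
      rw [hval, transpose_smul, transpose_one, Matrix.smul_mul, Matrix.mul_smul, Matrix.one_mul,
        Matrix.mul_one, smul_smul] at e
      have hcc := SimForms.smul_cancel (fun h0 : (B : Mk) = 0 => not_isUnit_zero (h0 ▸ B.isUnit))
        (e.trans (one_smul K _).symm)
      rcases mul_self_eq_one_iff.1 hcc with e1 | e1
      · exact Or.inl (by rw [hc, show c = 1 from Units.ext e1, map_one])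
      · exact Or.inr (by rw [hc, show c = -1 from Units.ext e1])
    have hscal : ∀ g (hg : g ∈ isoSub (B : Mk)), φ ⟨g, hg⟩ ∈ M → φ ⟨g, hg⟩ = 1 := by
      have hall := iso_normal_scalar h2 hq hn M₁ (fun g hg => hO ▸ (hOiff g).2 ((hmem g).1 hg).1)
        (fun k hk m hm => by
          rw [← hO, hOiff] at hk
          rw [hmem] at hm ⊢
          obtain ⟨hm1, hm2⟩ := hm
          refine ⟨Subgroup.mul_mem _ (Subgroup.mul_mem _ hk hm1) (Subgroup.inv_mem _ hk), ?_⟩
          rw [show (⟨k * m * k⁻¹, _⟩ : ↥(isoSub (B : Mk))) = ⟨k, hk⟩ * ⟨m, hm1⟩ * (⟨k, hk⟩ : ↥(isoSub (B : Mk)))⁻¹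
            from Subtype.ext rfl, map_mul, map_mul, map_inv]
          exact hMn _ (hcen _) _ hm2)
        (fun m hm h => by
          obtain ⟨hm1, hm2⟩ := (hmem m).1 hm
          refine hsign m hm1 (hsq _ hm2 ?_)
          rw [← map_mul, show (⟨m, hm1⟩ * ⟨m, hm1⟩ : ↥(isoSub (B : Mk))) = 1 from Subtype.ext h, map_one])
        ((hmem _).2 ⟨hneg, by rw [(hone ⟨_, hneg⟩).2 ⟨-1, rfl⟩]; exact M.one_mem⟩)
        (fun m hm => by
          obtain ⟨hm1, hm2⟩ := (hmem m).1 hm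
          refine ⟨Nat.card M, Nat.coprime_two_right.1 hMc, hsign _ (Subgroup.pow_mem _ hm1 _) ?_⟩
          rw [show (⟨m ^ Nat.card M, _⟩ : ↥(isoSub (B : Mk))) = ⟨m, hm1⟩ ^ Nat.card M from Subtype.ext rfl,
            map_pow]
          exact congrArg Subtype.val (pow_card_eq_one' (x := (⟨_, hm2⟩ : M))))
      intro g hg hgm
      obtain ⟨c, hc⟩ := hall g ((hmem g).2 ⟨hg, hgm⟩)
      have hval : (g : Mk) = c • (1 : Mk) := Matrix.ext_iff_mulVec.2 fun w => by
        rw [smul_mulVec, one_mulVec]; exact hc w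
      have hc0 : c ≠ 0 := fun e => not_isUnit_zero (show IsUnit (0 : Mk) by simpa [hval, e] using g.isUnit)
      refine (hone ⟨g, hg⟩).2 ⟨Units.mk0 c hc0, Units.ext ?_⟩
      show (g : Mk) = _
      rw [hval, Matrix.smul_one_eq_diagonal]; rfl
    refine eq_bot_iff.2 fun m hm => Subgroup.mem_bot.2 (hC m (hM hm).2 (fun k _ => ?_)
      (hMc.coprime_dvd_left (Subgroup.orderOf_dvd_natCard M hm)))
    obtain ⟨k', -, hk'⟩ := hnormal m (hM hm) k
    have hd : φ (k' * k⁻¹) ∈ M := by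
      rw [map_mul, map_inv, ← hk', mul_assoc, mul_assoc, ← mul_assoc (φ k)]
      exact M.mul_mem hm (hMn _ (hcen k) _ (M.inv_mem hm))
    have e := hscal _ (k' * k⁻¹).2 hd
    rw [map_mul, map_inv, ← hk', mul_inv_eq_one, mul_inv_eq_iff_eq_mul] at e
    exact e
  · -- alternating forms
    have halt : SimForms.IsAltM (B : Mk) := AutPSL.alt_of_skew h2 hB
    obtain ⟨m, hm, P, Q, c, hPQ, hQP, hc⟩ := SimForms.cong_alt B.isUnit halt
    rw [Fintype.card_fin] at hm
    let ψ₀ : Matrix.symplecticGroup (Fin m) K →* GL (Fin n) K :=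
      (Units.mapEquiv (SimForms.conjMat Q P hQP hPQ)).toMonoidHom.comp (SimForms.spUnits m K)
    have hψ : ∀ s, (ψ₀ s : Mk) = P * (s : Matrix (Fin m ⊕ Fin m) (Fin m ⊕ Fin m) K) * Q := fun s => rfl
    have hQBQ : Qᵀ * Matrix.J (Fin m) K * Q = ((c⁻¹ : Kˣ) : K) • (B : Mk) := by
      rw [← inv_smul_smul₀ c.ne_zero (Matrix.J (Fin m) K), ← hc, Matrix.mul_smul, Matrix.smul_mul,
        Units.val_inv_eq_inv_val,
        show Qᵀ * (Pᵀ * (B : Mk) * P) * Q = (P * Q)ᵀ * (B : Mk) * (P * Q) by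
          simp only [transpose_mul, Matrix.mul_assoc], hPQ, transpose_one, Matrix.one_mul, Matrix.mul_one]
    have hψiso : ∀ s, (ψ₀ s : Mk).det = 1 ∧ ψ₀ s ∈ isoSub (B : Mk) := fun s => by
      refine ⟨?_, ?_⟩
      · rw [hψ, Matrix.det_conj_of_mul_eq_one hPQ hQP]
        exact SymplecticGroup.det_eq_one s.2
      · rw [mem_isoSub, hψ]
        calc (P * (s : Matrix (Fin m ⊕ Fin m) (Fin m ⊕ Fin m) K) * Q)ᵀ * (B : Mk) * (P * s.1 * Q)
            = Qᵀ * (s.1ᵀ * (Pᵀ * (B : Mk) * P) * s.1) * Q := by simp only [transpose_mul, Matrix.mul_assoc]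
          _ = _ := by
            rw [hc, Matrix.mul_smul, Matrix.smul_mul, SymplecticGroup.mem_iff'.1 s.2, Matrix.mul_smul,
              Matrix.smul_mul, hQBQ, smul_smul, ← Units.val_mul, mul_inv_cancel, Units.val_one, one_smul]
    let ψ : Matrix.symplecticGroup (Fin m) K →* ↥(isoSub (B : Mk)) := ψ₀.codRestrict _ fun s => (hψiso s).2
    have hsurj : ∀ g : ↥(isoSub (B : Mk)), ∃ s, ψ s = g := by
      rintro ⟨g, hg⟩
      refine ⟨⟨Q * (g : Mk) * P, SymplecticGroup.mem_iff'.2 (smul_right_injective _ c.ne_zero ?_)⟩,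
        Subtype.ext (Units.ext ?_)⟩
      · show (c : K) • _ = (c : K) • _
        rw [← Matrix.smul_mul, ← Matrix.mul_smul, ← hc]
        calc (Q * (g : Mk) * P)ᵀ * (Pᵀ * (B : Mk) * P) * (Q * (g : Mk) * P)
            = Pᵀ * ((g : Mk)ᵀ * ((P * Q)ᵀ * (B : Mk) * (P * Q)) * (g : Mk)) * P := by
              simp only [transpose_mul, Matrix.mul_assoc]
          _ = _ := by rw [hPQ, transpose_one, Matrix.one_mul, Matrix.mul_one, mem_isoSub.1 hg]
      · show (ψ₀ _ : Mk) = _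
        rw [hψ]
        show P * (Q * (g : Mk) * P) * Q = _
        rw [← Matrix.mul_assoc, ← Matrix.mul_assoc, hPQ, Matrix.one_mul, Matrix.mul_assoc, hPQ, Matrix.mul_one]
    let Θ : Matrix.symplecticGroup (Fin m) K →* MulAut X := φ.comp ψ
    have hLJ : Θ.range ≤ innCent x := by
      rintro _ ⟨s, rfl⟩
      exact hin _ (hψiso s).1
    refine hJ_of_image Θ.range hLJ ?_ ?_ (fun d hd hcl hco => hC d hd.2 (fun g hgd => ?_) hco) M hM hMn hMc
    · rintro j hj _ ⟨s, rfl⟩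
      obtain ⟨g', -, hg'⟩ := hnormal j hj (ψ s)
      obtain ⟨s', rfl⟩ := hsurj g'
      exact ⟨s', hg'.symm⟩
    · have hm2 : 2 ≤ m := by omega
      have hq3 : 3 ≤ Fintype.card K := by
        by_contra hlt
        refine h2 ?_
        haveI : CharP K 2 := charP_of_card_eq_prime_pow (R := K) (f := 1) (by
          rw [pow_one]; have := Fintype.one_lt_card (α := K); omega)
        exact CharTwo.two_eq_zero
      refine hL_of_simple Θ (S0270.result m hm2 fun _ => hq3) ?_ ?_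
      · intro z hz
        obtain ⟨b, hb⟩ := (AutPSp.mem_center_iff z).1 hz
        have hz1 : (z : Matrix (Fin m ⊕ Fin m) (Fin m ⊕ Fin m) K) = b • 1 :=
          Matrix.ext_iff_mulVec.2 fun w => by rw [smul_mulVec, one_mulVec]; exact hb w
        have hzn : (ψ₀ z : Mk) = b • (1 : Mk) := by
          rw [hψ, hz1, Matrix.mul_smul, Matrix.smul_mul, Matrix.mul_one, hPQ]
        have hb0 : b ≠ 0 := fun e => not_isUnit_zero
          (show IsUnit (0 : Mk) by simpa [hzn, e] using (ψ₀ z).isUnit)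
        refine (hone (ψ z)).2 ⟨Units.mk0 b hb0, Units.ext ?_⟩
        show (ψ₀ z : Mk) = _
        rw [hzn, Matrix.smul_one_eq_diagonal]; rfl
      · -- an involution
        obtain ⟨i₀⟩ : Nonempty (Fin m) := ⟨⟨0, by omega⟩⟩
        obtain ⟨d, hd⟩ : ∃ d : Fin m → K, d = fun i => if i = i₀ then -1 else 1 := ⟨_, rfl⟩
        obtain ⟨D, hD⟩ : ∃ D : Matrix (Fin m ⊕ Fin m) (Fin m ⊕ Fin m) K,
            D = Matrix.fromBlocks (diagonal d) 0 0 (diagonal d) := ⟨_, rfl⟩
        have hdd : diagonal d * diagonal d = (1 : Matrix (Fin m) (Fin m) K) := by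
          rw [diagonal_mul_diagonal, ← diagonal_one]
          congr 1
          funext i
          rw [hd]; dsimp only; split <;> simp
        have hD2 : D * D = 1 := by rw [hD, fromBlocks_multiply]; simp [hdd, fromBlocks_one]
        have hdi : ∀ i, d i * d i = 1 := fun i => by rw [hd]; dsimp only; split <;> simp
        have hDs : D ∈ Matrix.symplecticGroup (Fin m) K := by
          rw [SymplecticGroup.mem_iff, hD, fromBlocks_transpose, Matrix.J, fromBlocks_multiply,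
            fromBlocks_multiply]
          simp [hdd, hdi, ← diagonal_one, diagonal_neg]
        obtain ⟨s, hs⟩ : ∃ s : Matrix.symplecticGroup (Fin m) K,
            (s : Matrix (Fin m ⊕ Fin m) (Fin m ⊕ Fin m) K) = D := ⟨⟨D, hDs⟩, rfl⟩
        have hs2 : Θ s * Θ s = 1 := by
          rw [← map_mul, show s * s = 1 from Subtype.ext (by rw [Submonoid.coe_mul, hs, hD2]; rfl), map_one]
        have hs1 : Θ s ≠ 1 := fun e => by
          obtain ⟨b, hb⟩ := (hone (ψ s)).1 e
          have hval : (ψ₀ s : Mk) = (b : K) • (1 : Mk) := by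
            rw [Matrix.smul_one_eq_diagonal]
            exact congrArg (fun u : GL (Fin n) K => (u : Mk)) hb
          rw [hψ, hs] at hval
          have hDb : D = (b : K) • 1 := by
            calc D = Q * (P * D * Q) * P := by
                  simp only [Matrix.mul_assoc, hQP, Matrix.mul_one]
                  rw [← Matrix.mul_assoc, hQP, Matrix.one_mul]
              _ = _ := by rw [hval, Matrix.mul_smul, Matrix.smul_mul, Matrix.mul_one, hQP]
          haveI : Nontrivial (Fin m) := Fin.nontrivial_iff_two_le.2 hm2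
          obtain ⟨i₁, hi⟩ := exists_ne i₀
          have e0 := congrFun (congrFun hDb (Sum.inl i₀)) (Sum.inl i₀)
          have e1 := congrFun (congrFun hDb (Sum.inl i₁)) (Sum.inl i₁)
          simp [hD, hd] at e0
          simp [hD, hd, hi] at e1
          exact h2 (by linear_combination e1 - e0)
        rw [← orderOf_eq_prime (p := 2) (by rw [pow_two, hs2]) hs1]
        exact Subgroup.orderOf_dvd_natCard _ ⟨s, rfl⟩
    · obtain ⟨s, rfl⟩ := hsurj g
      exact hcl _ ⟨s, rfl⟩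

end Cfsg.Agent.AutBalance
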