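import Cfsg.Agent.Lib.AutBalance.FieldBase
import Cfsg.Agent.Lib.AutPOmega.GraphSplit

/-!
Odd cores of centralisers of similarity automorphisms of order two: reduction to statements about the
centraliser of the similarity in the isometry group.
-/

set_option autoImplicit false

namespace Cfsg.Agent.AutBalance

open Matrix QuadraticMap Cfsg.Agent.AutPOmega
open Cfsg.Agent.Orth (SpinVal sqc reflVal)
open Cfsg.Agent.Transvec (mv mv_mul mv_inv_mv mv_mv_inv ext_mv)
open Cfsg.Agent.Transvec.Orth (mem_isometry)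

variable {ι : Type} [Fintype ι] [DecidableEq ι] {F : Type*} [Field F] (q : QuadraticForm F (ι → F))

open Classical in
/-- The reflection at an anisotropic vector. -/
noncomputable def refl' (u : ι → F) : GL ι F :=
  if h : q u ≠ 0 then ((Cfsg.Agent.Orth.exists_reflection q h).choose : GL ι F) else 1

variable {q}

theorem refl'_iso (u : ι → F) : refl' q u ∈ Cfsg.isometryGroup F (⇑q) := by
  rw [refl']
  split_ifs with h
  · exact (Cfsg.Agent.Orth.exists_reflection q h).choose.2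
  · exact Subgroup.one_mem _

theorem refl'_matrix {u : ι → F} (h : q u ≠ 0) :
    ((refl' q u : GL ι F) : Matrix ι ι F) = Cfsg.reflectionMatrix (⇑q) u := by
  rw [refl', dif_pos h]
  exact (Cfsg.Agent.Orth.exists_reflection q h).choose_spec.1

theorem mv_refl' {u : ι → F} (h : q u ≠ 0) (x : ι → F) :
    mv (refl' q u) x = x - (polar q x u / q u) • u := by
  show ((refl' q u : GL ι F) : Matrix ι ι F) *ᵥ x = _
  rw [refl'_matrix h, Cfsg.Agent.Orth.reflectionMatrix_mulVec]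

theorem refl'_sq {u : ι → F} (h : q u ≠ 0) : refl' q u * refl' q u = 1 := by
  refine ext_mv fun x => ?_
  rw [mv_mul, mv_refl' h, mv_refl' h, Cfsg.Agent.Transvec.mv_one, polar_sub_left, polar_smul_left,
    QuadraticMap.polar_self, smul_eq_mul]
  rw [show (polar q x u - polar q x u / q u * (2 • q u)) / q u = -(polar q x u / q u) by
    rw [nsmul_eq_mul]; field_simp; push_cast; ring]
  module

theorem polar_iso {g : GL ι F} (hg : g ∈ Cfsg.isometryGroup F (⇑q)) (x y : ι → F) :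
    polar q (mv g x) (mv g y) = polar q x y := by
  simp only [polar, ← Cfsg.Agent.Transvec.mv_add, mem_isometry.1 hg]

/-- Conjugating a reflection. -/
theorem refl'_conj {g : GL ι F} (hg : g ∈ Cfsg.isometryGroup F (⇑q)) {u v : ι → F} (hu : q u ≠ 0) {s : F}
    (hs : s ≠ 0) (hv : v = s • mv g u) : g * refl' q u * g⁻¹ = refl' q v := by
  have hqv : q v = s * s * q u := by rw [hv, QuadraticMap.map_smul, mem_isometry.1 hg, smul_eq_mul]
  have hv0 : q v ≠ 0 := hqv ▸ mul_ne_zero (mul_ne_zero hs hs) hu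
  refine ext_mv fun x => ?_
  rw [mv_mul, mv_mul, mv_refl' hu, mv_refl' hv0, Cfsg.Agent.Transvec.mv_sub, Cfsg.Agent.Transvec.mv_smul,
    mv_mv_inv, hqv, show polar q (mv g⁻¹ x) u = polar q x (mv g u) by
      conv_rhs => rw [← mv_mv_inv g x, polar_iso hg]]
  rw [hv, polar_smul_right, smul_eq_mul, smul_smul]
  congr 2
  field_simp

theorem refl'_smul {u : ι → F} (hu : q u ≠ 0) {s : F} (hs : s ≠ 0) : refl' q (s • u) = refl' q u := by
  have := refl'_conj (g := 1) (Subgroup.one_mem _) hu hs (v := s • u) (by rw [Cfsg.Agent.Transvec.mv_one])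
  rwa [one_mul, inv_one, mul_one, eq_comm] at this

/-- Isometries commuting with a similarity. -/
def isoCent (q : QuadraticForm F (ι → F)) (g : GL ι F) : Subgroup (GL ι F) :=
  Cfsg.isometryGroup F (⇑q) ⊓ Subgroup.centralizer {g}

theorem mem_isoCent {g k : GL ι F} :
    k ∈ isoCent q g ↔ k ∈ Cfsg.isometryGroup F (⇑q) ∧ k * g = g * k := by
  rw [isoCent, Subgroup.mem_inf, Subgroup.mem_centralizer_singleton_iff]

theorem isoCent.iso {g : GL ι F} (k : isoCent q g) : (k : GL ι F) ∈ Cfsg.isometryGroup F (⇑q) :=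
  (mem_isoCent.1 k.2).1

theorem isoCent.comm {g : GL ι F} (k : isoCent q g) : (k : GL ι F) * g = g * (k : GL ι F) :=
  (mem_isoCent.1 k.2).2

variable [Fintype F]

/-- Membership in `Ω`. -/
def InOmega (q : QuadraticForm F (ι → F)) {g : GL ι F} (k : isoCent q g) : Prop :=
  (⟨(k : GL ι F), isoCent.iso k⟩ : Cfsg.isometryGroup F (⇑q)) ∈ Cfsg.Omega F (⇑q)

theorem inOmega_pair {g : GL ι F} {u w : ι → F} (hu : q u ≠ 0) (hw : q w ≠ 0) (hsq : IsSquare (q u * q w))
    (hq : (polarBilin q).Nondegenerate) (hn : 5 ≤ Fintype.card ι) (k : isoCent q g)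
    (hk : (k : GL ι F) = refl' q u * refl' q w) : InOmega q k := by
  obtain ⟨χ, hker, -, hrefl⟩ := Cfsg.Agent.Orth.exists_matrix_spinor q hq (by omega) (Or.inr (by omega))
  rw [InOmega, show (⟨(k : GL ι F), isoCent.iso k⟩ : Cfsg.isometryGroup F (⇑q)) =
    ⟨_, refl'_iso u⟩ * ⟨_, refl'_iso w⟩ from Subtype.ext hk, ← hker, MonoidHom.mem_ker, map_mul,
    hrefl ⟨_, refl'_iso u⟩ u hu (refl'_matrix hu), hrefl ⟨_, refl'_iso w⟩ w hw (refl'_matrix hw)]
  refine Prod.ext (show Multiplicative.ofAdd (1 : ZMod 2) * Multiplicative.ofAdd 1 = 1 by decide) ?_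
  show sqc F (q u) * sqc F (q w) = 1
  rw [← Cfsg.Agent.Orth.sqc_mul hu hw, Cfsg.Agent.Orth.sqc_eq_one_iff (mul_ne_zero hu hw)]
  exact hsq

/-- The reduction. -/
theorem graph_core_bot (hq : (polarBilin q).Nondegenerate) (h7 : 7 ≤ Fintype.card ι) {g : GL ι F}
    {l : Fˣ} (hgg : g * g = scal l) (hg : Cfsg.IsSemisimilarityPair (⇑q) g 1)
    (hext : ∀ β : MulAut (Cfsg.POmega F (⇑q)), ∃ (h : GL ι F) (τ : F ≃+* F)
      (hh : Cfsg.IsSemisimilarityPair (⇑q) h τ), β = semi h τ hh)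
    (A : Subgroup (MulAut (Cfsg.POmega F (⇑q)))) (hinn : ∀ k : Cfsg.POmega F (⇑q), MulAut.conj k ∈ A)
    (hM : ∀ M : Subgroup (isoCent q g), (∀ k : isoCent q g, InOmega q k → ∀ m ∈ M, k * m * k⁻¹ ∈ M) →
      (∀ m ∈ M, m * m = 1 → (∀ x, mv (m : GL ι F) x = x) ∨ ∀ x, mv (m : GL ι F) x = -x) →
      (∀ m ∈ M, ∀ m' : isoCent q g, (m' : GL ι F) = scal (-1) * (m : GL ι F) → m' ∈ M) →
      (∀ m ∈ M, ∃ j : ℕ, Odd j ∧ ((∀ x, mv ((m : GL ι F) ^ j) x = x) ∨ ∀ x, mv ((m : GL ι F) ^ j) x = -x)) →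
      ∀ m ∈ M, m * m = 1)
    (hC : ∀ (h : GL ι F) (τ : F ≃+* F), Cfsg.IsSemisimilarityPair (⇑q) h τ →
      (∃ s : Fˣ, h * mapGL τ g = scal s * (g * h)) →
      (∀ k : isoCent q g, InOmega q k →
        ∃ s : Fˣ, h * mapGL τ (k : GL ι F) = scal s * ((k : GL ι F) * h)) →
      τ = 1 ∧ ∃ c : Fˣ, h * h = scal c) :
    Cfsg.pPrimeCore 2 ↥(A ⊓ Subgroup.centralizer {semi g 1 hg}) = ⊥ := by
  have hgeo := geo_of q hq
  obtain ⟨B, hB⟩ : ∃ B, B = A ⊓ Subgroup.centralizer {semi g 1 hg} := ⟨_, rfl⟩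
  rw [← hB]
  by_contra hne
  obtain ⟨N, hNn, hNc, hNb⟩ := pPrimeCore_ne_bot_iff.1 hne
  refine hNb ?_
  obtain ⟨r, hr⟩ := CharP.exists F
  haveI : Fact r.Prime := ⟨CharP.char_is_prime F r⟩
  haveI : Finite (MulAut (Cfsg.POmega F (⇑q))) :=
    Finite.of_injective (fun e : MulAut (Cfsg.POmega F (⇑q)) => (e : _ → _)) DFunLike.coe_injective
  obtain ⟨N', hN'⟩ : ∃ N', N' = N.map B.subtype := ⟨_, rfl⟩
  have hodd : Odd (Nat.card N') := by
    rw [hN', Subgroup.card_map_of_injective B.subtype_injective]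
    exact Nat.coprime_two_right.1 hNc
  have hsq1 : ∀ y ∈ N', y * y = 1 → y = 1 := fun y hy h => by
    have h1 : orderOf y ∣ 2 := orderOf_dvd_of_pow_eq_one (by rw [pow_two, h])
    have h2 := Subgroup.orderOf_dvd_natCard N' hy
    exact orderOf_eq_one_iff.1 (Nat.eq_one_of_dvd_coprimes (Nat.coprime_two_right.2 hodd) h2 h1)
  let act : isoCent q g →* MulAut (Cfsg.POmega F (⇑q)) :=
    MonoidHom.mk' (fun k => semi (k : GL ι F) 1 (isPair_iso (isoCent.iso k)))
      fun k k' => (semi_mul_one (isPair_iso (isoCent.iso k)) (isPair_iso (isoCent.iso k'))).symm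
  have hactB : ∀ k, InOmega q k → act k ∈ B := fun k hk => by
    rw [hB]
    refine ⟨?_, Subgroup.mem_centralizer_singleton_iff.2 ?_⟩
    · have e := inner_eq_semi (Q := ⇑q) (⟨⟨(k : GL ι F), isoCent.iso k⟩, hk⟩)
      show semi (k : GL ι F) 1 _ ∈ A
      have := hinn (QuotientGroup.mk' _ (⟨⟨(k : GL ι F), isoCent.iso k⟩, hk⟩ : Cfsg.Omega F (⇑q)))
      rw [e] at this
      exact this
    · show semi _ 1 _ * semi g 1 hg = semi g 1 hg * semi _ 1 _
      rw [semi_mul_one, semi_mul_one]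
      exact semi_congr _ _ (isoCent.comm k) rfl
  have hconjN : ∀ b ∈ B, ∀ y ∈ N', b * y * b⁻¹ ∈ N' := fun b hb y hy => by
    rw [hN'] at hy ⊢
    obtain ⟨y', hy', rfl⟩ := hy
    exact ⟨⟨b, hb⟩ * y' * (⟨b, hb⟩ : B)⁻¹, hNn.conj_mem _ hy' _, rfl⟩
  have hscal : ∀ (k : isoCent q g), act k = 1 →
      (∀ x, mv (k : GL ι F) x = x) ∨ ∀ x, mv (k : GL ι F) x = -x := fun k hk => by
    obtain ⟨-, a, -, ha⟩ := semi_eq_one_imp hgeo h7 r (isPair_iso (isoCent.iso k)) hk
    haveI : Nonempty ι := Fintype.card_pos_iff.1 (by omega)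
    obtain ⟨v, hv⟩ := Cfsg.Agent.Orth.exists_ne_zero_value (V := ι → F) hq
    have h1 := mem_isometry.1 (isoCent.iso k) v
    rw [ha, QuadraticMap.map_smul, smul_eq_mul] at h1
    rcases mul_self_eq_one_iff.1 (mul_right_cancel₀ hv (h1.trans (one_mul _).symm)) with e | e
    · exact Or.inl fun x => by rw [ha, e, one_smul]
    · exact Or.inr fun x => by rw [ha, e, neg_one_smul]
  have hM1 : ∀ m ∈ N'.comap act, m * m = 1 := by
    refine hM _ (fun k hk m hm => ?_) (fun m hm h => ?_) (fun m hm m' e => ?_) fun m hm => ?_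
    · rw [Subgroup.mem_comap, map_mul, map_mul, map_inv]
      exact hconjN _ (hactB k hk) _ hm
    · exact hscal m (hsq1 _ hm (by rw [← map_mul, h, map_one]))
    · rw [Subgroup.mem_comap]
      have h1 := semi_mul_one (isPair_scal (q := q) (-1)) (isPair_iso (isoCent.iso m))
      rw [semi_scal, one_mul] at h1
      rw [show act m' = act m from (semi_congr _ _ e rfl).trans h1.symm]
      exact hm
    · refine ⟨Nat.card N', hodd, ?_⟩
      have h1 : act (m ^ Nat.card N') = 1 := by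
        rw [map_pow]
        exact congrArg Subtype.val (pow_card_eq_one' (x := (⟨act m, hm⟩ : N')))
      simpa only [SubgroupClass.coe_pow] using hscal _ h1
  refine eq_bot_iff.2 fun n hn => ?_
  rw [Subgroup.mem_bot]
  have hn' : (n : MulAut (Cfsg.POmega F (⇑q))) ∈ N' := hN' ▸ ⟨n, hn, rfl⟩
  refine Subtype.ext (hsq1 _ hn' ?_)
  obtain ⟨h, τ, hh, hne'⟩ := hext n
  have hnc : (n : MulAut (Cfsg.POmega F (⇑q))) ∈ Subgroup.centralizer {semi g 1 hg} :=
    (hB ▸ n.2 : (n : MulAut _) ∈ A ⊓ _).2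
  rw [Subgroup.mem_centralizer_singleton_iff, hne', semi_mul, semi_mul] at hnc
  obtain ⟨-, s, hs⟩ := semi_eq_semi hgeo h7 _ _ hnc
  rw [mapGL_one] at hs
  have hcomm : ∀ k : isoCent q g, InOmega q k →
      ∃ s' : Fˣ, h * mapGL τ (k : GL ι F) = scal s' * ((k : GL ι F) * h) := by
    intro k hk
    obtain ⟨k₂, hk₂⟩ : ∃ k₂, k₂ = h * mapGL τ ((k⁻¹ : isoCent q g) : GL ι F) * h⁻¹ := ⟨_, rfl⟩
    have hiso : k₂ ∈ Cfsg.isometryGroup F (⇑q) := mem_isometry.2 fun v => by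
      obtain ⟨c, hc⟩ := id hh
      obtain ⟨w, rfl⟩ := sm_surj h τ v
      have e : mv k₂ (sm h τ w) = sm h τ (mv ((k⁻¹ : isoCent q g) : GL ι F) w) := by
        rw [hk₂, sm, sm, mv_mul, mv_inv_mv, mv_mul]
        congr 1
        funext i
        exact (RingHom.map_mulVec τ.toRingHom _ w i).symm
      rw [e]
      show q (mv h fun i => τ (mv _ w i)) = q (mv h fun i => τ (w i))
      rw [show q (mv h fun i => τ (mv _ w i)) = c * τ (q (mv ((k⁻¹ : isoCent q g) : GL ι F) w)) from hc _,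
        mem_isometry.1 (isoCent.iso k⁻¹), show q (mv h fun i => τ (w i)) = c * τ (q w) from hc w]
    have hcom : k₂ * g = g * k₂ := by
      have e1 : mapGL τ ((k⁻¹ : isoCent q g) : GL ι F) * mapGL τ g =
          mapGL τ g * mapGL τ ((k⁻¹ : isoCent q g) : GL ι F) := by rw [← map_mul, isoCent.comm, map_mul]
      have e2 : h⁻¹ * g = scal s⁻¹ * (mapGL τ g * h⁻¹) := by
        rw [inv_mul_eq_iff_eq_mul, ← mul_assoc, ← scal_mul_comm, mul_assoc, ← mul_assoc h, hs,
          show (scal s⁻¹ : GL ι F) = (scal s)⁻¹ from map_inv _ s]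
        group
      calc k₂ * g = h * mapGL τ ((k⁻¹ : isoCent q g) : GL ι F) * (h⁻¹ * g) := by rw [hk₂, mul_assoc]
        _ = scal s⁻¹ * (h * (mapGL τ ((k⁻¹ : isoCent q g) : GL ι F) * mapGL τ g) * h⁻¹) := by
          rw [e2, ← mul_assoc (h * _), ← scal_mul_comm]; group
        _ = scal s⁻¹ * ((h * mapGL τ g) * (mapGL τ ((k⁻¹ : isoCent q g) : GL ι F) * h⁻¹)) := by
          rw [e1]; group
        _ = scal s⁻¹ * ((scal s * (g * h)) * (mapGL τ ((k⁻¹ : isoCent q g) : GL ι F) * h⁻¹)) := by rw [hs]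
        _ = g * k₂ := by rw [hk₂, show (scal s⁻¹ : GL ι F) = (scal s)⁻¹ from map_inv _ s]; group
    obtain ⟨z, hz⟩ : ∃ z : isoCent q g, z = k * ⟨k₂, mem_isoCent.2 ⟨hiso, hcom⟩⟩ := ⟨_, rfl⟩
    have hact : act ⟨k₂, mem_isoCent.2 ⟨hiso, hcom⟩⟩ = (n : MulAut _) * act k⁻¹ * (n : MulAut _)⁻¹ := by
      rw [hne', eq_mul_inv_iff_mul_eq]
      show semi k₂ 1 _ * semi h τ hh = semi h τ hh * semi _ 1 _
      rw [semi_mul, semi_mul]
      refine semi_congr _ _ ?_ (by rw [one_mul, mul_one])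
      rw [mapGL_one, hk₂, inv_mul_cancel_right]
    have hzN : act z ∈ N' := by
      rw [hz, map_mul, hact, map_inv, show act k * ((n : MulAut _) * (act k)⁻¹ * (n : MulAut _)⁻¹) =
        (act k * (n : MulAut _) * (act k)⁻¹) * (n : MulAut _)⁻¹ by group]
      exact N'.mul_mem (hconjN _ (hactB k hk) _ hn') (N'.inv_mem hn')
    have hz1 : act z = 1 := hsq1 _ hzN (by rw [← map_mul, hM1 z hzN, map_one])
    have hcc : (n : MulAut _) * act k = act k * (n : MulAut _) := by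
      rw [hz, map_mul, hact, map_inv, show act k * ((n : MulAut _) * (act k)⁻¹ * (n : MulAut _)⁻¹) =
        (act k * (n : MulAut _)) * (((n : MulAut _) * act k))⁻¹ by group, mul_inv_eq_one] at hz1
      exact hz1.symm
    rw [hne'] at hcc
    change semi h τ hh * semi (k : GL ι F) 1 _ = semi (k : GL ι F) 1 _ * semi h τ hh at hcc
    rw [semi_mul, semi_mul] at hcc
    obtain ⟨-, s', hs'⟩ := semi_eq_semi hgeo h7 _ _ hcc
    rw [mapGL_one] at hs'
    exact ⟨s', hs'⟩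
  obtain ⟨rfl, c, hc⟩ := hC h τ hh ⟨s, hs⟩ hcomm
  rw [hne', semi_mul_one]
  exact (semi_congr _ (isPair_scal c) hc rfl).trans (semi_scal c _)

end Cfsg.Agent.AutBalance
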