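import Cfsg.Agent.Lib.AutBalance.GraphCommon
import Cfsg.Agent.Lib.AutBalance.ReflGen

/-!
The centraliser of an isometric involution with eigenspaces of odd dimension: no odd normal structure.
-/

set_option autoImplicit false

namespace Cfsg.Agent.AutBalance

open Matrix QuadraticMap Module Cfsg.Agent.AutPOmega
open Cfsg.Agent.Transvec (mv mv_mul mv_inv_mv mv_mv_inv ext_mv mv_add mv_smul mv_inj)
open Cfsg.Agent.Transvec.Orth (mem_isometry)
open Cfsg.Agent.Orth (restr)

variable {ι : Type} [Fintype ι] [DecidableEq ι] {F : Type*} [Field F]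
  {q : QuadraticForm F (ι → F)}

section Basic

variable {g : GL ι F} {ε : F}

theorem mv_mem_eig (k : isoCent q g) {x : ι → F} (hx : x ∈ eig g ε) : mv (k : GL ι F) x ∈ eig g ε := by
  rw [mem_eig] at hx ⊢
  rw [← mv_mul, ← isoCent.comm k, mv_mul, hx, mv_smul]

/-- The action on an eigenspace. -/
noncomputable def resHom (q : QuadraticForm F (ι → F)) (g : GL ι F) (ε : F) :
    isoCent q g →* (eig g ε ≃ₗ[F] eig g ε) where
  toFun k :=
    { toFun := fun x => ⟨mv (k : GL ι F) x, mv_mem_eig k x.2⟩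
      invFun := fun x => ⟨mv ((k⁻¹ : isoCent q g) : GL ι F) x, mv_mem_eig k⁻¹ x.2⟩
      map_add' := fun x y => Subtype.ext (by simp [mv_add])
      map_smul' := fun c x => Subtype.ext (by simp [mv_smul])
      left_inv := fun x => Subtype.ext (by
        show mv ((k⁻¹ : isoCent q g) : GL ι F) (mv (k : GL ι F) x) = x
        rw [Subgroup.coe_inv, mv_inv_mv])
      right_inv := fun x => Subtype.ext (by
        show mv (k : GL ι F) (mv ((k⁻¹ : isoCent q g) : GL ι F) x) = x
        rw [Subgroup.coe_inv, mv_mv_inv]) }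
  map_one' := LinearEquiv.ext fun x => Subtype.ext (Cfsg.Agent.Transvec.mv_one _)
  map_mul' k k' := LinearEquiv.ext fun x => Subtype.ext (mv_mul _ _ _)

theorem resHom_apply (k : isoCent q g) (x : eig g ε) :
    (resHom q g ε k x : ι → F) = mv (k : GL ι F) x := rfl

theorem refl'_mem (hiso : ∀ v, q (mv g v) = q v) (hε : ε = 1 ∨ ε = -1) {u : ι → F} (hu : u ∈ eig g ε) :
    refl' q u ∈ isoCent q g := by
  refine mem_isoCent.2 ⟨refl'_iso u, ?_⟩
  by_cases h : q u ≠ 0
  · have hε0 : ε ≠ 0 := by rcases hε with rfl | rfl <;> simp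
    have e := refl'_conj (mem_isometry.2 hiso) h hε0 (v := u) (by
      rw [mem_eig.1 hu, smul_smul, show ε * ε = 1 by rcases hε with rfl | rfl <;> ring, one_smul])
    rw [mul_inv_eq_iff_eq_mul] at e
    exact e.symm
  · rw [refl', dif_neg h, one_mul, mul_one]

theorem refl'_fix {u w : ι → F} (hu : q u ≠ 0) (h : polar q u w = 0) : mv (refl' q u) w = w := by
  rw [mv_refl' hu, polar_comm, h, zero_div, zero_smul, sub_zero]

theorem refl'_comm {u w : ι → F} (hu : q u ≠ 0) (hw : q w ≠ 0) (h : polar q u w = 0) :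
    refl' q u * refl' q w = refl' q w * refl' q u := by
  have e := refl'_conj (refl'_iso (q := q) u) hw one_ne_zero (v := w) (by rw [refl'_fix hu h, one_smul])
  rwa [mul_inv_eq_iff_eq_mul] at e

end Basic

section Main

variable [Fintype F] (hq : (polarBilin q).Nondegenerate) (h2 : (2 : F) ≠ 0) {g : GL ι F} (hgg : g * g = 1)
  (hiso : ∀ v, q (mv g v) = q v) (hn : 8 ≤ Fintype.card ι)
include hq h2 hgg hiso hn

/-- Normalised subgroups act as scalars on an eigenspace of dimension at least five. -/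
theorem side_five {ε : F} (hε : ε = 1 ∨ ε = -1) (hd : 5 ≤ finrank F (eig g ε))
    (hd' : eig g (-ε) ≠ ⊥) (M : Subgroup (isoCent q g))
    (hnorm : ∀ k : isoCent q g, InOmega q k → ∀ m ∈ M, k * m * k⁻¹ ∈ M)
    (hinv : ∀ m ∈ M, m * m = 1 → (∀ x, mv (m : GL ι F) x = x) ∨ ∀ x, mv (m : GL ι F) x = -x) :
    ∀ m ∈ M, ∃ l : F, ∀ x ∈ eig g ε, mv (m : GL ι F) x = l • x := by
  classical
  have hε' : -ε = 1 ∨ -ε = -1 := by rcases hε with rfl | rfl <;> simp
  obtain ⟨horth, hU⟩ := eig_nondeg hq h2 hgg hiso hε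
  obtain ⟨-, hW⟩ := eig_nondeg hq h2 hgg hiso hε'
  haveI : Nontrivial (eig g (-ε)) := Submodule.nontrivial_iff_ne_bot.2 hd'
  obtain ⟨w₀, hw₀⟩ := Cfsg.Agent.Orth.exists_ne_zero_value hW
  change q (w₀ : ι → F) ≠ 0 at hw₀
  obtain ⟨R, hR⟩ : ∃ R : eig g ε → isoCent q g, ∀ u, (R u : GL ι F) = refl' q (u : ι → F) :=
    ⟨fun u => ⟨_, refl'_mem hiso hε u.2⟩, fun u => rfl⟩
  obtain ⟨R', hR'⟩ : ∃ R' : eig g (-ε) → isoCent q g, ∀ u, (R' u : GL ι F) = refl' q (u : ι → F) :=
    ⟨fun u => ⟨_, refl'_mem hiso hε' u.2⟩, fun u => rfl⟩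
  have hRR : ∀ (u : eig g ε), q (u : ι → F) ≠ 0 → R u * R u = 1 := fun u hu => Subtype.ext (by
    rw [Subgroup.coe_mul, hR]; exact refl'_sq hu)
  have hconj : ∀ (k : isoCent q g) (u : eig g ε), q (u : ι → F) ≠ 0 →
      k * R u * k⁻¹ = R (resHom q g ε k u) := fun k u hu => Subtype.ext (by
    rw [Subgroup.coe_mul, Subgroup.coe_mul, Subgroup.coe_inv, hR, hR, resHom_apply]
    exact refl'_conj (isoCent.iso k) hu one_ne_zero (one_smul _ _).symm)
  intro m hm
  have heig : ∀ u : eig g ε, (q (u : ι → F) ≠ 0 ∧ IsSquare (q (u : ι → F) * q (w₀ : ι → F))) →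
      ∃ l : F, mv (m : GL ι F) u = l • (u : ι → F) := by
    rintro u ⟨hu, hsq⟩
    obtain ⟨P, hP⟩ : ∃ P, P = R u * R' w₀ := ⟨_, rfl⟩
    have hPΩ : InOmega q P := inOmega_pair hu hw₀ hsq hq (by omega) P (by
      rw [hP, Subgroup.coe_mul, hR, hR'])
    obtain ⟨T, hT⟩ : ∃ T, T = R' w₀ * R' ⟨_, mv_mem_eig m w₀.2⟩ := ⟨_, rfl⟩
    have he : R u * T * R (resHom q g ε m u) ∈ M := by
      have h1 := M.mul_mem (hnorm P hPΩ m hm) (M.inv_mem hm)
      have e1 : m * (R' w₀)⁻¹ * m⁻¹ = R' ⟨_, mv_mem_eig m w₀.2⟩ := Subtype.ext (by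
        rw [Subgroup.coe_mul, Subgroup.coe_mul, Subgroup.coe_inv, Subgroup.coe_inv, hR', hR',
          inv_eq_of_mul_eq_one_left (refl'_sq hw₀)]
        exact refl'_conj (isoCent.iso m) hw₀ one_ne_zero (one_smul _ _).symm)
      rw [hP, show R u * R' w₀ * m * (R u * R' w₀)⁻¹ * m⁻¹ =
        R u * R' w₀ * (m * (R' w₀)⁻¹ * m⁻¹) * (m * (R u)⁻¹ * m⁻¹) by group, e1,
        inv_eq_of_mul_eq_one_left (hRR u hu), hconj m u hu] at h1
      rwa [hT, ← mul_assoc]
    rcases eigen_five (Q := restr q (eig g ε)) (resHom q g ε) R M hU h2 hd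
      (fun k x => mem_isometry.1 (isoCent.iso k) _)
      (fun v hv x => Subtype.ext (by
        rw [resHom_apply, hR]
        exact mv_refl' hv _))
      hRR hconj (fun m' hm' h => (hinv m' hm' h).imp (fun e x => Subtype.ext (e _)) fun e x => Subtype.ext (e _))
      (u := u) (m := m) hu he (fun z z₁ hz hz₁ hzz => by
        refine ⟨R z * R z₁, hnorm _ (inOmega_pair (u := (z : ι → F)) (w := (z₁ : ι → F)) hz (hz₁.trans_ne hz) ⟨q (z : ι → F), ?_⟩ hq (by omega) _
          (by rw [Subgroup.coe_mul, hR, hR])), ?_, map_mul _ _ _⟩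
        · rw [show q (z₁ : ι → F) = q (z : ι → F) from hz₁]
        · have hc : ∀ (a : eig g ε) (b : eig g (-ε)), q (a : ι → F) ≠ 0 → q (b : ι → F) ≠ 0 →
              Commute (R a) (R' b) := fun a b ha hb => Subtype.ext (by
            rw [Subgroup.coe_mul, Subgroup.coe_mul, hR, hR']
            exact refl'_comm ha hb (horth _ a.2 _ b.2))
          have hqm : q (mv (m : GL ι F) w₀) ≠ 0 := by rwa [mem_isometry.1 (isoCent.iso m)]
          rw [hT]
          exact (((hc z w₀ hz hw₀).mul_left (hc z₁ w₀ (hz₁.trans_ne hz) hw₀)).mul_right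
            ((hc z ⟨_, mv_mem_eig m w₀.2⟩ hz hqm).mul_left
              (hc z₁ ⟨_, mv_mem_eig m w₀.2⟩ (hz₁.trans_ne hz) hqm))).eq)
      with e | e
    · exact ⟨1, by rw [one_smul, ← resHom_apply, e]⟩
    · exact ⟨-1, by rw [neg_one_smul, ← resHom_apply, e]; rfl⟩
  obtain ⟨-, l, -, hl⟩ := semi_scalar (Q := restr q (eig g ε)) hU h2 (by omega) (eig g ε).subtype
    Subtype.val_injective (fun x => mv (m : GL ι F) x) (fun a b e => Subtype.ext (mv_inj _ e)) id
    (fun x y => mv_add _ _ _) (fun a x => mv_smul _ _ _)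
    (fun u => q (u : ι → F) ≠ 0 ∧ IsSquare (q (u : ι → F) * q (w₀ : ι → F))) (fun u h => h.1)
    (fun u x h e => by
      change q (x : ι → F) = q (u : ι → F) at e
      rwa [e]) heig
    (fun z z' hz hz' hp => by
      obtain ⟨s1, s2, s3⟩ := hyp_sum_diff hz hz' (rfl : polar (restr q (eig g ε)) z z' = _)
      obtain ⟨x, hx, hxo⟩ := exists_value_perp hU h2 ![z + z', z - z'] (orth_two s3)
        (fun i => by
          fin_cases i
          · simpa [s1] using hp
          · simpa [s2] using hp) (by omega) (q (w₀ : ι → F))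
      have o1 : polar (restr q (eig g ε)) (z + z') x = 0 := by simpa using hxo 0
      have o2 : polar (restr q (eig g ε)) (z - z') x = 0 := by simpa using hxo 1
      rw [Cfsg.Agent.Orth.b_add_left] at o1
      rw [Cfsg.Agent.Orth.b_sub_left] at o2
      refine ⟨x, ⟨?_, ?_⟩, ?_, ?_⟩
      · rw [show q (x : ι → F) = q (w₀ : ι → F) from hx]; exact hw₀
      · rw [show q (x : ι → F) = q (w₀ : ι → F) from hx]; exact ⟨_, rfl⟩
      · rw [Cfsg.Agent.Orth.b_comm]; exact mul_left_cancel₀ h2 (by linear_combination o1 + o2)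
      · rw [Cfsg.Agent.Orth.b_comm]; exact mul_left_cancel₀ h2 (by linear_combination o1 - o2))
  exact ⟨l, fun x hx => hl ⟨x, hx⟩⟩

/-- Normalised subgroups act as scalars on an eigenspace of dimension three. -/
theorem side_three {ε : F} (hε : ε = 1 ∨ ε = -1) (hd : finrank F (eig g ε) = 3)
    (hd' : 5 ≤ finrank F (eig g (-ε))) (M : Subgroup (isoCent q g))
    (hnorm : ∀ k : isoCent q g, InOmega q k → ∀ m ∈ M, k * m * k⁻¹ ∈ M)
    (hinv : ∀ m ∈ M, m * m = 1 → (∀ x, mv (m : GL ι F) x = x) ∨ ∀ x, mv (m : GL ι F) x = -x)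
    (hsc : ∀ m ∈ M, ∃ l : F, ∀ x ∈ eig g (-ε), mv (m : GL ι F) x = l • x)
    {m : isoCent q g} (hm : m ∈ M) {j : ℕ} (hj : Odd j)
    (hmj : ∀ x ∈ eig g ε, mv ((m : GL ι F) ^ j) x = x) :
    ∃ l : F, ∀ x ∈ eig g ε, mv (m : GL ι F) x = l • x := by
  classical
  have hε' : -ε = 1 ∨ -ε = -1 := by rcases hε with rfl | rfl <;> simp
  obtain ⟨horth, hU⟩ := eig_nondeg hq h2 hgg hiso hε
  obtain ⟨-, hW⟩ := eig_nondeg hq h2 hgg hiso hε'
  obtain ⟨R, hR⟩ : ∃ R : eig g ε → isoCent q g, ∀ u, (R u : GL ι F) = refl' q (u : ι → F) :=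
    ⟨fun u => ⟨_, refl'_mem hiso hε u.2⟩, fun u => rfl⟩
  obtain ⟨R', hR'⟩ : ∃ R' : eig g (-ε) → isoCent q g, ∀ u, (R' u : GL ι F) = refl' q (u : ι → F) :=
    ⟨fun u => ⟨_, refl'_mem hiso hε' u.2⟩, fun u => rfl⟩
  have hRR : ∀ (u : eig g ε), q (u : ι → F) ≠ 0 → R u * R u = 1 := fun u hu => Subtype.ext (by
    rw [Subgroup.coe_mul, hR]; exact refl'_sq hu)
  have hconj : ∀ (k : isoCent q g) (u : eig g ε), q (u : ι → F) ≠ 0 →
      k * R u * k⁻¹ = R (resHom q g ε k u) := fun k u hu => Subtype.ext (by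
    rw [Subgroup.coe_mul, Subgroup.coe_mul, Subgroup.coe_inv, hR, hR, resHom_apply]
    exact refl'_conj (isoCent.iso k) hu one_ne_zero (one_smul _ _).symm)
  obtain ⟨l, hl⟩ := hsc m hm
  have hpartner : ∀ d : F, d ≠ 0 → ∃ u₀ : eig g (-ε), q (u₀ : ι → F) = d := fun d _ =>
    Cfsg.Agent.Orth.exists_value (Q := restr q (eig g (-ε))) hW (by omega) d
  have hres := eigen_three (Q := restr q (eig g ε)) (resHom q g ε) R M hU h2 hd
      (fun k x => mem_isometry.1 (isoCent.iso k) _)
      (fun v hv x => Subtype.ext (by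
        rw [resHom_apply, hR]
        exact mv_refl' hv _))
      hRR hconj (fun m' hm' h => (hinv m' hm' h).imp (fun e x => Subtype.ext (e _)) fun e x => Subtype.ext (e _))
      (m := m) (fun x hx => ?_) (fun u hu => ?_) (fun z hz => ?_)
  · obtain ⟨l', hl'⟩ := hres
    exact ⟨l', fun x hx => congrArg Subtype.val (hl' ⟨x, hx⟩)⟩
  · have hneg : mv (m : GL ι F) (x : ι → F) = -(x : ι → F) := congrArg Subtype.val hx
    have hpow : ∀ i : ℕ, mv ((m : GL ι F) ^ i) (x : ι → F) = ((-1 : F) ^ i) • (x : ι → F) := fun i => by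
      induction i with
      | zero => rw [pow_zero, pow_zero, one_smul, Cfsg.Agent.Transvec.mv_one]
      | succ i ih =>
        rw [pow_succ, mv_mul, hneg, ← neg_one_smul F (x : ι → F), mv_smul, ih, smul_smul, pow_succ, mul_comm]
    have h1 := hpow j
    rw [hmj x x.2, hj.neg_one_pow] at h1
    refine Subtype.ext ?_
    have : (2 : F) • (x : ι → F) = 0 := by linear_combination (norm := module) h1
    exact (smul_eq_zero.1 this).resolve_left h2
  · obtain ⟨u₀, hu₀⟩ := hpartner _ hu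
    change q (u : ι → F) ≠ 0 at hu
    change q (u₀ : ι → F) = q (u : ι → F) at hu₀
    have hu₀' : q (u₀ : ι → F) ≠ 0 := hu₀ ▸ hu
    obtain ⟨P, hP⟩ : ∃ P, P = R u * R' u₀ := ⟨_, rfl⟩
    have hPΩ : InOmega q P := inOmega_pair hu hu₀' (by rw [hu₀]; exact ⟨_, rfl⟩) hq (by omega) P (by
      rw [hP, Subgroup.coe_mul, hR, hR'])
    have h1 := M.mul_mem (hnorm P hPΩ m hm) (M.inv_mem hm)
    have hl0 : l ≠ 0 := fun e => hu₀' (by
      rw [← mem_isometry.1 (isoCent.iso m) (u₀ : ι → F), hl _ u₀.2, e, zero_smul, QuadraticMap.map_zero])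
    have e1 : m * (R' u₀)⁻¹ * m⁻¹ = R' u₀ := Subtype.ext (by
      rw [Subgroup.coe_mul, Subgroup.coe_mul, Subgroup.coe_inv, Subgroup.coe_inv, hR',
        inv_eq_of_mul_eq_one_left (refl'_sq hu₀')]
      exact refl'_conj (isoCent.iso m) hu₀' (inv_ne_zero hl0)
        (by rw [hl _ u₀.2, smul_smul, inv_mul_cancel₀ hl0, one_smul]))
    rw [hP, show R u * R' u₀ * m * (R u * R' u₀)⁻¹ * m⁻¹ =
      R u * R' u₀ * (m * (R' u₀)⁻¹ * m⁻¹) * (m * (R u)⁻¹ * m⁻¹) by group, e1,
      inv_eq_of_mul_eq_one_left (hRR u hu), hconj m u hu, mul_assoc (R u),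
      show R' u₀ * R' u₀ = 1 from Subtype.ext (by rw [Subgroup.coe_mul, hR']; exact refl'_sq hu₀'), mul_one] at h1
    exact h1
  · obtain ⟨u₀, hu₀⟩ := hpartner _ hz
    change q (u₀ : ι → F) = q (z : ι → F) at hu₀
    change q (z : ι → F) ≠ 0 at hz
    have hu₀' : q (u₀ : ι → F) ≠ 0 := hu₀ ▸ hz
    refine ⟨R z * R' u₀, hnorm _ (inOmega_pair hz hu₀' (by rw [hu₀]; exact ⟨_, rfl⟩) hq (by omega) _ (by
      rw [Subgroup.coe_mul, hR, hR'])), LinearEquiv.ext fun x => Subtype.ext ?_⟩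
    rw [resHom_apply, resHom_apply, Subgroup.coe_mul, mv_mul, hR',
      refl'_fix hu₀' ((QuadraticMap.polar_comm _ _ _).trans (horth _ x.2 _ u₀.2))]

/-- Normalised subgroups have exponent two. -/
theorem orth_sq_one (ha : Odd (finrank F (eig g 1))) (hb : Odd (finrank F (eig g (-1))))
    (M : Subgroup (isoCent q g))
    (hnorm : ∀ k : isoCent q g, InOmega q k → ∀ m ∈ M, k * m * k⁻¹ ∈ M)
    (hinv : ∀ m ∈ M, m * m = 1 → (∀ x, mv (m : GL ι F) x = x) ∨ ∀ x, mv (m : GL ι F) x = -x)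
    (hneg : ∀ m ∈ M, ∀ m' : isoCent q g, (m' : GL ι F) = scal (-1) * (m : GL ι F) → m' ∈ M)
    (hord : ∀ m ∈ M, ∃ j : ℕ, Odd j ∧
      ((∀ x, mv ((m : GL ι F) ^ j) x = x) ∨ ∀ x, mv ((m : GL ι F) ^ j) x = -x)) :
    ∀ m ∈ M, m * m = 1 := by
  obtain ⟨hc, -, hsum⟩ := eig_data h2 hgg
  obtain ⟨ε, hε, h5, ho5, ho⟩ : ∃ ε : F, (ε = 1 ∨ ε = -1) ∧ 5 ≤ finrank F (eig g ε) ∧
      Odd (finrank F (eig g ε)) ∧ Odd (finrank F (eig g (-ε))) := by
    obtain ⟨i, hi⟩ := ha
    obtain ⟨j, hj⟩ := hb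
    by_cases h : 5 ≤ finrank F (eig g 1)
    · exact ⟨1, Or.inl rfl, h, ⟨i, hi⟩, ⟨j, hj⟩⟩
    · refine ⟨-1, Or.inr rfl, by omega, ⟨j, hj⟩, ?_⟩
      rw [neg_neg]
      exact ⟨i, hi⟩
  have hε' : -ε = 1 ∨ -ε = -1 := by rcases hε with rfl | rfl <;> simp
  have hc' : IsCompl (eig g ε) (eig g (-ε)) := by
    rcases hε with rfl | rfl
    · exact hc
    · rw [neg_neg]; exact hc.symm
  have hd' : eig g (-ε) ≠ ⊥ := fun e => by rw [e, finrank_bot] at ho; exact absurd ho (by decide)
  have hd : eig g (- -ε) ≠ ⊥ := fun e => by rw [neg_neg] at e; rw [e, finrank_bot] at h5; omega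
  have s1 := side_five hq h2 hgg hiso hn hε h5 hd' M hnorm hinv
  have s2 : ∀ m ∈ M, ∃ l : F, ∀ x ∈ eig g (-ε), mv (m : GL ι F) x = l • x := by
    intro m hm
    by_cases h : 5 ≤ finrank F (eig g (-ε))
    · exact side_five hq h2 hgg hiso hn hε' h hd M hnorm hinv m hm
    obtain ⟨i, hi⟩ := id ho
    rcases (show finrank F (eig g (-ε)) = 1 ∨ finrank F (eig g (-ε)) = 3 by omega) with h1 | h3
    · obtain ⟨⟨w, hw⟩, hw0, hspan⟩ := finrank_eq_one_iff'.1 h1
      obtain ⟨l, hl⟩ := hspan ⟨_, mv_mem_eig m hw⟩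
      refine ⟨l, fun x hx => ?_⟩
      obtain ⟨c, hc⟩ := hspan ⟨x, hx⟩
      have e1 : c • w = x := congrArg Subtype.val hc
      have e2 : l • w = mv (m : GL ι F) w := congrArg Subtype.val hl
      rw [← e1, mv_smul, ← e2, smul_comm]
    · -- pass to the sign of odd order
      obtain ⟨j, hj, hmj⟩ := hord m hm
      obtain ⟨m', hm', hcase, hm'j⟩ : ∃ m' ∈ M, (∃ s : F, s * s = 1 ∧ ∀ x, mv (m : GL ι F) x = s • mv (m' : GL ι F) x) ∧
          ∀ x ∈ eig g (-ε), mv ((m' : GL ι F) ^ j) x = x := by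
        rcases hmj with h | h
        · exact ⟨m, hm, ⟨1, one_mul 1, fun x => (one_smul _ _).symm⟩, fun x _ => h x⟩
        · have hmem : scal (-1) * (m : GL ι F) ∈ isoCent q g := mem_isoCent.2
            ⟨Subgroup.mul_mem _ (mem_isometry.2 fun v => by
              show q (mv (scal (-1)) v) = q v
              rw [scal_mv]; simp) (isoCent.iso m),
             by rw [mul_assoc, isoCent.comm, ← mul_assoc, scal_mul_comm, mul_assoc]⟩
          refine ⟨⟨_, hmem⟩, hneg m hm _ rfl, ⟨-1, by ring, fun x => ?_⟩, fun x _ => ?_⟩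
          · show _ = (-1 : F) • mv (scal (-1) * (m : GL ι F)) x
            rw [mv_mul, scal_mv]; simp
          · show mv ((scal (-1) * (m : GL ι F)) ^ j) x = x
            rw [Commute.mul_pow (scal_mul_comm _ _), mv_mul, ← map_pow, hj.neg_one_pow, scal_mv, h]
            simp
      obtain ⟨s, hs, hms⟩ := hcase
      obtain ⟨l, hl⟩ := side_three hq h2 hgg hiso hn hε' h3 (by rwa [neg_neg]) M hnorm hinv
        (by rw [neg_neg]; exact s1) hm' hj hm'j
      exact ⟨s * l, fun x hx => by rw [hms, hl x hx, smul_smul]⟩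
  intro m hm
  obtain ⟨l, hl⟩ := s1 m hm
  obtain ⟨μ, hμ⟩ := s2 m hm
  have hsq : ∀ (δ : F), (δ = 1 ∨ δ = -1) → eig g δ ≠ ⊥ → ∀ t : F,
      (∀ x ∈ eig g δ, mv (m : GL ι F) x = t • x) → t * t = 1 := fun δ hδ hne t ht => by
    haveI : Nontrivial (eig g δ) := Submodule.nontrivial_iff_ne_bot.2 hne
    obtain ⟨v, hv⟩ := Cfsg.Agent.Orth.exists_ne_zero_value (eig_nondeg hq h2 hgg hiso hδ).2
    change q (v : ι → F) ≠ 0 at hv
    have h1 := mem_isometry.1 (isoCent.iso m) (v : ι → F)
    rw [ht _ v.2, QuadraticMap.map_smul, smul_eq_mul] at h1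
    exact mul_right_cancel₀ hv (h1.trans (one_mul _).symm)
  have hll := hsq ε hε (fun e => hd (by rwa [neg_neg])) l hl
  have hμμ := hsq (-ε) hε' hd' μ hμ
  refine Subtype.ext (ext_mv fun x => ?_)
  obtain ⟨u, hu, w, hw, rfl⟩ := Submodule.mem_sup.1 (hc'.sup_eq_top.symm.le (Submodule.mem_top : x ∈ ⊤))
  rw [Subgroup.coe_mul, mv_mul, OneMemClass.coe_one, Cfsg.Agent.Transvec.mv_one, mv_add, hl u hu, hμ w hw,
    mv_add, mv_smul, mv_smul, hl u hu, hμ w hw, smul_smul, smul_smul, hll, hμμ, one_smul, one_smul]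

/-- Semisimilarities commuting with the centraliser square to scalars. -/
theorem orth_semi_scalar (ha : Odd (finrank F (eig g 1))) (hb : Odd (finrank F (eig g (-1))))
    {h : GL ι F} {τ : F ≃+* F} (hh : Cfsg.IsSemisimilarityPair (⇑q) h τ)
    (hcomm : ∀ k : isoCent q g, InOmega q k →
      ∃ s : Fˣ, h * mapGL τ (k : GL ι F) = scal s * ((k : GL ι F) * h)) :
    τ = 1 ∧ ∃ c : Fˣ, h * h = scal c := by
  classical
  obtain ⟨hc, -, hsum⟩ := eig_data h2 hgg
  obtain ⟨ε, hε, h5, ho⟩ : ∃ ε : F, (ε = 1 ∨ ε = -1) ∧ 5 ≤ finrank F (eig g ε) ∧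
      Odd (finrank F (eig g (-ε))) := by
    obtain ⟨i, hi⟩ := ha
    obtain ⟨j, hj⟩ := hb
    by_cases hh : 5 ≤ finrank F (eig g 1)
    · exact ⟨1, Or.inl rfl, hh, ⟨j, hj⟩⟩
    · refine ⟨-1, Or.inr rfl, by omega, ?_⟩
      rw [neg_neg]
      exact ⟨i, hi⟩
  have hε' : -ε = 1 ∨ -ε = -1 := by rcases hε with rfl | rfl <;> simp
  have hc' : IsCompl (eig g ε) (eig g (-ε)) := by
    rcases hε with rfl | rfl
    · exact hc
    · rw [neg_neg]; exact hc.symm
  obtain ⟨horth, hU⟩ := eig_nondeg hq h2 hgg hiso hε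
  obtain ⟨-, hW⟩ := eig_nondeg hq h2 hgg hiso hε'
  have hd' : eig g (-ε) ≠ ⊥ := fun e => by rw [e, finrank_bot] at ho; exact absurd ho (by decide)
  haveI : Nontrivial (eig g (-ε)) := Submodule.nontrivial_iff_ne_bot.2 hd'
  obtain ⟨w₀, hw₀⟩ := Cfsg.Agent.Orth.exists_ne_zero_value hW
  change q (w₀ : ι → F) ≠ 0 at hw₀
  obtain ⟨cm, hcm⟩ := id hh
  have hval : ∀ x, q (sm h τ x) = (cm : F) * τ (q x) := hcm
  have hpol : ∀ x y, polar q (sm h τ x) (sm h τ y) = (cm : F) * τ (polar q x y) := fun x y => by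
    simp only [polar, ← sm_add, hval, map_sub]; ring
  -- images lie in the planes
  have hplane : ∀ u w : ι → F, u ∈ eig g ε → w ∈ eig g (-ε) → q u ≠ 0 → q w ≠ 0 → IsSquare (q u * q w) →
      ∀ x ∈ Submodule.span F ({u, w} : Set (ι → F)), sm h τ x ∈ Submodule.span F ({u, w} : Set (ι → F)) := by
    intro u w hu hw hqu hqw hsq
    have huw : polar q u w = 0 := horth u hu w hw
    obtain ⟨k, hk⟩ : ∃ k : isoCent q g, (k : GL ι F) = refl' q u * refl' q w :=
      ⟨⟨_, Subgroup.mul_mem _ (refl'_mem hiso hε hu) (refl'_mem hiso hε' hw)⟩, rfl⟩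
    obtain ⟨s, hs⟩ := hcomm k (inOmega_pair hqu hqw hsq hq (by omega) k hk)
    have hkx : ∀ x, mv (k : GL ι F) x = x - (polar q x u / q u) • u - (polar q x w / q w) • w := fun x => by
      rw [hk, mv_mul, mv_refl' hqw, mv_refl' hqu, polar_sub_left, polar_smul_left, polar_comm (⇑q) w u, huw,
        smul_zero, sub_zero, sub_right_comm]
    have hmem : ∀ x, mv (k : GL ι F) x = -x → x ∈ Submodule.span F ({u, w} : Set (ι → F)) := fun x hx => by
      rw [hkx] at hx
      have e : (2 : F) • x = (polar q x u / q u) • u + (polar q x w / q w) • w := by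
        linear_combination (norm := module) hx
      have : x = (2 : F)⁻¹ • ((polar q x u / q u) • u + (polar q x w / q w) • w) := by
        rw [← e, inv_smul_smul₀ h2]
      rw [this]
      exact Submodule.smul_mem _ _ (Submodule.add_mem _ (Submodule.smul_mem _ _ (Submodule.subset_span (by simp)))
        (Submodule.smul_mem _ _ (Submodule.subset_span (by simp))))
    have hL : ∀ x, sm h τ (mv (k : GL ι F) x) = (s : F) • mv (k : GL ι F) (sm h τ x) := fun x => by
      rw [sm, show (τ ∘ mv (k : GL ι F) x) = mv (mapGL τ (k : GL ι F)) (τ ∘ x) from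
        funext fun i => RingHom.map_mulVec τ.toRingHom _ x i, ← mv_mul, hs, mv_mul, scal_mv, mv_mul]
      rfl
    have hkk : ∀ x, mv (k : GL ι F) (mv (k : GL ι F) x) = x := fun x => by
      rw [← mv_mul, hk, mul_assoc, ← mul_assoc (refl' q w), ← refl'_comm hqu hqw huw, mul_assoc (refl' q u),
        refl'_sq hqw, mul_one, refl'_sq hqu, Cfsg.Agent.Transvec.mv_one]
    have hss : (s : F) * s = 1 := by
      have h1 := hL (mv (k : GL ι F) u)
      rw [hkk, hL, mv_smul, hkk, smul_smul] at h1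
      have h2' : ((s : F) * s - 1) • sm h τ u = 0 := by rw [sub_smul, ← h1, one_smul, sub_self]
      refine sub_eq_zero.1 ((smul_eq_zero.1 h2').resolve_right fun e => ?_)
      have := hval u
      rw [e, QuadraticMap.map_zero] at this
      exact mul_ne_zero cm.ne_zero ((map_ne_zero τ).2 hqu) this.symm
    have hfix : (s : F) ≠ -1 := by
      intro e
      -- the fixed space is too large to go into a plane
      have hP : ∀ x ∈ Cfsg.Agent.Orth.perp q (Submodule.span F ({u, w} : Set (ι → F))),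
          sm h τ x ∈ Submodule.span F ({u, w} : Set (ι → F)) := fun x hx => by
        have h1 : mv (k : GL ι F) x = x := by
          have a1 := hx u (Submodule.subset_span (by simp))
          have a2 := hx w (Submodule.subset_span (by simp))
          rw [polar_comm] at a1 a2
          rw [hkx, a1, a2, zero_div, zero_div, zero_smul, zero_smul, sub_zero, sub_zero]
        refine hmem _ ?_
        have h3 := hL x
        rw [h1, e, neg_one_smul] at h3
        exact eq_neg_of_add_eq_zero_left (by linear_combination (norm := module) h3)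
      have hnd := orth_span_nondeg (Q := q) h2 ![u, w] (orth_two huw) (fun i => by
        fin_cases i
        · simpa using hqu
        · simpa using hqw)
      rw [Matrix.range_cons, Matrix.range_cons, Matrix.range_empty, Set.union_empty, Set.singleton_union] at hnd
      have hp := Cfsg.Agent.Orth.finrank_perp hnd
      have hle := Cfsg.Agent.Orth.finrank_span_pair_le (F := F) u w
      rw [finrank_fintype_fun_eq_card] at hp
      have hcard := Nat.card_le_card_of_injective
        (fun x : Cfsg.Agent.Orth.perp q (Submodule.span F ({u, w} : Set (ι → F))) =>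
          (⟨sm h τ x, hP _ x.2⟩ : Submodule.span F ({u, w} : Set (ι → F))))
        fun x y exy => Subtype.ext (sm_inj h τ (congrArg Subtype.val exy))
      rw [Module.natCard_eq_pow_finrank (K := F)
          (V := Cfsg.Agent.Orth.perp q (Submodule.span F ({u, w} : Set (ι → F)))),
        Module.natCard_eq_pow_finrank (K := F) (V := Submodule.span F ({u, w} : Set (ι → F)))] at hcard
      have := (Nat.pow_le_pow_iff_right (Finite.one_lt_card (α := F))).1 hcard
      omega
    intro x hx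
    have hkneg : mv (k : GL ι F) x = -x := by
      obtain ⟨a, b, rfl⟩ := Submodule.mem_span_pair.1 hx
      rw [hkx, polar_add_left, polar_add_left, polar_smul_left, polar_smul_left, polar_smul_left, polar_smul_left,
        huw, polar_comm (⇑q) w u, huw, QuadraticMap.polar_self, QuadraticMap.polar_self]
      simp only [smul_eq_mul, mul_zero, add_zero, zero_add, nsmul_eq_mul, Nat.cast_ofNat]
      rw [show a * (2 * q u) / q u = 2 * a by field_simp, show b * (2 * q w) / q w = 2 * b by field_simp]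
      module
    have h1 := hL x
    rw [hkneg, (mul_self_eq_one_iff.1 hss).resolve_right hfix, one_smul] at h1
    refine hmem _ ?_
    rw [← h1, ← neg_one_smul F x, sm_smul, map_neg, map_one, neg_one_smul]
  -- the lines of the second eigenspace
  have hwline : ∀ w ∈ eig g (-ε), q w ≠ 0 → ∃ t : F, sm h τ w = t • w := by
    intro w hw hqw
    obtain ⟨u, hu, -⟩ := exists_value_perp (Q := restr q (eig g ε)) hU h2 (k := 0) ![] (fun i => i.elim0)
      (fun i => i.elim0) (by omega) (q w)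
    obtain ⟨u', hu', huo⟩ := exists_value_perp (Q := restr q (eig g ε)) hU h2 ![u] orth_one
      (fun i => by rw [Subsingleton.elim i 0]; simpa [hu] using hqw) (by omega) (q w)
    change q (u : ι → F) = q w at hu
    change q (u' : ι → F) = q w at hu'
    have ho1 : polar q (u : ι → F) (u' : ι → F) = 0 := by
      have := huo 0
      exact this
    obtain ⟨a₁, b₁, h1⟩ := Submodule.mem_span_pair.1 (hplane u w u.2 hw (hu ▸ hqw) hqw
      (by rw [hu]; exact ⟨_, rfl⟩) w (Submodule.subset_span (by simp)))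
    obtain ⟨a₂, b₂, h3⟩ := Submodule.mem_span_pair.1 (hplane u' w u'.2 hw (hu' ▸ hqw) hqw
      (by rw [hu']; exact ⟨_, rfl⟩) w (Submodule.subset_span (by simp)))
    refine ⟨b₁, ?_⟩
    have h4 := congrArg (fun x => polar q x (u : ι → F)) (h1.trans h3.symm)
    simp only [polar_add_left, polar_smul_left, QuadraticMap.polar_self, smul_eq_mul,
      show polar q w (u : ι → F) = 0 from (polar_comm _ _ _).trans (horth _ u.2 _ hw),
      show polar q (u' : ι → F) (u : ι → F) = 0 from (polar_comm _ _ _).trans ho1, mul_zero, add_zero] at h4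
    rw [hu, nsmul_eq_mul] at h4
    have ha : a₁ = 0 := (mul_eq_zero.1 h4).resolve_right (mul_ne_zero (by simpa using h2) hqw)
    rw [← h1, ha, zero_smul, zero_add]
  obtain ⟨t₀, ht₀⟩ := hwline w₀ w₀.2 hw₀
  have ht₀0 : t₀ ≠ 0 := fun e => mul_ne_zero cm.ne_zero ((map_ne_zero τ).2 hw₀) (by
    rw [← hval, ht₀, e, zero_smul, QuadraticMap.map_zero])
  -- the first eigenspace
  obtain ⟨hτ, l, -, hl⟩ := semi_scalar (Q := restr q (eig g ε)) hU h2 (by omega) (eig g ε).subtype
    Subtype.val_injective (fun x => sm h τ x) (fun a b e => Subtype.ext (sm_inj h τ e)) τ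
    (fun x y => sm_add h τ _ _) (fun a x => sm_smul h τ a _)
    (fun u => q (u : ι → F) ≠ 0 ∧ IsSquare (q (u : ι → F) * q (w₀ : ι → F))) (fun u h => h.1)
    (fun u x h e => by
      change q (x : ι → F) = q (u : ι → F) at e
      rwa [e])
    (fun u hu => by
      obtain ⟨a, b, hab⟩ := Submodule.mem_span_pair.1 (hplane u w₀ u.2 w₀.2 hu.1 hw₀ hu.2 u
        (Submodule.subset_span (by simp)))
      refine ⟨a, ?_⟩
      have h1 := hpol (u : ι → F) w₀
      rw [horth _ u.2 _ w₀.2, map_zero, mul_zero, ← hab, ht₀, polar_smul_right, polar_add_left, polar_smul_left,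
        polar_smul_left, horth _ u.2 _ w₀.2, QuadraticMap.polar_self] at h1
      simp only [smul_eq_mul, mul_zero, zero_add, nsmul_eq_mul] at h1
      have hb : b = 0 := (mul_eq_zero.1 ((mul_eq_zero.1 h1).resolve_left ht₀0)).resolve_right
        (mul_ne_zero (by simpa using h2) hw₀)
      show sm h τ (u : ι → F) = a • (u : ι → F)
      rw [← hab, hb, zero_smul, add_zero])
    (fun z z' hz hz' hp => by
      obtain ⟨s1, s2, s3⟩ := hyp_sum_diff hz hz' (rfl : polar (restr q (eig g ε)) z z' = _)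
      obtain ⟨x, hx, hxo⟩ := exists_value_perp hU h2 ![z + z', z - z'] (orth_two s3)
        (fun i => by
          fin_cases i
          · simpa [s1] using hp
          · simpa [s2] using hp) (by omega) (q (w₀ : ι → F))
      have o1 : polar (restr q (eig g ε)) (z + z') x = 0 := by simpa using hxo 0
      have o2 : polar (restr q (eig g ε)) (z - z') x = 0 := by simpa using hxo 1
      rw [Cfsg.Agent.Orth.b_add_left] at o1
      rw [Cfsg.Agent.Orth.b_sub_left] at o2
      refine ⟨x, ⟨?_, ?_⟩, ?_, ?_⟩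
      · rw [show q (x : ι → F) = q (w₀ : ι → F) from hx]; exact hw₀
      · rw [show q (x : ι → F) = q (w₀ : ι → F) from hx]; exact ⟨_, rfl⟩
      · rw [Cfsg.Agent.Orth.b_comm]; exact mul_left_cancel₀ h2 (by linear_combination o1 + o2)
      · rw [Cfsg.Agent.Orth.b_comm]; exact mul_left_cancel₀ h2 (by linear_combination o1 - o2))
  obtain rfl : τ = 1 := RingEquiv.ext hτ
  have hsm : ∀ x, sm h (1 : F ≃+* F) x = mv h x := fun x => rfl
  simp only [hsm] at hl hwline hval
  refine ⟨rfl, ?_⟩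
  -- the second eigenspace
  obtain ⟨μ, hμ⟩ : ∃ μ : F, ∀ w ∈ eig g (-ε), mv h w = μ • w := by
    obtain ⟨i, hi⟩ := id ho
    by_cases h1 : finrank F (eig g (-ε)) = 1
    · obtain ⟨⟨w, hw⟩, hw0, hspan⟩ := finrank_eq_one_iff'.1 h1
      have hqw : q w ≠ 0 := by
        intro e
        obtain ⟨c, hc⟩ := hspan w₀
        refine hw₀ ?_
        rw [← show c • w = (w₀ : ι → F) from congrArg Subtype.val hc, QuadraticMap.map_smul, e, smul_zero]
      obtain ⟨t, ht⟩ := hwline w hw hqw
      refine ⟨t, fun x hx => ?_⟩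
      obtain ⟨c, hc⟩ := hspan ⟨x, hx⟩
      rw [← show c • w = x from congrArg Subtype.val hc, mv_smul, ht, smul_comm]
    · obtain ⟨-, μ, -, hμ⟩ := semi_scalar (Q := restr q (eig g (-ε))) hW h2 (by omega) (eig g (-ε)).subtype
        Subtype.val_injective (fun x => mv h x) (fun a b e => Subtype.ext (mv_inj _ e)) id
        (fun x y => mv_add _ _ _) (fun a x => mv_smul _ _ _) (fun w => q (w : ι → F) ≠ 0) (fun w hw => hw)
        (fun u x hu e => by
          change q (x : ι → F) = q (u : ι → F) at e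
          rwa [e])
        (fun w hw => hwline w w.2 hw)
        (fun z z' hz hz' hp => by
          obtain ⟨s1, s2, s3⟩ := hyp_sum_diff hz hz' (rfl : polar (restr q (eig g (-ε))) z z' = _)
          obtain ⟨x, hx, hxo⟩ := exists_aniso_perp hW h2 ![z + z', z - z'] (orth_two s3)
            (fun i => by
              fin_cases i
              · simpa [s1] using hp
              · simpa [s2] using hp) (by omega)
          have o1 : polar (restr q (eig g (-ε))) (z + z') x = 0 := by simpa using hxo 0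
          have o2 : polar (restr q (eig g (-ε))) (z - z') x = 0 := by simpa using hxo 1
          rw [Cfsg.Agent.Orth.b_add_left] at o1
          rw [Cfsg.Agent.Orth.b_sub_left] at o2
          refine ⟨x, hx, ?_, ?_⟩
          · rw [Cfsg.Agent.Orth.b_comm]; exact mul_left_cancel₀ h2 (by linear_combination o1 + o2)
          · rw [Cfsg.Agent.Orth.b_comm]; exact mul_left_cancel₀ h2 (by linear_combination o1 - o2))
      exact ⟨μ, fun w hw => hμ ⟨w, hw⟩⟩
  haveI : Nontrivial (eig g ε) := Module.nontrivial_of_finrank_pos (R := F) (by omega)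
  obtain ⟨u₀, hu₀⟩ := Cfsg.Agent.Orth.exists_ne_zero_value hU
  change q (u₀ : ι → F) ≠ 0 at hu₀
  have hl2 : l * l = cm := by
    have e := hval u₀
    rw [hl u₀] at e
    change q (l • (u₀ : ι → F)) = _ at e
    rw [QuadraticMap.map_smul, smul_eq_mul] at e
    exact mul_right_cancel₀ hu₀ e
  have hμ2 : μ * μ = cm := by
    have e := hval w₀
    rw [hμ _ w₀.2, QuadraticMap.map_smul, smul_eq_mul] at e
    exact mul_right_cancel₀ hw₀ e
  refine ⟨cm, ext_mv fun x => ?_⟩
  obtain ⟨u, hu, w, hw, rfl⟩ := Submodule.mem_sup.1 (hc'.sup_eq_top.symm.le (Submodule.mem_top : x ∈ ⊤))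
  have hlu : mv h u = l • u := hl ⟨u, hu⟩
  rw [mv_mul, scal_mv, mv_add, hlu, hμ w hw, mv_add, mv_smul, mv_smul, hlu, hμ w hw, smul_smul, smul_smul,
    hl2, hμ2, smul_add]

end Main

end Cfsg.Agent.AutBalance
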