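import Cfsg.Agent.Lib.AutBalance.GraphCommon
import Cfsg.Agent.Lib.AutBalance.ReflGen
import Cfsg.Agent.Lib.AutPOmega.EvenClasses
import Mathlib.Algebra.QuadraticAlgebra.Basic

/-!
The centraliser of a similarity with non-square scalar square: an orthogonal space over the quadratic extension.
-/

set_option autoImplicit false

namespace Cfsg.Agent.AutBalance

open Matrix QuadraticMap Module Cfsg.Agent.AutPOmega
open Cfsg.Agent.Orth (SpinVal sqc reflVal)
open Cfsg.Agent.Transvec (mv mv_mul mv_inv_mv mv_mv_inv ext_mv mv_add mv_smul mv_inj)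
open Cfsg.Agent.Transvec.Orth (mem_isometry)

/-- An element of the quadratic extension whose norm is a square is a square. -/
theorem isSquare_of_norm {F : Type*} [Field F] [Finite F] (h2 : (2 : F) ≠ 0) {l : F} (hl : ¬ IsSquare l)
    {z : QuadraticAlgebra F l 0} (h : IsSquare (z.re * z.re - l * (z.im * z.im))) : IsSquare z := by
  letI := Fintype.ofFinite F
  have hl0 : l ≠ 0 := fun e => hl (e ▸ IsSquare.zero)
  obtain ⟨x, y⟩ := z
  obtain ⟨n, hn⟩ := h
  dsimp only at hn
  rcases eq_or_ne y 0 with rfl | hy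
  · by_cases hx : IsSquare x
    · obtain ⟨r, hr⟩ := hx
      exact ⟨⟨r, 0⟩, QuadraticAlgebra.ext (by simp [hr]) (by simp)⟩
    · rcases eq_or_ne x 0 with rfl | hx0
      · exact absurd IsSquare.zero hx
      obtain ⟨r, hr⟩ : IsSquare (x * l⁻¹) :=
        (Cfsg.Agent.Orth.isSquare_mul_nonsquare h2 hx0 (inv_ne_zero hl0) fun hs => hl (by
          simpa using hs.inv)).2 hx
      refine ⟨⟨0, r⟩, QuadraticAlgebra.ext ?_ (by simp)⟩
      simp only [QuadraticAlgebra.re_mul, mul_zero, zero_add]
      rw [mul_assoc, ← hr]; field_simp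
  · -- one of the two halves is a square
    obtain ⟨s, hs, hn'⟩ : ∃ s : F, ((∃ r, s = r * r) ∧ s ≠ 0) ∧ (2 * s - x) * (2 * s - x) = n * n := by
      have hprod : ((x + n) / 2) * ((x - n) / 2) = l * (y / 2 * (y / 2)) := by
        field_simp; linear_combination hn
      have hne : ((x + n) / 2) * ((x - n) / 2) ≠ 0 := by
        rw [hprod]
        exact mul_ne_zero hl0 (mul_ne_zero (div_ne_zero hy h2) (div_ne_zero hy h2))
      by_cases h1 : IsSquare ((x + n) / 2)
      · exact ⟨_, ⟨h1, left_ne_zero_of_mul hne⟩, by field_simp; ring⟩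
      · refine ⟨(x - n) / 2, ⟨?_, right_ne_zero_of_mul hne⟩, by field_simp; ring⟩
        by_contra h3
        have h4 := (Cfsg.Agent.Orth.isSquare_mul_nonsquare h2 (left_ne_zero_of_mul hne)
          (right_ne_zero_of_mul hne) h3).2 h1
        rw [hprod] at h4
        have hy2 : y / 2 ≠ 0 := div_ne_zero hy h2
        obtain ⟨r, hr⟩ := h4
        exact hl ⟨r / (y / 2), by field_simp at hr ⊢; linear_combination hr⟩
    obtain ⟨⟨r, hr⟩, hs0⟩ := hs
    have hr0 : r ≠ 0 := fun e => hs0 (by rw [hr, e, mul_zero])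
    refine ⟨⟨r, y / (2 * r)⟩, QuadraticAlgebra.ext ?_ ?_⟩
    · simp only [QuadraticAlgebra.re_mul]
      field_simp
      linear_combination (-1 : F) * (hn' + (-1 : F) * hn) + (-4 : F) * (x - s - r * r) * hr
    · simp only [QuadraticAlgebra.im_mul]
      field_simp; ring

variable {ι : Type} [Fintype ι] [DecidableEq ι] {F : Type*} [Field F] [Fintype F]
  {q : QuadraticForm F (ι → F)} (hq : (polarBilin q).Nondegenerate) (h2 : (2 : F) ≠ 0) {g : GL ι F} {l : Fˣ}
  (hl : ¬ IsSquare (l : F)) (hgg : g * g = scal l) (hm : ∀ v, q (mv g v) = (l : F) * q v) {k : ℕ}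
  (hcard : Fintype.card ι = 2 * k) (hk5 : 5 ≤ k)
include hq h2 hl hgg hm hcard hk5

set_option maxHeartbeats 1000000 in
/-- Normalised subgroups have exponent two and semisimilarities commuting with the centraliser square to
scalars. -/
theorem quad_data :
    (∀ M : Subgroup (isoCent q g), (∀ k : isoCent q g, InOmega q k → ∀ m ∈ M, k * m * k⁻¹ ∈ M) →
      (∀ m ∈ M, m * m = 1 → (∀ x, mv (m : GL ι F) x = x) ∨ ∀ x, mv (m : GL ι F) x = -x) →
      ∀ m ∈ M, m * m = 1) ∧
    ∀ (h : GL ι F) (τ : F ≃+* F), Cfsg.IsSemisimilarityPair (⇑q) h τ →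
      (∃ s : Fˣ, h * mapGL τ g = scal s * (g * h)) →
      (∀ k : isoCent q g, InOmega q k →
        ∃ s : Fˣ, h * mapGL τ (k : GL ι F) = scal s * ((k : GL ι F) * h)) →
      τ = 1 ∧ ∃ c : Fˣ, h * h = scal c := by
  classical
  haveI hK : Fact (∀ r : F, r ^ 2 ≠ (l : F) + 0 * r) := ⟨fun r e => hl ⟨r, by linear_combination -e⟩⟩
  haveI : Finite (QuadraticAlgebra F (l : F) 0) :=
    Finite.of_injective (fun z : QuadraticAlgebra F (l : F) 0 => (z.re, z.im)) fun z z' e =>
      QuadraticAlgebra.ext (congrArg Prod.fst e) (congrArg Prod.snd e)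
  have hg2 : ∀ x, mv g (mv g x) = (l : F) • x := fun x => by rw [← mv_mul, hgg, scal_mv]
  have hadj : ∀ x y, polar q (mv g x) y = polar q x (mv g y) := fun x y => by
    have h : polar q (mv g x) (mv g (mv g y)) = (l : F) * polar q x (mv g y) := by
      simp only [polar, ← mv_add, hm]; ring
    rw [hg2, polar_smul_right, smul_eq_mul] at h
    exact mul_left_cancel₀ l.ne_zero h
  -- the module structure
  let gE : Module.End F (ι → F) := Matrix.mulVecLin (g : Matrix ι ι F)
  let Φ : QuadraticAlgebra F (l : F) 0 →ₐ[F] Module.End F (ι → F) :=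
    QuadraticAlgebra.lift ⟨gE, LinearMap.ext fun x => by
      show mv g (mv g x) = (l : F) • x + (0 : F) • mv g x
      rw [hg2, zero_smul, add_zero]⟩
  letI : Module (QuadraticAlgebra F (l : F) 0) (ι → F) := Module.compHom _ Φ.toRingHom
  have hsmul : ∀ (c : QuadraticAlgebra F (l : F) 0) (x : ι → F), c • x = c.re • x + c.im • mv g x :=
    fun c x => rfl
  have hg_smul : ∀ (c : QuadraticAlgebra F (l : F) 0) (x : ι → F), mv g (c • x) = c • mv g x := fun c x => by
    rw [hsmul, hsmul, mv_add, mv_smul, mv_smul]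
  haveI : Module.Finite (QuadraticAlgebra F (l : F) 0) (ι → F) := Module.Finite.of_finite
  have hdim : finrank (QuadraticAlgebra F (l : F) 0) (ι → F) = k := by
    have h1 := Module.natCard_eq_pow_finrank (K := QuadraticAlgebra F (l : F) 0) (V := ι → F)
    have h3 : Nat.card (QuadraticAlgebra F (l : F) 0) = Nat.card F ^ 2 := by
      rw [Nat.card_congr (⟨fun z => (z.re, z.im), fun z => ⟨z.1, z.2⟩, fun z => rfl, fun z => rfl⟩ :
        QuadraticAlgebra F (l : F) 0 ≃ F × F), Nat.card_prod, pow_two]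
    rw [h3, ← pow_mul, Nat.card_fun, Nat.card_eq_fintype_card (α := ι), hcard] at h1
    have := Nat.pow_right_injective (Finite.one_lt_card (α := F)) h1
    omega
  -- the form
  have hpolc : ∀ x y, polar q (mv g x) y = polar q (mv g y) x := fun x y => by rw [hadj, polar_comm]
  obtain ⟨B, hB⟩ : ∃ B : LinearMap.BilinForm (QuadraticAlgebra F (l : F) 0) (ι → F), ∀ x y,
      B x y = ⟨polar q x y, polar q (mv g x) y / (l : F)⟩ := by
    refine ⟨LinearMap.mk₂ (QuadraticAlgebra F (l : F) 0)
      (fun x y => (⟨polar q x y, polar q (mv g x) y / (l : F)⟩ : QuadraticAlgebra F (l : F) 0))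
      (fun x x' y => QuadraticAlgebra.ext (by simp [polar_add_left])
        (by simp [mv_add, polar_add_left, add_div]))
      (fun c x y => ?_)
      (fun x y y' => QuadraticAlgebra.ext (by simp [polar_add_right]) (by simp [polar_add_right, add_div]))
      (fun c x y => ?_), fun x y => rfl⟩
    · refine QuadraticAlgebra.ext ?_ ?_
      · simp only [hsmul, smul_eq_mul, QuadraticAlgebra.re_mul, polar_add_left, polar_smul_left]
        field_simp
      · simp only [hsmul, smul_eq_mul, QuadraticAlgebra.im_mul, mv_add, mv_smul, hg2, polar_add_left,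
          polar_smul_left]
        field_simp; ring
    · refine QuadraticAlgebra.ext ?_ ?_
      · simp only [hsmul, smul_eq_mul, QuadraticAlgebra.re_mul, polar_add_right, polar_smul_right, ← hadj]
        field_simp
      · simp only [hsmul, smul_eq_mul, QuadraticAlgebra.im_mul, polar_add_right, polar_smul_right, ← hadj, hg2,
          polar_smul_left]
        field_simp; ring
  have hK2 : (2 : QuadraticAlgebra F (l : F) 0) ≠ 0 := fun e => h2 (by
    rw [← map_ofNat (algebraMap F (QuadraticAlgebra F (l : F) 0))] at e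
    exact QuadraticAlgebra.algebraMap_injective (e.trans (map_zero _).symm))
  obtain ⟨Qk, hQk⟩ : ∃ Qk : QuadraticForm (QuadraticAlgebra F (l : F) 0) (ι → F), ∀ x,
      Qk x = ⟨q x, polar q (mv g x) x / (2 * (l : F))⟩ := by
    refine ⟨(2 : QuadraticAlgebra F (l : F) 0)⁻¹ • LinearMap.BilinMap.toQuadraticMap B, fun x => ?_⟩
    rw [QuadraticMap.smul_apply, LinearMap.BilinMap.toQuadraticMap_apply, smul_eq_mul, hB,
      inv_mul_eq_iff_eq_mul₀ hK2, ← map_ofNat (algebraMap F (QuadraticAlgebra F (l : F) 0))]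
    refine QuadraticAlgebra.ext ?_ ?_
    · simp [QuadraticMap.polar_self]
    · simp; field_simp
  have hpolar : ∀ x y, polar Qk x y = B x y := fun x y => by
    rw [polar, hQk, hQk, hQk, hB]
    refine QuadraticAlgebra.ext ?_ ?_
    · simp [polar]
    · simp only [QuadraticAlgebra.im_sub, mv_add, polar_add_left, polar_add_right, hpolc y x]
      field_simp; ring
  have hQnd : (polarBilin Qk).Nondegenerate := by
    have key : ∀ x, (∀ y, polar Qk x y = 0) → x = 0 := fun x hx => hq.1 x fun y => by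
      have := congrArg QuadraticAlgebra.re ((hpolar x y).symm.trans (hx y))
      rwa [hB] at this
    exact ⟨key, fun x hx => key x fun y => by rw [Cfsg.Agent.Orth.b_comm]; exact hx y⟩
  -- the action of the centraliser
  have hcg : ∀ (k : isoCent q g) x, mv (k : GL ι F) (mv g x) = mv g (mv (k : GL ι F) x) := fun k x => by
    rw [← mv_mul, isoCent.comm, mv_mul]
  obtain ⟨ρ, hρ⟩ : ∃ ρ : isoCent q g →* ((ι → F) ≃ₗ[QuadraticAlgebra F (l : F) 0] (ι → F)),
      ∀ k x, ρ k x = mv (k : GL ι F) x := by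
    refine ⟨
      { toFun := fun k =>
          { toFun := fun x => mv (k : GL ι F) x
            invFun := fun x => mv (k : GL ι F)⁻¹ x
            map_add' := mv_add _
            map_smul' := fun c x => by
              simp only [RingHom.id_apply, hsmul, mv_add, mv_smul, hcg]
            left_inv := mv_inv_mv _
            right_inv := mv_mv_inv _ }
        map_one' := LinearEquiv.ext fun x => Cfsg.Agent.Transvec.mv_one _
        map_mul' := fun a b => LinearEquiv.ext fun x => mv_mul _ _ _ }, fun k x => rfl⟩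
  have hQiso : ∀ (k : isoCent q g) x, Qk (ρ k x) = Qk x := fun k x => by
    rw [hQk, hQk, hρ, ← hcg, polar_iso (isoCent.iso k), mem_isometry.1 (isoCent.iso k)]
  -- reflections
  have hRexist : ∀ u, ∃ r : isoCent q g, Qk u ≠ 0 → ∀ x,
      mv (r : GL ι F) x = x - (polar Qk x u / Qk u) • u := by
    intro u
    by_cases hu : Qk u = 0
    · exact ⟨1, fun h => absurd hu h⟩
    have hlin : ∀ x, polar Qk (x - (polar Qk x u / Qk u) • u) u = -polar Qk x u := fun x => by
      rw [Cfsg.Agent.Orth.b_sub_left, Cfsg.Agent.Orth.b_smul_left, Cfsg.Agent.Orth.b_self]; field_simp; ring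
    let E : (ι → F) ≃ₗ[F] (ι → F) :=
      { toFun := fun x => x - (polar Qk x u / Qk u) • u
        invFun := fun x => x - (polar Qk x u / Qk u) • u
        map_add' := fun x y => by rw [Cfsg.Agent.Orth.b_add_left, add_div, add_smul]; abel
        map_smul' := fun c x => by
          have hc : ∀ z : ι → F, c • z = (algebraMap F (QuadraticAlgebra F (l : F) 0) c) • z := fun z => by
            rw [hsmul]; simp
          simp only [RingHom.id_apply, hc, Cfsg.Agent.Orth.b_smul_left, smul_sub, smul_smul, mul_div_assoc]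
        left_inv := fun x => by
          show x - (polar Qk x u / Qk u) • u - _ • u = x
          rw [hlin, neg_div, neg_smul]; abel
        right_inv := fun x => by
          show x - (polar Qk x u / Qk u) • u - _ • u = x
          rw [hlin, neg_div, neg_smul]; abel }
    obtain ⟨r, hr⟩ := exists_mv_of_equiv E
    refine ⟨⟨r, mem_isoCent.2 ⟨mem_isometry.2 fun x => ?_, ext_mv fun x => ?_⟩⟩, fun _ x => hr x⟩
    · show q (mv r x) = q x
      have h1 : Qk (x - (polar Qk x u / Qk u) • u) = Qk x := by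
        rw [Cfsg.Agent.Orth.q_sub, QuadraticMap.map_smul, smul_eq_mul, Cfsg.Agent.Orth.b_smul_right]; field_simp; ring
      have h3 := congrArg QuadraticAlgebra.re ((hQk _).symm.trans (h1.trans (hQk x)))
      rw [hr]
      exact h3
    · rw [mv_mul, mv_mul, hr, hr]
      show mv g x - (polar Qk (mv g x) u / Qk u) • u = mv g (x - (polar Qk x u / Qk u) • u)
      have hθ : ∀ z : ι → F, mv g z = (⟨0, 1⟩ : QuadraticAlgebra F (l : F) 0) • z := fun z => by
        rw [hsmul]; simp
      rw [hθ, hθ, Cfsg.Agent.Orth.b_smul_left, smul_sub, smul_smul, mul_div_assoc]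
  choose R hR using hRexist
  have hRρ : ∀ u, Qk u ≠ 0 → ∀ x, ρ (R u) x = x - (polar Qk x u / Qk u) • u := fun u hu x => by
    rw [hρ]; exact hR u hu x
  have hinj : ∀ a b : isoCent q g, (∀ x, ρ a x = ρ b x) → a = b := fun a b e =>
    Subtype.ext (ext_mv fun x => by rw [← hρ, ← hρ, e])
  have hRR : ∀ u, Qk u ≠ 0 → R u * R u = 1 := fun u hu => hinj _ _ fun x => by
    rw [map_mul, map_one, LinearEquiv.mul_apply, hRρ u hu, hRρ u hu, LinearEquiv.coe_one, id,
      Cfsg.Agent.Orth.b_sub_left, Cfsg.Agent.Orth.b_smul_left, Cfsg.Agent.Orth.b_self,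
      show (polar Qk x u - polar Qk x u / Qk u * (2 * Qk u)) / Qk u = -(polar Qk x u / Qk u) by
        field_simp; ring, neg_smul]
    abel
  have hconj : ∀ (a : isoCent q g) u, Qk u ≠ 0 → a * R u * a⁻¹ = R (ρ a u) := fun a u hu => by
    rw [mul_inv_eq_iff_eq_mul]
    refine hinj _ _ fun x => ?_
    rw [map_mul, map_mul, LinearEquiv.mul_apply, LinearEquiv.mul_apply, hRρ u hu,
      hRρ _ (by rw [hQiso]; exact hu), map_sub, map_smul, hQiso]
    rw [show polar Qk (ρ a x) (ρ a u) = polar Qk x u by simp only [polar, ← map_add, hQiso]]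
  have hN0 : ∀ z : QuadraticAlgebra F (l : F) 0, z ≠ 0 → z.re * z.re - (l : F) * (z.im * z.im) ≠ 0 := by
    intro z hz e
    rcases eq_or_ne z.im 0 with hi | hi
    · rw [hi] at e
      exact hz (QuadraticAlgebra.ext (mul_self_eq_zero.1 (by linear_combination e)) hi)
    · exact hl ⟨z.re / z.im, by field_simp; linear_combination -e⟩
  obtain ⟨χ, hker, -, hrefl⟩ := Cfsg.Agent.Orth.exists_matrix_spinor q hq (by omega) (Or.inr (by omega))
  -- a reflection is a product of two orthogonal reflections over the ground field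
  have hval : ∀ u, Qk u ≠ 0 → χ ⟨(R u : GL ι F), isoCent.iso (R u)⟩ =
      (1, sqc F ((l : F) * ((Qk u).re * (Qk u).re - (l : F) * ((Qk u).im * (Qk u).im)))) := by
    intro u hu
    obtain ⟨a, ha, hqa⟩ : ∃ a : QuadraticAlgebra F (l : F) 0, a ≠ 0 ∧ q (a • u) ≠ 0 := by
      by_cases h1 : q u = 0
      · refine ⟨⟨1, 1⟩, fun e => one_ne_zero (α := F) (congrArg QuadraticAlgebra.re e), ?_⟩
        rw [hsmul]
        simp only [one_smul]
        rw [Cfsg.Agent.Orth.q_add, hm, h1, mul_zero, zero_add, zero_add, polar_comm]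
        intro e
        refine hu ?_
        rw [hQk, h1, e, zero_div]
        rfl
      · exact ⟨1, one_ne_zero, by rwa [one_smul]⟩
    obtain ⟨u₁, hu₁⟩ : ∃ u₁, u₁ = a • u := ⟨_, rfl⟩
    rw [← hu₁] at hqa
    obtain ⟨w, hw⟩ : ∃ w, w = mv g u₁ - (polar q (mv g u₁) u₁ / (2 * q u₁)) • u₁ := ⟨_, rfl⟩
    have huw : polar q u₁ w = 0 := by
      rw [hw, Cfsg.Agent.Orth.b_sub_right, Cfsg.Agent.Orth.b_smul_right, Cfsg.Agent.Orth.b_self,
        polar_comm (⇑q) u₁]
      field_simp; ring
    have hqw : q u₁ * q w =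
        (l : F) * ((Qk u₁).re * (Qk u₁).re - (l : F) * ((Qk u₁).im * (Qk u₁).im)) := by
      rw [hw, Cfsg.Agent.Orth.q_sub, QuadraticMap.map_smul, hm, Cfsg.Agent.Orth.b_smul_right, hQk, smul_eq_mul]
      dsimp only
      field_simp; ring
    have hQu₁ : Qk u₁ = a * a * Qk u := by rw [hu₁, QuadraticMap.map_smul, smul_eq_mul]
    have hQu₁0 : Qk u₁ ≠ 0 := hQu₁ ▸ mul_ne_zero (mul_ne_zero ha ha) hu
    have hw0 : q w ≠ 0 := fun e => mul_ne_zero l.ne_zero (hN0 _ hQu₁0) (by rw [← hqw, e, mul_zero])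
    have hdec : (R u : GL ι F) = refl' q u₁ * refl' q w := ext_mv fun x => by
      have h1 : mv (R u : GL ι F) x = x - (polar Qk x u₁ / Qk u₁) • u₁ := by
        rw [hR u hu, hQu₁, hu₁, Cfsg.Agent.Orth.b_smul_right, smul_smul]
        congr 2
        field_simp
      rw [h1, mv_mul, mv_refl' hw0, mv_refl' hqa, polar_sub_left, polar_smul_left, polar_comm (⇑q) w u₁, huw,
        smul_zero, sub_zero]
      obtain ⟨β, hβ⟩ : ∃ β, β = polar q x w / q w := ⟨_, rfl⟩
      have e1 : polar Qk x u₁ =
          ⟨polar q x u₁ / q u₁ - β * (polar q (mv g u₁) u₁ / (2 * q u₁)), β⟩ * Qk u₁ := by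
        have hpw : polar q x w = polar q (mv g x) u₁ - polar q (mv g u₁) u₁ / (2 * q u₁) * polar q x u₁ := by
          rw [hw, Cfsg.Agent.Orth.b_sub_right, Cfsg.Agent.Orth.b_smul_right, ← hadj]
        have hqw' : q w = ((l : F) * q u₁ * q u₁ - polar q (mv g u₁) u₁ * polar q (mv g u₁) u₁ / (2 * 2)) / q u₁ := by
          have h5 : q u₁ * q w = (l : F) * q u₁ * q u₁ - polar q (mv g u₁) u₁ * polar q (mv g u₁) u₁ / (2 * 2) := by
            rw [hqw, hQk]; field_simp
          rw [← h5, mul_div_cancel_left₀ _ hqa]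
        have hβw : β * q w = polar q x w := by rw [hβ, div_mul_cancel₀ _ hw0]
        rw [hpw, hqw'] at hβw
        rw [hpolar, hB, hQk]
        refine QuadraticAlgebra.ext ?_ ?_
        · simp only [QuadraticAlgebra.re_mul]
          field_simp; ring
        · simp only [QuadraticAlgebra.im_mul]
          field_simp at hβw ⊢
          linear_combination -hβw
      rw [e1, mul_div_assoc, div_self hQu₁0, mul_one, hsmul, ← hβ, hw]
      module
    have hsplit : (⟨(R u : GL ι F), isoCent.iso (R u)⟩ : Cfsg.isometryGroup F (⇑q)) =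
        ⟨_, refl'_iso u₁⟩ * ⟨_, refl'_iso w⟩ := Subtype.ext hdec
    rw [hsplit, map_mul, hrefl ⟨_, refl'_iso u₁⟩ u₁ hqa (refl'_matrix hqa),
      hrefl ⟨_, refl'_iso w⟩ w hw0 (refl'_matrix hw0)]
    refine Prod.ext (show Multiplicative.ofAdd (1 : ZMod 2) * Multiplicative.ofAdd 1 = 1 by decide) ?_
    show sqc F (q u₁) * sqc F (q w) = _
    rw [← Cfsg.Agent.Orth.sqc_mul hqa hw0, hqw, hQu₁]
    have hNa := hN0 a ha
    have hNu := hN0 _ hu
    rw [show (l : F) * ((a * a * Qk u).re * (a * a * Qk u).re -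
        (l : F) * ((a * a * Qk u).im * (a * a * Qk u).im)) =
        ((a.re * a.re - (l : F) * (a.im * a.im)) * (a.re * a.re - (l : F) * (a.im * a.im))) *
          ((l : F) * ((Qk u).re * (Qk u).re - (l : F) * ((Qk u).im * (Qk u).im))) by
        simp only [QuadraticAlgebra.re_mul, QuadraticAlgebra.im_mul]; ring,
      Cfsg.Agent.Orth.sqc_mul (mul_ne_zero hNa hNa) (mul_ne_zero l.ne_zero hNu),
      Cfsg.Agent.Orth.sqc_mul hNa hNa, Cfsg.Agent.Orth.sqc_mul_self hNa, one_mul]
  have hΩns : ∀ u, Qk u ≠ 0 → ¬ IsSquare (Qk u) → InOmega q (R u) := fun u hu hns => by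
    rw [InOmega, ← hker, MonoidHom.mem_ker, hval u hu]
    refine Prod.ext rfl ?_
    show sqc F _ = 1
    rw [Cfsg.Agent.Orth.sqc_eq_one_iff (mul_ne_zero l.ne_zero (hN0 _ hu)), mul_comm]
    exact (Cfsg.Agent.Orth.isSquare_mul_nonsquare h2 (hN0 _ hu) l.ne_zero hl).2
      fun h => hns (isSquare_of_norm h2 hl h)
  have hΩpair : ∀ u v, Qk u ≠ 0 → Qk v = Qk u → InOmega q (R u * R v) := fun u v hu e => by
    rw [InOmega, show (⟨((R u * R v : isoCent q g) : GL ι F), isoCent.iso (R u * R v)⟩ :
      Cfsg.isometryGroup F (⇑q)) = ⟨_, isoCent.iso (R u)⟩ * ⟨_, isoCent.iso (R v)⟩ from rfl,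
      ← hker, MonoidHom.mem_ker, map_mul, hval u hu, hval v (e ▸ hu), e]
    exact spinVal_sq _
  obtain ⟨κ, hκ⟩ := FiniteField.exists_nonsquare (F := QuadraticAlgebra F (l : F) 0)
    (fun h => hK2 (by haveI := ringChar.of_eq h; exact CharTwo.two_eq_zero))
  have hκ0 : κ ≠ 0 := fun e => hκ (e ▸ IsSquare.zero)
  have hex : ∀ z z', Qk z = 0 → Qk z' = 0 → polar Qk z z' ≠ 0 →
      ∃ u, (Qk u ≠ 0 ∧ ¬ IsSquare (Qk u)) ∧ polar Qk u z = 0 ∧ polar Qk u z' = 0 := by
    intro z z' hz hz' hp
    obtain ⟨s1, s2, s3⟩ := hyp_sum_diff hz hz' rfl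
    obtain ⟨x, hx, hxo⟩ := exists_value_perp hQnd hK2 ![z + z', z - z'] (orth_two s3)
      (fun i => by
        fin_cases i
        · simpa [s1] using hp
        · simpa [s2] using hp) (by omega) κ
    have o1 : polar Qk (z + z') x = 0 := by simpa using hxo 0
    have o2 : polar Qk (z - z') x = 0 := by simpa using hxo 1
    rw [Cfsg.Agent.Orth.b_add_left] at o1
    rw [Cfsg.Agent.Orth.b_sub_left] at o2
    refine ⟨x, ⟨hx ▸ hκ0, hx ▸ hκ⟩, ?_, ?_⟩
    · rw [Cfsg.Agent.Orth.b_comm]; exact mul_left_cancel₀ hK2 (by linear_combination o1 + o2)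
    · rw [Cfsg.Agent.Orth.b_comm]; exact mul_left_cancel₀ hK2 (by linear_combination o1 - o2)
  obtain ⟨e₀, he₀⟩ := exists_value_perp hQnd hK2 (k := 0) ![] (fun i => i.elim0) (fun i => i.elim0) (by omega) κ
  refine ⟨fun M hnorm hinv => ?_, ?_⟩
  · intro m hm'
    have heig : ∀ u, (Qk u ≠ 0 ∧ ¬ IsSquare (Qk u)) →
        ∃ c : QuadraticAlgebra F (l : F) 0, ρ m u = c • u := by
      rintro u ⟨hu, hns⟩
      have he : R u * 1 * R (ρ m u) ∈ M := by
        have h1 := M.mul_mem (hnorm _ (hΩns u hu hns) m hm') (M.inv_mem hm')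
        rw [show R u * m * (R u)⁻¹ * m⁻¹ = R u * (m * (R u)⁻¹ * m⁻¹) by group,
          inv_eq_of_mul_eq_one_left (hRR u hu), hconj m u hu] at h1
        rwa [mul_one]
      rcases eigen_five (Q := Qk) ρ R M hQnd hK2 (by omega) hQiso hRρ hRR hconj
        (fun m' hm'' h => (hinv m' hm'' h).imp (fun e x => (hρ _ _).trans (e x)) fun e x => (hρ _ _).trans (e x))
        hu he (fun z z₁ hz hz₁ _ =>
          ⟨R z * R z₁, hnorm _ (hΩpair z z₁ hz hz₁), by rw [mul_one, one_mul], map_mul _ _ _⟩) with e | e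
      · exact ⟨1, by rw [one_smul, e]⟩
      · exact ⟨-1, by rw [neg_one_smul, e]⟩
    obtain ⟨-, c, -, hc⟩ := semi_scalar (Q := Qk) hQnd hK2 (by omega) LinearMap.id Function.injective_id
      (fun x => ρ m x) (ρ m).injective id (fun x y => map_add _ _ _) (fun a x => map_smul _ _ _)
      (fun u => Qk u ≠ 0 ∧ ¬ IsSquare (Qk u)) (fun u h => h.1) (fun u x h e => by rwa [e]) heig hex
    simp only [LinearMap.id_apply] at hc
    have hcc : c * c = 1 := by
      have h1 := hQiso m e₀
      rw [hc, QuadraticMap.map_smul, smul_eq_mul] at h1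
      exact mul_right_cancel₀ (he₀.1 ▸ hκ0) (h1.trans (one_mul _).symm)
    exact hinj _ _ fun x => by
      rw [map_mul, map_one, LinearEquiv.mul_apply, hc, hc, smul_smul, hcc, one_smul]; rfl
  · rintro h τ hh ⟨s, hs⟩ hcomm
    obtain ⟨cm, hcm⟩ := id hh
    have hvalL : ∀ x, q (sm h τ x) = (cm : F) * τ (q x) := hcm
    have hmap : ∀ (k : GL ι F) x, (τ ∘ mv k x) = mv (mapGL τ k) (τ ∘ x) := fun k x =>
      funext fun i => RingHom.map_mulVec τ.toRingHom _ x i
    have hLg : ∀ x, sm h τ (mv g x) = (s : F) • mv g (sm h τ x) := fun x => by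
      rw [sm, hmap, ← mv_mul, hs, mv_mul, scal_mv, mv_mul]
      rfl
    obtain ⟨T, hT⟩ : ∃ T : QuadraticAlgebra F (l : F) 0 → QuadraticAlgebra F (l : F) 0,
        ∀ c, T c = ⟨τ c.re, τ c.im * s⟩ := ⟨_, fun c => rfl⟩
    have hTs : ∀ c x, sm h τ (c • x) = T c • sm h τ x := fun c x => by
      rw [hsmul, hsmul, sm_add, sm_smul, sm_smul, hLg, smul_smul, hT]
    have hline : ∀ u, (Qk u ≠ 0 ∧ ¬ IsSquare (Qk u)) →
        ∃ c : QuadraticAlgebra F (l : F) 0, sm h τ u = c • u := by
      rintro u ⟨hu, hns⟩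
      obtain ⟨s', hs'⟩ := hcomm _ (hΩns u hu hns)
      have hL : ∀ x, sm h τ (mv (R u : GL ι F) x) = (s' : F) • mv (R u : GL ι F) (sm h τ x) := fun x => by
        rw [sm, hmap, ← mv_mul, hs', mv_mul, scal_mv, mv_mul]
        rfl
      have hRu : mv (R u : GL ι F) u = -u := by
        rw [hR u hu, Cfsg.Agent.Orth.b_self, mul_div_assoc, div_self hu, mul_one, two_smul]; abel
      have hmem : ∀ x, mv (R u : GL ι F) x = -x →
          ∃ c : QuadraticAlgebra F (l : F) 0, x = c • u := fun x hx => by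
        refine ⟨polar Qk x u / Qk u / 2, smul_right_injective _ hK2 ?_⟩
        rw [hR u hu] at hx
        show (2 : QuadraticAlgebra F (l : F) 0) • x = (2 : QuadraticAlgebra F (l : F) 0) • _
        rw [smul_smul, mul_div_cancel₀ _ hK2, two_smul]
        rw [sub_eq_iff_eq_add] at hx
        nth_rewrite 2 [hx]
        abel
      have hkk : ∀ x, mv (R u : GL ι F) (mv (R u : GL ι F) x) = x := fun x => by
        rw [← mv_mul, ← Subgroup.coe_mul, hRR u hu, OneMemClass.coe_one, Cfsg.Agent.Transvec.mv_one]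
      have hu0 : u ≠ 0 := fun e => hu (by rw [e, QuadraticMap.map_zero])
      have hLu0 : sm h τ u ≠ 0 := fun e => hu0 (sm_inj h τ (e.trans (by
        have := sm_smul h τ 0 u
        rw [zero_smul, map_zero, zero_smul] at this
        exact this.symm)))
      have hss : (s' : F) * s' = 1 := by
        have h1 := hL (mv (R u : GL ι F) u)
        rw [hkk, hL, mv_smul, hkk, smul_smul] at h1
        have h2' : ((s' : F) * s' - 1) • sm h τ u = 0 := by rw [sub_smul, ← h1, one_smul, sub_self]
        exact sub_eq_zero.1 ((smul_eq_zero.1 h2').resolve_right hLu0)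
      have hfix : (s' : F) ≠ -1 := by
        intro e
        -- the fixed space is too large to go into a line
        obtain ⟨P, hP⟩ : ∃ P, P = Cfsg.Agent.Orth.perp Qk
            (Submodule.span (QuadraticAlgebra F (l : F) 0) (Set.range ![u])) := ⟨_, rfl⟩
        obtain ⟨D, hD⟩ : ∃ D, D = Submodule.span (QuadraticAlgebra F (l : F) 0) ({u} : Set (ι → F)) := ⟨_, rfl⟩
        have hmap' : ∀ x ∈ P, sm h τ x ∈ D := fun x hx => by
          rw [hP] at hx
          have h1 : mv (R u : GL ι F) x = x := by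
            have a1 := hx u (Submodule.subset_span ⟨0, rfl⟩)
            rw [Cfsg.Agent.Orth.b_comm] at a1
            rw [hR u hu, a1, zero_div, zero_smul, sub_zero]
          have h3 := hL x
          rw [h1, e, neg_one_smul] at h3
          obtain ⟨c, hc⟩ := hmem _ (eq_neg_of_add_eq_zero_left (by linear_combination (norm := module) h3))
          exact hD ▸ Submodule.mem_span_singleton.2 ⟨c, hc.symm⟩
        have hp := Cfsg.Agent.Orth.finrank_perp (orth_span_nondeg (Q := Qk) hK2 ![u] orth_one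
          fun i => by rw [Subsingleton.elim i 0]; exact hu)
        rw [← hP, hdim] at hp
        have hle : finrank (QuadraticAlgebra F (l : F) 0)
            (Submodule.span (QuadraticAlgebra F (l : F) 0) (Set.range ![u])) ≤ 1 :=
          (finrank_range_le_card ![u]).trans (Fintype.card_fin 1).le
        have hD1 : finrank (QuadraticAlgebra F (l : F) 0) D = 1 := hD ▸ finrank_span_singleton hu0
        have hc := Nat.card_le_card_of_injective (fun x : P => (⟨sm h τ x, hmap' _ x.2⟩ : D))
          fun x y exy => Subtype.ext (sm_inj h τ (congrArg Subtype.val exy))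
        rw [Module.natCard_eq_pow_finrank (K := QuadraticAlgebra F (l : F) 0) (V := P),
          Module.natCard_eq_pow_finrank (K := QuadraticAlgebra F (l : F) 0) (V := D)] at hc
        have := (Nat.pow_le_pow_iff_right (Finite.one_lt_card (α := QuadraticAlgebra F (l : F) 0))).1 hc
        omega
      have h1 := hL u
      rw [hRu, (mul_self_eq_one_iff.1 hss).resolve_right hfix, one_smul] at h1
      refine hmem _ ?_
      rw [← h1, ← neg_one_smul F u, sm_smul, map_neg, map_one, neg_one_smul]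
    obtain ⟨hT1, c, -, hc⟩ := semi_scalar (Q := Qk) hQnd hK2 (by omega) LinearMap.id Function.injective_id
      (sm h τ) (fun a b e => sm_inj h τ e) T (sm_add h τ) hTs
      (fun u => Qk u ≠ 0 ∧ ¬ IsSquare (Qk u)) (fun u h => h.1) (fun u x h e => by rwa [e]) hline hex
    simp only [LinearMap.id_apply] at hc
    obtain rfl : τ = 1 := RingEquiv.ext fun a => by
      have := congrArg QuadraticAlgebra.re (hT1 ⟨a, 0⟩)
      rwa [hT] at this
    have hs1 : (s : F) = 1 := by
      have := congrArg QuadraticAlgebra.im (hT1 ⟨0, 1⟩)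
      rw [hT] at this
      simpa using this
    have hsm : ∀ x, sm h (1 : F ≃+* F) x = mv h x := fun x => rfl
    simp only [hsm, hs1, one_smul, RingAut.one_apply] at hc hvalL hLg
    refine ⟨rfl, cm, ext_mv fun x => ?_⟩
    have hcc : c * c = algebraMap F _ (cm : F) := by
      have h1 : Qk (mv h e₀) = algebraMap F _ (cm : F) * Qk e₀ := by
        rw [hQk, hQk, ← hLg]
        refine QuadraticAlgebra.ext ?_ ?_
        · simp [hvalL]
        · simp only [polar, ← mv_add, hvalL]
          simp; ring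
      rw [hc, QuadraticMap.map_smul, smul_eq_mul] at h1
      exact mul_right_cancel₀ (he₀.1 ▸ hκ0) h1
    rw [mv_mul, scal_mv, hc, hc, smul_smul, hcc, hsmul]
    simp

end Cfsg.Agent.AutBalance
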