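import Cfsg.Agent.Lib.AutBalance.Cores
import Cfsg.Agent.Lib.AutBalance.UnipLines
import Cfsg.Agent.Lib.Classical.SL
import Cfsg.Agent.Lib.AutPSL.GraphInv

/-!
Local balance for field automorphisms of `PSL n`.
-/

set_option autoImplicit false

namespace Cfsg.Agent.AutBalance

/-- The image of a group with simple central quotient has trivial invariant core. -/
theorem hL_of_simple {G A : Type*} [Group G] [Group A] (Θ : G →* A) {p : ℕ} [hp : Fact p.Prime]
    (hs : IsSimpleGroup (G ⧸ Subgroup.center G)) (hZ : ∀ z ∈ Subgroup.center G, Θ z = 1)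
    (hdiv : p ∣ Nat.card ↥Θ.range) (M : Subgroup A) (hM : M ≤ Θ.range)
    (hn : ∀ l ∈ Θ.range, ∀ m ∈ M, l * m * l⁻¹ ∈ M) (hc : (Nat.card M).Coprime p) : M = ⊥ := by
  haveI hn' : (M.comap Θ).Normal := ⟨fun g hg s => by
    rw [Subgroup.mem_comap, map_mul, map_mul, map_inv]
    exact hn _ ⟨s, rfl⟩ _ hg⟩
  rcases hs.eq_bot_or_eq_top_of_normal ((M.comap Θ).map (QuotientGroup.mk' (Subgroup.center G)))
      (hn'.map _ (QuotientGroup.mk'_surjective _)) with h | h
  · refine eq_bot_iff.2 fun m hm => ?_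
    obtain ⟨g, rfl⟩ := hM hm
    rw [Subgroup.map_eq_bot_iff, QuotientGroup.ker_mk'] at h
    exact Subgroup.mem_bot.2 (hZ g (h hm))
  · exfalso
    have hle : Θ.range ≤ M := by
      rintro _ ⟨g, rfl⟩
      obtain ⟨g', hg', e⟩ := h.symm.le (Subgroup.mem_top (QuotientGroup.mk' (Subgroup.center G) g))
      obtain ⟨z, hz, rfl⟩ := (QuotientGroup.mk'_eq_mk' _).1 e
      rw [map_mul, hZ z hz, mul_one]
      exact hg'
    exact hp.out.ne_one (Nat.eq_one_of_dvd_coprimes hc (hdiv.trans (Subgroup.card_dvd_of_le hle)) dvd_rfl)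

theorem eq_one_of_mem_zpowers {G : Type*} [Group G] {x c : G} {p : ℕ} (hx : orderOf x = p)
    (hc : c ∈ Subgroup.zpowers x) (hco : (orderOf c).Coprime p) : c = 1 :=
  orderOf_eq_one_iff.1 (Nat.eq_one_of_dvd_coprimes hco dvd_rfl (hx ▸ orderOf_dvd_of_mem_zpowers hc))

section

open Matrix
open Cfsg.Agent.AutPSL (semi conjHom semi_mul' semi_eq_semi mapGL invT invTPow HasType)

variable {F : Type*} [Field F] {n : ℕ}

local notation "PSLn" => Matrix.ProjectiveSpecialLinearGroup (Fin n) F

/-- A matrix of determinant one as an element of `SL`. -/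
def slOf {m : ℕ} {R : Type*} [CommRing R] (M : Matrix (Fin m) (Fin m) R) (h : M.det = 1) :
    Matrix.SpecialLinearGroup (Fin m) R := ⟨M, h⟩

theorem slOf_coe {m : ℕ} {R : Type*} [CommRing R] (M : Matrix (Fin m) (Fin m) R) (h : M.det = 1) :
    ((slOf M h : Matrix.SpecialLinearGroup (Fin m) R) : Matrix (Fin m) (Fin m) R) = M := rfl

theorem comm_of_semi (hn : 2 ≤ n) {F₀ : Type*} [Field F₀] (ι : F₀ →+* F) (P : GL (Fin n) F)
    {P₀ : Matrix (Fin n) (Fin n) F₀} (hP : (P : Matrix (Fin n) (Fin n) F) = P₀.map ι) {h : GL (Fin n) F}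
    {τ : F ≃+* F} (hc : (semi h τ : MulAut PSLn) * semi P 1 = semi P 1 * semi h τ) :
    Unip.Comm ι h τ P₀ := by
  rw [semi_mul', semi_mul', semi_eq_semi hn, AutPSL.mapGL_one] at hc
  obtain ⟨-, c, hc⟩ := hc
  refine ⟨(c : F), ?_⟩
  have e := congrArg (fun u : GL (Fin n) F => (u : Matrix (Fin n) (Fin n) F)) hc
  beta_reduce at e
  rw [AutPSL.sc_mul_coe] at e
  simp only [Units.val_mul, AutPSL.mapGL_coe, hP] at e
  exact e

/-- Commuting with all transvections over a subfield. -/
theorem scalar_of_sl (hn : 2 ≤ n) {F₀ : Type*} [Field F₀] (ι : F₀ →+* F) {r : ℕ} [Fact r.Prime] [CharP F₀ r]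
    {h : GL (Fin n) F} {τ : F ≃+* F}
    (hc : ∀ P : Matrix (Fin n) (Fin n) F₀, P.det = 1 → Unip.Comm ι h τ P) :
    (∀ a, τ (ι a) = ι a) ∧ ∃ c : Fˣ, h = Matrix.GeneralLinearGroup.scalar (Fin n) c := by
  refine Unip.scalar_of_all ι h τ hn fun u hu => ?_
  obtain ⟨i, hi⟩ : ∃ i, u i ≠ 0 := Function.ne_iff.1 hu
  haveI : Nontrivial (Fin n) := Fin.nontrivial_iff_two_le.2 hn
  obtain ⟨j, hj⟩ := exists_ne i
  obtain ⟨f, hf⟩ : ∃ f : Fin n → F₀, f = u j • Pi.single i 1 - u i • Pi.single j 1 := ⟨_, rfl⟩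
  have hf0 : f ≠ 0 := fun e => hi (by
    have := congrFun e j
    simpa [hf, hj] using this)
  have hfu : f ⬝ᵥ u = 0 := by
    rw [hf, sub_dotProduct, smul_dotProduct, smul_dotProduct, single_dotProduct, single_dotProduct, one_mul, one_mul,
      smul_eq_mul, smul_eq_mul, mul_comm, sub_self]
  have hN : IsNilpotent (vecMulVec u f) := ⟨2, by
    rw [pow_two, vecMulVec_mul_vecMulVec, hfu, zero_smul]; ext; simp [vecMulVec_apply]⟩
  exact Unip.line_of_rank_one ι h τ hf0
    (Unip.comm_nilpotent ι h τ (by omega) hN (hc _ (Unip.det_one_add (r := r) hN)))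

/-- No graph element commutes with the rational transvections. -/
theorem no_graph (hn : 3 ≤ n) {F₀ : Type*} [Field F₀] (ι : F₀ →+* F) {h : GL (Fin n) F} {τ : F ≃+* F}
    (hc : ∀ P : Matrix.SpecialLinearGroup (Fin n) F₀,
      (semi h τ * invT : MulAut PSLn) *
          semi (Matrix.GeneralLinearGroup.map ι (Matrix.SpecialLinearGroup.toGL P)) 1 =
        semi (Matrix.GeneralLinearGroup.map ι (Matrix.SpecialLinearGroup.toGL P)) 1 * (semi h τ * invT)) :
    False := by
  have key : ∀ i j : Fin n, i ≠ j → (h : Matrix (Fin n) (Fin n) F) * Matrix.single j i (-1) =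
      Matrix.single i j 1 * (h : Matrix (Fin n) (Fin n) F) := by
    intro i j hij
    obtain ⟨P, hP⟩ : ∃ P : GL (Fin n) F, P = Matrix.GeneralLinearGroup.map ι (Matrix.SpecialLinearGroup.toGL
        (slOf (Matrix.transvection i j (1 : F₀)) (det_transvection_of_ne i j hij 1))) :=
      ⟨_, rfl⟩
    have hPc : (P : Matrix (Fin n) (Fin n) F) = 1 + Matrix.single i j 1 := by
      rw [hP]
      show (Matrix.transvection i j (1 : F₀)).map ι = _
      ext a b
      simp [Matrix.transvection, Matrix.single, Matrix.one_apply, apply_ite ι]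
    have hPs : (AutPSL.starGL P : Matrix (Fin n) (Fin n) F) = 1 + Matrix.single j i (-1) := by
      have hinv : ((P⁻¹ : GL (Fin n) F) : Matrix (Fin n) (Fin n) F) = 1 + Matrix.single i j (-1) := by
        refine (left_inv_eq_right_inv ?_ P.mul_inv).symm
        rw [hPc, Matrix.mul_add, Matrix.add_mul, Matrix.add_mul, Matrix.one_mul, Matrix.mul_one,
          Matrix.one_mul, Matrix.single_mul_single_of_ne _ _ _ _ hij.symm, add_zero, add_assoc,
          ← Matrix.single_add, neg_add_cancel, Matrix.single_zero, add_zero]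
      rw [AutPSL.starGL_coe, hinv, transpose_add, transpose_one, Matrix.transpose_single]
    have e := hc (slOf (Matrix.transvection i j (1 : F₀)) (det_transvection_of_ne i j hij 1))
    rw [← hP, mul_assoc, AutPSL.invT_mul_semi, ← mul_assoc, ← mul_assoc, mul_left_inj, semi_mul', semi_mul',
      semi_eq_semi (by omega), AutPSL.mapGL_one] at e
    obtain ⟨-, c, e⟩ := e
    have e' := congrArg (fun u : GL (Fin n) F => (u : Matrix (Fin n) (Fin n) F)) e
    beta_reduce at e'
    rw [AutPSL.sc_mul_coe] at e'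
    simp only [Units.val_mul, AutPSL.mapGL_coe, hPs, hPc] at e'
    rw [show (1 + Matrix.single j i (-1 : F)).map τ = 1 + Matrix.single j i (-1) by
      ext a b; simp [Matrix.single, Matrix.one_apply, apply_ite τ]] at e'
    have hnil : ∀ (a b : Fin n) (x : F), a ≠ b → IsNilpotent (Matrix.single a b x) := fun a b x hab =>
      ⟨2, by rw [pow_two, Matrix.single_mul_single_of_ne _ _ _ _ hab.symm]⟩
    exact Unip.nilp_of_conj h (by omega) (hnil i j 1 hij) (hnil j i (-1) hij.symm) e'
  have hzero : ∀ a j : Fin n, (h : Matrix (Fin n) (Fin n) F) a j = 0 := by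
    intro a j
    obtain ⟨i, hij, hia⟩ : ∃ i : Fin n, i ≠ j ∧ i ≠ a := by
      have hc' : ({j, a} : Finset (Fin n)).card < (Finset.univ : Finset (Fin n)).card := by
        rw [Finset.card_univ, Fintype.card_fin]
        exact (Finset.card_le_two).trans_lt (by omega)
      obtain ⟨i, -, hi⟩ := Finset.exists_mem_notMem_of_card_lt_card hc'
      simp only [Finset.mem_insert, Finset.mem_singleton, not_or] at hi
      exact ⟨i, hi.1, hi.2⟩
    have e := congrFun (congrFun (key i j hij) a) i
    rw [Matrix.mul_single_apply_same, Matrix.single_mul_apply_of_ne _ _ _ _ _ hia.symm] at e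
    simpa using e
  haveI : Nonempty (Fin n) := ⟨⟨0, by omega⟩⟩
  exact not_isUnit_zero (M₀ := Matrix (Fin n) (Fin n) F)
    ((show (h : Matrix (Fin n) (Fin n) F) = 0 from Matrix.ext hzero) ▸ h.isUnit)

variable [Fintype F]

theorem center_psl (hn : 2 ≤ n) (hK : IsSimpleGroup PSLn) : Subgroup.center PSLn = ⊥ := by
  rcases hK.eq_bot_or_eq_top_of_normal (Subgroup.center PSLn) inferInstance with h | h
  · exact h
  exfalso
  haveI : Nontrivial (Fin n) := Fin.nontrivial_iff_two_le.2 hn
  obtain ⟨i, j, hij⟩ := exists_pair_ne (Fin n)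
  have h1 : (MulAut.conj (QuotientGroup.mk (slOf (Matrix.transvection i j (1 : F))
      (det_transvection_of_ne i j hij 1)) : PSLn) : MulAut PSLn) = 1 := MulEquiv.ext fun z => by
    rw [MulAut.conj_apply, MulAut.one_apply, ← Subgroup.mem_center_iff.1 (h ▸ Subgroup.mem_top z) _]
    group
  rw [AutPSL.inner_eq_semi, AutPSL.semi_eq_one_iff hn] at h1
  obtain ⟨-, c, hc⟩ := h1
  have e := congrFun (congrFun (congrArg (fun u : GL (Fin n) F => (u : Matrix (Fin n) (Fin n) F)) hc) i) j
  change Matrix.transvection i j (1 : F) i j = Matrix.scalar (Fin n) (c : F) i j at e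
  simp [Matrix.transvection, hij] at e

/-- The criterion for a standard field automorphism. -/
theorem psl_field (hn : 2 ≤ n) {r : ℕ} [Fact r.Prime] [CharP F r] {p : ℕ} [hp : Fact p.Prime] (hpr : p ≠ r)
    (hK : IsSimpleGroup PSLn) {σ : F ≃+* F} (hσ : orderOf σ = p) (A : Subgroup (MulAut PSLn))
    (hinn : ∀ k : PSLn, MulAut.conj k ∈ A) :
    Cfsg.pPrimeCore p ↥(A ⊓ Subgroup.centralizer {(semi 1 σ : MulAut PSLn)}) ≠ ⊥ ↔
      Nat.Coprime p (Nat.card ↥(MonoidHom.eqLocus (semi 1 σ : MulAut PSLn).toMonoidHom (MonoidHom.id PSLn))) := by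
  classical
  obtain ⟨K, hKmem, hcardK⟩ := AutPSL.exists_fixed_field σ
  haveI : Finite K := Subtype.finite
  haveI : Fintype K := Fintype.ofFinite _
  haveI : CharP K r := (K.subtype.charP_iff K.subtype.injective r).2 ‹_›
  haveI : Nontrivial (Fin n) := Fin.nontrivial_iff_two_le.2 hn
  obtain ⟨x, hxdef⟩ : ∃ x, x = (semi 1 σ : MulAut PSLn) := ⟨_, rfl⟩
  rw [← hxdef]
  have hxord : orderOf x = p := by rw [hxdef, AutPSL.orderOf_semi_one hn, hσ]
  let Θ : Matrix.SpecialLinearGroup (Fin n) K →* MulAut PSLn :=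
    conjHom.comp ((Matrix.GeneralLinearGroup.map K.subtype).comp Matrix.SpecialLinearGroup.toGL)
  have hΘ : ∀ s, Θ s = semi (Matrix.GeneralLinearGroup.map K.subtype (Matrix.SpecialLinearGroup.toGL s)) 1 :=
    fun s => rfl
  have hcoe : ∀ s : Matrix.SpecialLinearGroup (Fin n) K,
      ((Matrix.GeneralLinearGroup.map K.subtype (Matrix.SpecialLinearGroup.toGL s) : GL (Fin n) F) :
        Matrix (Fin n) (Fin n) F) = (s : Matrix (Fin n) (Fin n) K).map K.subtype := fun s => rfl
  have hLJ : Θ.range ≤ innCent x := by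
    rintro _ ⟨s, rfl⟩
    refine ⟨(AutPSL.semi_mem_inn hn _).2 ?_, Subgroup.mem_centralizer_singleton_iff.2 ?_⟩
    · show Matrix.GeneralLinearGroup.det (Matrix.GeneralLinearGroup.map K.subtype
        (Matrix.SpecialLinearGroup.toGL s)) ∈ _
      rw [show Matrix.GeneralLinearGroup.det (Matrix.GeneralLinearGroup.map K.subtype
        (Matrix.SpecialLinearGroup.toGL s)) = 1 from Units.ext (by
          show ((s : Matrix (Fin n) (Fin n) K).map K.subtype).det = 1
          rw [← RingHom.mapMatrix_apply, ← RingHom.map_det, s.2, map_one])]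
      exact one_mem _
    · rw [hxdef]
      refine ((AutPSL.commute_field_iff hn _ σ).2 ⟨1, ?_⟩).eq
      rw [map_one, one_mul]
      exact Units.ext (Matrix.ext fun a b => ((hKmem _).1 (Subtype.coe_prop _)).symm)
  -- elements of the inner part descend
  have hrep : ∀ j ∈ innCent x, ∃ P : GL (Fin n) K,
      j = conjHom (Matrix.GeneralLinearGroup.map K.subtype P) := by
    intro j hj
    obtain ⟨g, rfl⟩ := AutPSL.inn_le_range hj.1
    obtain ⟨t, g', hg', rfl⟩ := AutPSL.exists_fixed_of_commute hn (g := g) (σ := σ)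
      (hxdef ▸ Subgroup.mem_centralizer_singleton_iff.1 hj.2)
    obtain ⟨P₀, hP₀⟩ : ∃ P₀ : Matrix (Fin n) (Fin n) K, P₀.map K.subtype = (g' : Matrix (Fin n) (Fin n) F) :=
      ⟨Matrix.of fun a b => ⟨(g' : Matrix (Fin n) (Fin n) F) a b, (hKmem _).2
        (congrFun (congrFun (congrArg (fun u : GL (Fin n) F => (u : Matrix (Fin n) (Fin n) F)) hg') a) b)⟩,
        rfl⟩
    have hu : IsUnit P₀ := by
      rw [Matrix.isUnit_iff_isUnit_det, isUnit_iff_ne_zero]
      intro h0
      have h := ((Matrix.isUnit_iff_isUnit_det _).1 g'.isUnit).ne_zero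
      rw [← hP₀, ← RingHom.mapMatrix_apply, ← RingHom.map_det, h0, map_zero] at h
      exact h rfl
    refine ⟨hu.unit, ?_⟩
    rw [AutPSL.conjHom_apply, AutPSL.conjHom_apply, AutPSL.semi_scalar_mul]
    congr 1
    exact Units.ext (by rw [← hP₀]; rfl)
  have hnorm : ∀ j ∈ innCent x, ∀ l ∈ Θ.range, j * l * j⁻¹ ∈ Θ.range := by
    rintro j hj _ ⟨s, rfl⟩
    obtain ⟨P, rfl⟩ := hrep j hj
    refine ⟨slOf ((P : Matrix (Fin n) (Fin n) K) * s * ((P⁻¹ : GL (Fin n) K) : Matrix (Fin n) (Fin n) K))
      (by rw [Matrix.det_units_conj, s.2]), ?_⟩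
    show conjHom (Matrix.GeneralLinearGroup.map K.subtype (Matrix.SpecialLinearGroup.toGL _)) =
      conjHom _ * conjHom (Matrix.GeneralLinearGroup.map K.subtype (Matrix.SpecialLinearGroup.toGL s)) * (conjHom _)⁻¹
    rw [← map_inv, ← map_inv, ← map_mul, ← map_mul, ← map_mul, ← map_mul]
    exact congrArg _ (congrArg _ (Units.ext rfl))
  have hdet1 : ∀ i j : Fin n, i ≠ j → (Matrix.transvection i j (1 : K)).det = 1 :=
    fun i j h => det_transvection_of_ne i j h 1
  have hne1 : ∀ s : Matrix.SpecialLinearGroup (Fin n) K, Θ s = 1 →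
      ∃ c : F, ∀ a b, (((s : Matrix (Fin n) (Fin n) K) a b : K) : F) = if a = b then c else 0 := fun s h => by
    rw [hΘ, AutPSL.semi_eq_one_iff hn] at h
    obtain ⟨-, c, hc⟩ := h
    refine ⟨(c : F), fun a b => ?_⟩
    have e := congrFun (congrFun (congrArg (fun u : GL (Fin n) F => (u : Matrix (Fin n) (Fin n) F)) hc) a) b
    change _ = Matrix.scalar (Fin n) (c : F) a b at e
    rw [Matrix.scalar_apply, Matrix.diagonal_apply] at e
    exact e
  have hZ : ∀ z ∈ Subgroup.center (Matrix.SpecialLinearGroup (Fin n) K), Θ z = 1 := by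
    intro z hz
    obtain ⟨a, -, ha⟩ := Matrix.SpecialLinearGroup.mem_center_iff.1 hz
    have ha0 : (a : F) ≠ 0 := fun e => by
      have h := z.2
      rw [← ha, show a = 0 from Subtype.ext e, map_zero, Matrix.det_zero] at h
      exact zero_ne_one h
    rw [hΘ, AutPSL.semi_eq_one_iff hn]
    refine ⟨rfl, Units.mk0 (a : F) ha0, Units.ext ?_⟩
    rw [hcoe, ← ha]
    show ((Matrix.scalar (Fin n)) a).map K.subtype = Matrix.scalar (Fin n) (a : F)
    rw [Matrix.scalar_apply, Matrix.scalar_apply, Matrix.diagonal_map (map_zero _)]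
    rfl
  -- prime divisor transfers
  have hdiv : p ∣ Nat.card ↥(innCent x) → p ∣ Nat.card ↥Θ.range := by
    intro hd
    haveI : Finite ↥(innCent x) := inferInstance
    obtain ⟨j, hj⟩ := exists_prime_orderOf_dvd_card' p hd
    obtain ⟨P, hP⟩ := hrep j j.2
    have hj' : orderOf (conjHom (Matrix.GeneralLinearGroup.map K.subtype P) : MulAut PSLn) = p := by
      rw [← hP, Subgroup.orderOf_coe, hj]
    suffices h : ∃ l ∈ Θ.range, orderOf l = p by
      obtain ⟨l, hl, e⟩ := h
      rw [← e]; exact Subgroup.orderOf_dvd_natCard _ hl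
    by_cases hpm : p ∣ Nat.card Kˣ
    · suffices h : ∃ s, Θ s ≠ 1 ∧ Θ s ^ p = 1 by
        obtain ⟨s, h1, h2⟩ := h
        exact ⟨_, ⟨s, rfl⟩, orderOf_eq_prime h2 h1⟩
      obtain ⟨z, hz⟩ := exists_prime_orderOf_dvd_card' p hpm
      have hz1 : (z : K) ≠ 1 := fun e => hp.out.ne_one (by rw [← hz, orderOf_eq_one_iff]; exact Units.ext e)
      obtain ⟨i, j', hij⟩ := exists_pair_ne (Fin n)
      by_cases hex : n = 2 ∧ p = 2
      · obtain ⟨rfl, rfl⟩ := hex
        refine ⟨slOf !![(0 : K), 1; -1, 0] (by simp [Matrix.det_fin_two]), fun h => ?_, ?_⟩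
        · obtain ⟨c, hc⟩ := hne1 _ h
          have := hc 0 1
          simp [slOf] at this
        · rw [pow_two, ← map_mul]
          refine hZ _ (Matrix.SpecialLinearGroup.mem_center_iff.2 ⟨-1, by norm_num, ?_⟩)
          ext a b
          fin_cases a <;> fin_cases b <;>
            simp [Matrix.SpecialLinearGroup.coe_mul, slOf_coe, Matrix.mul_apply, Fin.sum_univ_two]
      · let d : Fin n → K := Function.update (Function.update (1 : Fin n → K) i (z : K)) j' ((z⁻¹ : Kˣ) : K)
        have hd' : (Matrix.diagonal d).det = 1 := by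
          rw [Matrix.det_diagonal, Finset.prod_update_of_mem (Finset.mem_univ _),
            Finset.prod_update_of_mem (by simp [hij])]
          simp
        have hdp : ∀ k, d k ^ p = 1 := fun k => by
          simp only [d, Function.update_apply]
          split_ifs
          · rw [← Units.val_pow_eq_pow_val, inv_pow, ← hz, pow_orderOf_eq_one, inv_one, Units.val_one]
          · rw [← Units.val_pow_eq_pow_val, ← hz, pow_orderOf_eq_one, Units.val_one]
          · exact one_pow p
        refine ⟨slOf (Matrix.diagonal d) hd', fun h => ?_, ?_⟩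
        · obtain ⟨c, hc⟩ := hne1 _ h
          have e1 := hc i i
          have e2 := hc j' j'
          simp only [slOf_coe, Matrix.diagonal_apply_eq, if_true] at e1 e2
          have hdd : (z : K) = ((z⁻¹ : Kˣ) : K) := by
            have := Subtype.ext (e1.trans e2.symm)
            simpa [d, hij] using this
          rcases Nat.lt_or_ge n 3 with h2 | h3
          · have hzz : z ^ 2 = 1 := by
              rw [pow_two]; nth_rewrite 2 [Units.ext hdd]; rw [mul_inv_cancel]
            exact hex ⟨by omega, (Nat.prime_dvd_prime_iff_eq hp.out Nat.prime_two).1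
              (hz ▸ orderOf_dvd_of_pow_eq_one hzz)⟩
          · obtain ⟨k, hki, hkj⟩ : ∃ k : Fin n, k ≠ i ∧ k ≠ j' := by
              have hc' : ({i, j'} : Finset (Fin n)).card < (Finset.univ : Finset (Fin n)).card := by
                rw [Finset.card_pair hij, Finset.card_univ, Fintype.card_fin]; omega
              obtain ⟨k, -, hk⟩ := Finset.exists_mem_notMem_of_card_lt_card hc'
              simp only [Finset.mem_insert, Finset.mem_singleton, not_or] at hk
              exact ⟨k, hk.1, hk.2⟩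
            have e3 := hc k k
            simp only [slOf_coe, Matrix.diagonal_apply_eq, if_true] at e3
            exact hz1 (by simpa [d, hij, hki, hkj] using Subtype.ext (e1.trans e3.symm))
        · rw [← map_pow]
          convert map_one Θ
          refine Subtype.ext ?_
          rw [Matrix.SpecialLinearGroup.coe_pow, slOf_coe, Matrix.diagonal_pow, Matrix.SpecialLinearGroup.coe_one,
            ← Matrix.diagonal_one]
          exact congrArg _ (funext fun k => hdp k)
    · refine ⟨_, ⟨slOf ((P ^ Nat.card Kˣ : GL (Fin n) K) : Matrix (Fin n) (Fin n) K) ?_, rfl⟩, ?_⟩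
      · show ((Matrix.GeneralLinearGroup.det (P ^ Nat.card Kˣ) : Kˣ) : K) = 1
        rw [map_pow, pow_card_eq_one', Units.val_one]
      · rw [hΘ, ← AutPSL.conjHom_apply, show Matrix.SpecialLinearGroup.toGL _ = P ^ Nat.card Kˣ from
          Units.ext rfl, map_pow, map_pow, Nat.Coprime.orderOf_pow, hj']
        rw [hj']
        exact (hp.out.coprime_iff_not_dvd).2 hpm
  -- the centraliser
  have hC : ∀ c ∈ Subgroup.centralizer {x}, (∀ l ∈ Θ.range, c * l = l * c) → (orderOf c).Coprime p → c = 1 := by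
    intro c _ hcl hco
    obtain ⟨τ, e, ⟨h, rfl⟩, he⟩ := AutPSL.exists_hasType hn c
    have h01 : e = 0 ∨ e = 1 := (by decide : ∀ e : ZMod 2, e = 0 ∨ e = 1) e
    rcases h01 with rfl | rfl
    swap
    · exfalso
      have h3 : 3 ≤ n := by
        rcases Nat.lt_or_ge n 3 with h2 | h3
        · exact absurd (he (by omega)) (by decide)
        · exact h3
      rw [AutPSL.invTPow_one] at hcl
      exact no_graph h3 K.subtype fun P => hcl _ ⟨P, rfl⟩
    rw [invTPow, if_pos rfl, mul_one] at hcl hco ⊢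
    obtain ⟨hτ, u, rfl⟩ := scalar_of_sl (r := r) hn K.subtype (h := h) (τ := τ) fun P hP =>
      comm_of_semi hn K.subtype _ (hcoe ⟨P, hP⟩) (hcl _ ⟨⟨P, hP⟩, rfl⟩)
    have hu : (semi (Matrix.GeneralLinearGroup.scalar (Fin n) u) τ : MulAut PSLn) = semi 1 τ := by
      rw [semi_eq_semi hn]; exact ⟨rfl, u, (mul_one _).symm⟩
    rw [hu] at hco ⊢
    obtain ⟨k, hk⟩ := mem_zpowers_of_fix hσ (τ := τ) fun a ha => hτ ⟨a, (hKmem a).2 ha⟩
    refine eq_one_of_mem_zpowers hxord ?_ hco
    rw [hxdef, ← hk]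
    let f : (F ≃+* F) →* MulAut PSLn := MonoidHom.mk' (fun τ => semi 1 τ) fun a b => by
      rw [semi_mul', map_one, mul_one]
    exact ⟨k, (map_zpow f σ k).symm⟩
  obtain ⟨i₀, j₀, hij₀⟩ := exists_pair_ne (Fin n)
  refine core_iff (center_psl hn hK) A hinn (fun hb => ?_) (fun hd M hM hMn hMc => ?_)
    fun c hc hcj hco => hC c hc (fun l hl => hcj l (hLJ hl)) hco
  · have h1 : Θ ⟨Matrix.transvection i₀ j₀ 1, hdet1 _ _ hij₀⟩ = 1 :=
      Subgroup.mem_bot.1 (hb ▸ hLJ ⟨_, rfl⟩)
    obtain ⟨c, hc⟩ := hne1 _ h1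
    have := hc i₀ j₀
    simp [Matrix.transvection, hij₀] at this
  refine hJ_of_image Θ.range hLJ hnorm ?_ (fun c hc => hC c hc.2) M hM hMn hMc
  intro M' hM' hn' hc'
  by_cases hsmall : n = 2 ∧ Nat.card K ≤ 3
  · -- two small rational groups
    obtain ⟨rfl, hk3⟩ := hsmall
    have hr2 : 2 ≤ r := (Fact.out : r.Prime).two_le
    have hKr : Nat.card K = r := by
      obtain ⟨a, -, ha⟩ := FiniteField.card K r
      rw [Nat.card_eq_fintype_card] at hk3 ⊢
      rw [ha] at hk3 ⊢
      rcases Nat.lt_or_ge 1 (a : ℕ) with h1 | h1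
      · exfalso
        have : r ^ 2 ≤ r ^ (a : ℕ) := Nat.pow_le_pow_right (by omega) h1
        nlinarith
      · rw [show (a : ℕ) = 1 by have := a.pos; omega, pow_one]
    have hr : r = 2 ∨ r = 3 := by rw [hKr] at hk3; omega
    -- the order of the rational group
    have hLc : Nat.card ↥Θ.range ∣ Nat.card (Matrix.ProjectiveSpecialLinearGroup (Fin 2) K) := by
      rw [← Subgroup.index_ker, ← Subgroup.index_eq_card]
      exact Subgroup.index_dvd_of_le fun z hz => hZ z hz
    have hcard : Nat.card (Matrix.ProjectiveSpecialLinearGroup (Fin 2) K) = if r = 2 then 6 else 12 := by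
      have h := ClassicalSL.card_psl_mul (ι := Fin 2) (F := K)
      have hgl := Matrix.card_GL_field (𝔽 := K) 2
      rw [Fintype.card_fin, hKr] at h
      rw [← Nat.card_eq_fintype_card (α := K), hKr] at hgl
      rw [hgl] at h
      rcases hr with rfl | rfl <;> simp [Fin.prod_univ_two] at h ⊢ <;> omega
    rw [hcard] at hLc
    have hu : ∀ i j : Fin 2, (hij : i ≠ j) → Θ (slOf (Matrix.transvection i j (1 : K)) (hdet1 i j hij)) ^ r = 1 := by
      intro i j hij
      rw [← map_pow]
      convert map_one Θ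
      refine Subtype.ext ?_
      rw [Matrix.SpecialLinearGroup.coe_pow, slOf_coe, Matrix.SpecialLinearGroup.coe_one]
      have hpow : ∀ k : ℕ, Matrix.transvection i j (1 : K) ^ k = Matrix.transvection i j (k : K) := fun k => by
        induction k with
        | zero => simp
        | succ k ih => rw [pow_succ, ih, Matrix.transvection_mul_transvection_same _ _ hij, Nat.cast_succ]
      rw [hpow, CharP.cast_eq_zero, Matrix.transvection_zero]
    by_contra hne
    -- the subgroup is the unique Sylow subgroup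
    have hMdvd : Nat.card M' ∣ Nat.card ↥Θ.range := Subgroup.card_dvd_of_le hM'
    have hMne : Nat.card M' ≠ 1 := fun e => hne (Subgroup.card_eq_one.1 e)
    have hpL : p ∣ (if r = 2 then 6 else 12) := (hdiv hd).trans hLc
    have hMr : Nat.card M' = r ∧ ¬ r ∣ Nat.card ↥Θ.range / r := by
      have h12 := hMdvd.trans hLc
      have hp2 := hp.out.two_le
      rcases hr with rfl | rfl
      · rw [if_pos rfl] at hpL hLc h12
        have h3 : p = 3 := by
          have := Nat.le_of_dvd (by norm_num) hpL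
          interval_cases p <;> first | omega | (exfalso; exact absurd hp.out (by norm_num))
        subst h3
        have h1 := Nat.le_of_dvd (by norm_num) h12
        have h2 := Nat.le_of_dvd (by norm_num) hLc
        have hMr : Nat.card M' = 2 := by
          generalize Nat.card M' = a at h1 h12 hMne hc' ⊢
          interval_cases a <;> first | omega | (exfalso; revert hc'; norm_num [Nat.coprime_iff_gcd_eq_one])
        have hrb := hMr ▸ hMdvd
        have hpb := hdiv hd
        refine ⟨hMr, ?_⟩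
        generalize Nat.card ↥Θ.range = b at h2 hLc hrb hpb ⊢
        interval_cases b <;> omega
      · rw [if_neg (by norm_num)] at hpL hLc h12
        have h3 : p = 2 := by
          have := Nat.le_of_dvd (by norm_num) hpL
          interval_cases p <;> first | omega | (exfalso; exact absurd hp.out (by norm_num))
        subst h3
        have h1 := Nat.le_of_dvd (by norm_num) h12
        have h2 := Nat.le_of_dvd (by norm_num) hLc
        have hMr : Nat.card M' = 3 := by
          generalize Nat.card M' = a at h1 h12 hMne hc' ⊢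
          interval_cases a <;> first | omega | (exfalso; revert hc'; norm_num [Nat.coprime_iff_gcd_eq_one])
        have hrb := hMr ▸ hMdvd
        have hpb := hdiv hd
        refine ⟨hMr, ?_⟩
        generalize Nat.card ↥Θ.range = b at h2 hLc hrb hpb ⊢
        interval_cases b <;> omega
    haveI hMn' : (M'.subgroupOf Θ.range).Normal := ⟨fun m hm l => hn' _ l.2 _ hm⟩
    have hmem : ∀ g : ↥Θ.range, g ^ r = 1 → (g : MulAut _) ∈ M' := fun g hg => by
      have h1 : (g : ↥Θ.range ⧸ M'.subgroupOf Θ.range) ^ r = 1 := by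
        rw [← QuotientGroup.mk_pow, hg, QuotientGroup.mk_one]
      have hq := Subgroup.card_eq_card_quotient_mul_card_subgroup (M'.subgroupOf Θ.range)
      rw [Nat.card_congr (Subgroup.subgroupOfEquivOfLe hM').toEquiv, hMr.1] at hq
      have hqc : Nat.card (↥Θ.range ⧸ M'.subgroupOf Θ.range) = Nat.card ↥Θ.range / r := by
        rw [hq, Nat.mul_div_cancel _ (by omega)]
      have h2 : orderOf (g : ↥Θ.range ⧸ M'.subgroupOf Θ.range) ∣ r := orderOf_dvd_of_pow_eq_one h1
      rcases (Nat.dvd_prime (Fact.out : r.Prime)).1 h2 with e | e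
      · exact (QuotientGroup.eq_one_iff g).1 (orderOf_eq_one_iff.1 e)
      · exact absurd (hqc ▸ e ▸ orderOf_dvd_natCard _) hMr.2
    obtain ⟨u, hudef⟩ : ∃ u, u = slOf (Matrix.transvection (0 : Fin 2) 1 (1 : K)) (hdet1 _ _ (by decide)) := ⟨_, rfl⟩
    obtain ⟨l, hldef⟩ : ∃ l, l = slOf (Matrix.transvection (1 : Fin 2) 0 (1 : K)) (hdet1 _ _ (by decide)) := ⟨_, rfl⟩
    have huM : Θ u ∈ M' := hmem ⟨_, u, rfl⟩ (Subtype.ext (hudef ▸ hu 0 1 (by decide)))
    have hlM : Θ l ∈ M' := hmem ⟨_, l, rfl⟩ (Subtype.ext (hldef ▸ hu 1 0 (by decide)))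
    have hu1 : Θ u ≠ 1 := fun h => by
      obtain ⟨c, hc⟩ := hne1 _ h
      have := hc 0 1
      simp [hudef, slOf_coe, Matrix.transvection] at this
    haveI := Fact.mk (Fact.out : r.Prime)
    obtain ⟨k, hk⟩ : ∃ k : ℕ, (⟨Θ u, huM⟩ : M') ^ k = ⟨Θ l, hlM⟩ :=
      mem_powers_of_prime_card hMr.1 (fun h => hu1 (congrArg Subtype.val h))
    obtain ⟨c, hc⟩ := hne1 (l⁻¹ * u ^ k) (by
      rw [map_mul, map_inv, map_pow, show Θ u ^ k = Θ l from congrArg Subtype.val hk, inv_mul_cancel])
    have hpow : ∀ k : ℕ, ((u ^ k : Matrix.SpecialLinearGroup (Fin 2) K) : Matrix (Fin 2) (Fin 2) K) =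
        !![1, (k : K); 0, 1] := fun k => by
      induction k with
      | zero => simp [Matrix.one_fin_two]
      | succ k ih =>
        rw [pow_succ, Matrix.SpecialLinearGroup.coe_mul, ih, hudef, slOf_coe]
        ext a b
        fin_cases a <;> fin_cases b <;>
          simp [Matrix.mul_apply, Fin.sum_univ_two, Matrix.transvection, add_comm]
    have h10 := hc 1 0
    simp [hldef, hpow, slOf_coe, Matrix.SpecialLinearGroup.coe_inv, Matrix.adjugate_fin_two, Matrix.mul_apply,
      Fin.sum_univ_two, Matrix.transvection] at h10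
  · refine hL_of_simple Θ ?_ hZ (hdiv hd) M' hM' hn' hc'
    rcases Nat.lt_or_ge n 3 with h2 | h3
    · obtain rfl : n = 2 := by omega
      exact Matrix.ProjectiveSpecialLinearGroup.rank_two_simple (by omega)
    · exact ClassicalSL.isSimpleGroup_psl (by simpa using h3)

end

end Cfsg.Agent.AutBalance
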