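import Cfsg.Agent.Lib.AutBalance.LinField
import Cfsg.Agent.Lib.AutBalance.FormsCore
import Cfsg.Agent.Lib.AutPSL.GraphInvClasses
import Cfsg.Agent.Lib.AutPSU.Outer
import Cfsg.Agent.Lib.AutPSL.Centralizer
import Cfsg.Agent.S0283

/-!
Odd cores of centralisers of graph and graph-field involutions of `PSL n`.
-/

set_option autoImplicit false

namespace Cfsg.Agent.AutBalance

open Matrix
open Cfsg.Agent.AutPSL (semi conjHom semi_mul' semi_eq_semi mapGL invT invTPow HasType grf starGL)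
open Cfsg.Agent.Transvec (mv)

variable {F : Type*} [Field F] {n : ℕ}

local notation "PSLn" => Matrix.ProjectiveSpecialLinearGroup (Fin n) F
local notation "Mn" => Matrix (Fin n) (Fin n) F

variable [Fintype F]

/-- An automorphism of odd order has no graph part. -/
theorem odd_no_graph (hn : 3 ≤ n) {c : MulAut PSLn} (hc : (orderOf c).Coprime 2) :
    ∃ (h : GL (Fin n) F) (τ : F ≃+* F), c = semi h τ := by
  obtain ⟨τ, e, ⟨h, he⟩, -⟩ := AutPSL.exists_hasType (show 2 ≤ n by omega) c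
  have h01 : e = 0 ∨ e = 1 := (by decide : ∀ e : ZMod 2, e = 0 ∨ e = 1) e
  have hpow : ∀ k : ℕ, HasType (c ^ k) (τ ^ k) (k * e : ZMod 2) := fun k => by
    induction k with
    | zero => simpa using ((AutPSL.semi_one (n := n) (F := F)) ▸ AutPSL.hasType_semi (1 : GL (Fin n) F) 1 :
        HasType (1 : MulAut PSLn) 1 0)
    | succ k ih =>
      rw [pow_succ, pow_succ, Nat.cast_succ, add_mul, one_mul]
      exact ih.mul ⟨h, he⟩
  have h1 := hpow (orderOf c)
  rw [pow_orderOf_eq_one] at h1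
  have he0 := (h1.unique (show 2 ≤ n by omega)
    ((AutPSL.semi_one (n := n) (F := F)) ▸ AutPSL.hasType_semi (1 : GL (Fin n) F) 1) fun h2 => by omega).2
  rw [(ZMod.natCast_eq_one_iff_odd.2 (Nat.coprime_two_right.1 hc) : ((orderOf c : ℕ) : ZMod 2) = 1), one_mul] at he0
  exact ⟨h, τ, by rw [he, he0, invTPow, if_pos rfl, mul_one]⟩

/-! ### graph automorphisms -/

section graph

variable {A B : GL (Fin n) F}

omit [Fintype F] in
theorem commute_of_iso (hBA : (B : Mn) * (A : Mn) = 1) {g : GL (Fin n) F}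
    (hg : (g : Mn)ᵀ * (B : Mn) * (g : Mn) = (B : Mn)) :
    (semi g 1 : MulAut PSLn) * grf A = grf A * semi g 1 := by
  have hAB : (A : Mn) * (B : Mn) = 1 := mul_eq_one_comm.1 hBA
  have h1 : ((g : Mn) * (A : Mn)) * ((g : Mn)ᵀ * (B : Mn)) = 1 := by
    have e : ((g : Mn)ᵀ * (B : Mn)) * ((g : Mn) * (A : Mn)) = 1 := by
      rw [← Matrix.mul_assoc, hg, hBA]
    exact mul_eq_one_comm.1 e
  have h2 : (g : Mn) * (A : Mn) * (g : Mn)ᵀ = (A : Mn) := by
    calc (g : Mn) * (A : Mn) * (g : Mn)ᵀ = (g : Mn) * (A : Mn) * (g : Mn)ᵀ * ((B : Mn) * (A : Mn)) := by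
          rw [hBA, Matrix.mul_one]
      _ = ((g : Mn) * (A : Mn)) * ((g : Mn)ᵀ * (B : Mn)) * (A : Mn) := by simp only [Matrix.mul_assoc]
      _ = _ := by rw [h1, Matrix.one_mul]
  have e : g * A * starGL g⁻¹ = A := Units.ext (by
    rw [Units.val_mul, Units.val_mul, AutPSL.star_inv_coe, h2])
  have e2 := AutPSL.semi_grf g A
  rw [e, mul_inv_eq_iff_eq_mul] at e2
  exact e2

/-- Similitudes are what commutes with the graph automorphism. -/
theorem rep_graph (hn : 3 ≤ n) (hBA : (B : Mn) * (A : Mn) = 1) {g : GL (Fin n) F}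
    (hg : (semi g 1 : MulAut PSLn) * grf A = grf A * semi g 1) :
    ∃ a : F, (g : Mn)ᵀ * (B : Mn) * (g : Mn) = a • (B : Mn) := by
  have e := AutPSL.semi_grf g A
  rw [hg, mul_inv_cancel_right, eq_comm, AutPSL.grf_eq_iff (by omega)] at e
  obtain ⟨a, ha⟩ := e
  rw [Units.val_mul, Units.val_mul, AutPSL.star_inv_coe] at ha
  refine ⟨(a : F), ?_⟩
  have h1 : ((g : Mn) * (A : Mn)) * (((a : F)⁻¹) • ((g : Mn)ᵀ * (B : Mn))) = 1 := by
    rw [Matrix.mul_smul, ← Matrix.mul_assoc, ha, Matrix.smul_mul, mul_eq_one_comm.1 hBA, smul_smul,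
      inv_mul_cancel₀ a.ne_zero, one_smul]
  have h2 := mul_eq_one_comm.1 h1
  rw [Matrix.smul_mul, ← Matrix.mul_assoc, inv_smul_eq_iff₀ a.ne_zero] at h2
  calc (g : Mn)ᵀ * (B : Mn) * (g : Mn) = (g : Mn)ᵀ * (B : Mn) * (g : Mn) * ((A : Mn) * (B : Mn)) := by
        rw [mul_eq_one_comm.1 hBA, Matrix.mul_one]
    _ = ((g : Mn)ᵀ * (B : Mn) * (g : Mn) * (A : Mn)) * (B : Mn) := by simp only [Matrix.mul_assoc]
    _ = _ := by rw [h2, Matrix.smul_mul, Matrix.one_mul]

end graph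

/-- The odd core at a graph involution is trivial. -/
theorem psl_grf (hn : 3 ≤ n) {r : ℕ} [Fact r.Prime] [CharP F r] (h2 : (2 : F) ≠ 0) {A : GL (Fin n) F}
    (hA : (A : Mn)ᵀ = (A : Mn) ∨ (A : Mn)ᵀ = -(A : Mn)) (𝒢 : Subgroup (MulAut PSLn))
    (hinn : ∀ k : PSLn, MulAut.conj k ∈ 𝒢) :
    Cfsg.pPrimeCore 2 ↥(𝒢 ⊓ Subgroup.centralizer {grf A}) = ⊥ := by
  classical
  obtain ⟨B, hB⟩ : ∃ B, B = A⁻¹ := ⟨_, rfl⟩
  have hBA : (B : Mn) * (A : Mn) = 1 := by rw [hB, Units.inv_mul]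
  have hBs : (B : Mn)ᵀ = (B : Mn) ∨ (B : Mn)ᵀ = -(B : Mn) := by
    have e : (A : Mn)ᵀ * (B : Mn)ᵀ = 1 := by rw [← transpose_mul, hBA, transpose_one]
    rcases hA with hA | hA <;> rw [hA] at e
    · exact Or.inl (left_inv_eq_right_inv hBA e).symm
    · rw [Matrix.neg_mul, ← Matrix.mul_neg] at e
      exact Or.inr (neg_eq_iff_eq_neg.1 (left_inv_eq_right_inv hBA e).symm)
  refine forms_core hn (r := r) h2 hBs (conjHom.comp (isoSub (B : Mn)).subtype)
    (fun g => Subgroup.mem_centralizer_singleton_iff.2 (commute_of_iso hBA g.2))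
    (fun g hd => ⟨(AutPSL.semi_mem_inn (show 2 ≤ n by omega) g.1).2 (by
      rw [show Matrix.GeneralLinearGroup.det g.1 = 1 from Units.ext hd]; exact one_mem _),
      Subgroup.mem_centralizer_singleton_iff.2 (commute_of_iso hBA g.2)⟩)
    (fun g => ?_) ?_ ?_ 𝒢 hinn
  · show (semi g.1 1 : MulAut PSLn) = 1 ↔ _
    rw [AutPSL.semi_eq_one_iff (by omega)]
    exact ⟨fun h => h.2, fun h => ⟨rfl, h⟩⟩
  · rintro j hj ⟨g, hg⟩
    obtain ⟨h, rfl⟩ := AutPSL.inn_le_range hj.1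
    obtain ⟨a, ha⟩ := rep_graph hn hBA (g := h) (Subgroup.mem_centralizer_singleton_iff.1 hj.2)
    have hmem : h * g * h⁻¹ ∈ isoSub (B : Mn) := by
      rw [mem_isoSub, Units.val_mul, Units.val_mul]
      calc ((h : Mn) * (g : Mn) * ((h⁻¹ : GL (Fin n) F) : Mn))ᵀ * (B : Mn) *
            ((h : Mn) * (g : Mn) * ((h⁻¹ : GL (Fin n) F) : Mn))
          = ((h⁻¹ : GL (Fin n) F) : Mn)ᵀ * ((g : Mn)ᵀ * ((h : Mn)ᵀ * (B : Mn) * (h : Mn)) * (g : Mn)) *
              ((h⁻¹ : GL (Fin n) F) : Mn) := by simp only [transpose_mul, Matrix.mul_assoc]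
        _ = ((h⁻¹ : GL (Fin n) F) : Mn)ᵀ * ((h : Mn)ᵀ * (B : Mn) * (h : Mn)) * ((h⁻¹ : GL (Fin n) F) : Mn) := by
          rw [ha, Matrix.mul_smul, Matrix.smul_mul, mem_isoSub.1 hg]
        _ = ((h : Mn) * ((h⁻¹ : GL (Fin n) F) : Mn))ᵀ * (B : Mn) * ((h : Mn) * ((h⁻¹ : GL (Fin n) F) : Mn)) := by
          simp only [transpose_mul, Matrix.mul_assoc]
        _ = _ := by rw [Units.mul_inv, transpose_one, Matrix.one_mul, Matrix.mul_one]
    refine ⟨⟨_, hmem⟩, ?_, ?_⟩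
    · show ((h * g * h⁻¹ : GL (Fin n) F) : Mn).det = (g : Mn).det
      rw [Units.val_mul, Units.val_mul, Matrix.det_units_conj]
    · show conjHom h * conjHom g * (conjHom h)⁻¹ = conjHom (h * g * h⁻¹)
      rw [map_mul, map_mul, map_inv]
  · intro c _ hcl hco
    obtain ⟨h, τ, rfl⟩ := odd_no_graph hn hco
    obtain ⟨hτ, u, rfl⟩ := forms_scalar (RingHom.id F) hn (r := r) h2 hBs (h := h) (τ := τ) fun P hd hP => by
      have hu : IsUnit P := (Matrix.isUnit_iff_isUnit_det _).2 (by rw [hd]; exact isUnit_one)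
      exact comm_of_semi (by omega) (RingHom.id F) hu.unit (by ext a b; rfl) (hcl ⟨hu.unit, hP⟩ hd)
    rw [AutPSL.semi_eq_one_iff (by omega)]
    exact ⟨RingEquiv.ext hτ, u, rfl⟩

omit [Fintype F] in
theorem isotropic_dot {q : ℕ} (v : Fin n → F) :
    (fun k => v k ^ q) ⬝ᵥ v = Cfsg.hermForm n F q v v :=
  Finset.sum_congr rfl fun k _ => mul_comm _ _

/-- The norm fibre over `-1` has `q + 1` elements. -/
theorem norm_fibre {q : ℕ} (hq : Fintype.card F = q ^ 2) (C : AutPSU.Conj F q) :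
    ∃ S : Finset F, q + 1 ≤ S.card ∧ (0 : F) ∉ S ∧ ∀ a ∈ S, a ^ (q + 1) = -1 := by
  classical
  obtain ⟨b, hb⟩ := AutPSU.exists_norm C (x := -1) (by rw [map_neg, map_one])
  rw [C.apply_eq, ← pow_succ'] at hb
  have hb0 : b ≠ 0 := fun e => by
    rw [e, zero_pow (Nat.succ_ne_zero _)] at hb
    exact one_ne_zero (neg_eq_zero.1 hb.symm)
  obtain ⟨S, hS⟩ : ∃ S : Finset F,
      S = ((Finset.univ : Finset ↥(powMonoidHom (q + 1) : Fˣ →* Fˣ).ker).image
      fun u : ↥(powMonoidHom (q + 1) : Fˣ →* Fˣ).ker => b * (u.1 : F)) := ⟨_, rfl⟩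
  refine ⟨S, ?_, fun h => ?_, fun a ha => ?_⟩
  · have hcard : Fintype.card (powMonoidHom (q + 1) : Fˣ →* Fˣ).ker = q + 1 := by
      rw [← Nat.card_eq_fintype_card, IsCyclic.card_powMonoidHom_ker, Nat.card_units, Nat.card_eq_fintype_card, hq,
        show q ^ 2 - 1 = (q + 1) * (q - 1) by
          rw [← Nat.sq_sub_sq, one_pow]]
      exact Nat.gcd_eq_right (dvd_mul_right _ _)
    rw [hS, Finset.card_image_of_injective _ (fun u v e => Subtype.ext (Units.ext (mul_left_cancel₀ hb0 e))),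
      Finset.card_univ, hcard]
  · rw [hS] at h
    obtain ⟨u, -, hu⟩ := Finset.mem_image.1 h
    exact mul_ne_zero hb0 (u : Fˣ).ne_zero hu
  · rw [hS] at ha
    obtain ⟨u, -, rfl⟩ := Finset.mem_image.1 ha
    have hu : (u : Fˣ) ^ (q + 1) = 1 := u.2
    rw [mul_pow, hb, ← Units.val_pow_eq_pow_val, hu, Units.val_one, mul_one]

/-- The odd core at a graph-field involution is trivial. -/
theorem psl_graphfield (hn : 3 ≤ n) {r : ℕ} [Fact r.Prime] [CharP F r] (h2 : (2 : F) ≠ 0) {σ : F ≃+* F}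
    (hσ : orderOf σ = 2) (𝒢 : Subgroup (MulAut PSLn)) (hinn : ∀ k : PSLn, MulAut.conj k ∈ 𝒢) :
    Cfsg.pPrimeCore 2 ↥(𝒢 ⊓ Subgroup.centralizer {(semi 1 σ * invT : MulAut PSLn)}) = ⊥ := by
  classical
  haveI : Fact (Nat.Prime 2) := ⟨Nat.prime_two⟩
  obtain ⟨f, -, hf⟩ := FiniteField.card F r
  obtain ⟨heven, hpow⟩ := AutPSL.involution_eq_pow r (f : ℕ) hf hσ
  obtain ⟨q, hqdef⟩ : ∃ q, q = r ^ ((f : ℕ) / 2) := ⟨_, rfl⟩
  have hF : Fintype.card F = q ^ 2 := by
    rw [hf, hqdef, ← pow_mul, Nat.div_mul_cancel (even_iff_two_dvd.1 heven)]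
  rw [← hqdef] at hpow
  have hσσ : ∀ a, σ (σ a) = a := fun a => by
    have h : σ ^ 2 = 1 := hσ ▸ pow_orderOf_eq_one σ
    rw [sq] at h
    exact RingEquiv.congr_fun h a
  obtain ⟨μ, hμ⟩ : ∃ μ, σ μ ≠ μ := by
    by_contra! h
    rw [show σ = 1 from RingEquiv.ext h, orderOf_one] at hσ
    omega
  let C : AutPSU.Conj F q := ⟨σ, hpow, hσσ, μ, hμ⟩
  have hGU := fun g : GL (Fin n) F => AutPSL.mem_GU_iff (n := n) q σ hpow hσσ g
  obtain ⟨x, hxdef⟩ : ∃ x, x = (semi 1 σ * invT : MulAut PSLn) := ⟨_, rfl⟩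
  rw [← hxdef]
  let Θ : ↥(Cfsg.SU n F q) →* MulAut PSLn :=
    conjHom.comp (Matrix.SpecialLinearGroup.toGL.comp (Cfsg.SU n F q).subtype)
  have hΘ : ∀ s : ↥(Cfsg.SU n F q), Θ s = semi (Matrix.SpecialLinearGroup.toGL s.1) 1 := fun s => rfl
  have hLJ : Θ.range ≤ innCent x := by
    rintro _ ⟨s, rfl⟩
    refine ⟨(AutPSL.semi_mem_inn (show 2 ≤ n by omega) _).2 ?_, Subgroup.mem_centralizer_singleton_iff.2 ?_⟩
    · show Matrix.GeneralLinearGroup.det (Matrix.SpecialLinearGroup.toGL s.1) ∈ _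
      rw [show Matrix.GeneralLinearGroup.det (Matrix.SpecialLinearGroup.toGL s.1) = 1 from Units.ext s.1.2]
      exact one_mem _
    · rw [hxdef]
      refine ((AutPSL.commute_graph_iff hn _ σ).2 ⟨1, ?_⟩).eq
      rw [map_one, one_mul]
      exact ((hGU _).1 (fun u v => s.2 u v)).symm
  have hnorm : ∀ j ∈ innCent x, ∀ l ∈ Θ.range, j * l * j⁻¹ ∈ Θ.range := by
    rintro j hj _ ⟨s, rfl⟩
    obtain ⟨g, rfl⟩ := AutPSL.inn_le_range hj.1
    obtain ⟨t, g', hg', rfl⟩ := AutPSL.exists_unitary_of_commute hn hσ (g := g)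
      (hxdef ▸ Subgroup.mem_centralizer_singleton_iff.1 hj.2)
    have hmem : g' * Matrix.SpecialLinearGroup.toGL s.1 * g'⁻¹ ∈ Cfsg.GU n F q :=
      Subgroup.mul_mem _ (Subgroup.mul_mem _ ((hGU _).2 hg') (fun u v => s.2 u v))
        (Subgroup.inv_mem _ ((hGU _).2 hg'))
    refine ⟨⟨slOf ((g' * Matrix.SpecialLinearGroup.toGL s.1 * g'⁻¹ : GL (Fin n) F) : Mn)
      (by rw [Units.val_mul, Units.val_mul, Matrix.det_units_conj]; exact s.1.2), fun u v => hmem u v⟩, ?_⟩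
    show conjHom (Matrix.SpecialLinearGroup.toGL _) =
      conjHom _ * conjHom (Matrix.SpecialLinearGroup.toGL s.1) * (conjHom _)⁻¹
    rw [show (conjHom (Matrix.GeneralLinearGroup.scalar (Fin n) t * g') : MulAut PSLn) = conjHom g' from
      AutPSL.semi_scalar_mul t g', ← map_inv, ← map_mul, ← map_mul]
    exact congrArg _ (Units.ext rfl)
  have hC : ∀ c : MulAut PSLn, (∀ l ∈ Θ.range, c * l = l * c) → (orderOf c).Coprime 2 → c = 1 := by
    intro c hcl hco
    obtain ⟨h, τ, rfl⟩ := odd_no_graph hn hco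
    obtain ⟨σ', hσ', hherm, -⟩ := UnitaryStd.exists_setup (n := n) hF (by omega)
    obtain ⟨c0, hc0d⟩ : ∃ c0, c0 = μ - σ μ := ⟨_, rfl⟩
    have hc0 : σ' c0 = -c0 := by
      rw [hσ', ← hpow, hc0d, map_sub, hσσ, neg_sub]
    have hc0ne : c0 ≠ 0 := hc0d ▸ sub_ne_zero.2 (Ne.symm hμ)
    obtain ⟨S, hS, hS0, hSa⟩ := norm_fibre hF C
    obtain ⟨hτ, u, rfl⟩ := Unip.scalar_of_isotropic (RingHom.id F) h τ hn q hF S hS hS0 fun i j hij a ha => by
      obtain ⟨v, hv⟩ : ∃ v : Fin n → F, v = Pi.single i 1 + a • Pi.single j 1 := ⟨_, rfl⟩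
      have hq0 : q ≠ 0 := fun e => by
        rw [e] at hF; simp at hF
      have hvv : Cfsg.hermForm n F q v v = 0 := by
        rw [Cfsg.hermForm, ← Finset.sum_subset (Finset.subset_univ {i, j}) fun k _ hk => by
          simp only [Finset.mem_insert, Finset.mem_singleton, not_or] at hk
          simp [hv, hk.1, hk.2], Finset.sum_pair hij]
        simp [hv, hij, hij.symm, ← pow_succ', hSa a ha]
      obtain ⟨A, -, hA⟩ := UnitaryStd.exists_su_htv hherm v hvv hc0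
      obtain ⟨w, hw⟩ : ∃ w : Fin n → F, w = c0 • fun k => v k ^ q := ⟨_, rfl⟩
      have hN : IsNilpotent (vecMulVec v w) := ⟨2, by
        rw [pow_two, vecMulVec_mul_vecMulVec, hw, smul_dotProduct, isotropic_dot, hvv, smul_zero, zero_smul]
        ext a b; simp [vecMulVec_apply]⟩
      have hP : ((Matrix.SpecialLinearGroup.toGL A.1 : GL (Fin n) F) : Mn) =
          (1 + vecMulVec v w).map (RingHom.id F) := by
        show (A.1 : Mn) = _
        rw [hA, Cfsg.unitaryTransvection, hw]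
        ext a b
        simp [vecMulVec_apply]
      have hw0 : w ≠ 0 := fun e => by
        have h1 := congrFun (hw.symm.trans e) i
        simp [hv, hij, hc0ne] at h1
      obtain ⟨l, hl⟩ := Unip.line_of_rank_one (RingHom.id F) h τ hw0 (Unip.comm_nilpotent (RingHom.id F) h τ
        (by omega) hN (comm_of_semi (by omega) (RingHom.id F) _ hP (hcl _ ⟨A, rfl⟩)))
      refine ⟨l, ?_⟩
      simpa [hv] using hl
    rw [AutPSL.semi_eq_one_iff (by omega)]
    exact ⟨RingEquiv.ext hτ, u, rfl⟩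
  refine core_eq_bot (p := 2) 𝒢 hinn (fun M hM hMn hMc =>
      hJ_of_image Θ.range hLJ hnorm ?_ (fun c _ hc hco => hC c hc hco) M hM hMn hMc)
    fun c _ hcj hco => hC c (fun l hl => hcj l (hLJ hl)) hco
  have hq2 : q ≠ 2 := fun e => by
    haveI : CharP F 2 := charP_of_card_eq_prime_pow (R := F) (f := 2) (by rw [hF, e])
    exact h2 CharTwo.two_eq_zero
  refine hL_of_simple Θ (S0283.result hF n hn fun h => hq2 h.2) ?_ ?_
  · intro z hz
    obtain ⟨b, hb⟩ := (AutPSU.mem_center_iff C (by omega) hF z).1 hz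
    have hzn : (z.1 : Mn) = b • (1 : Mn) := Matrix.ext_iff_mulVec.2 fun w => by
      rw [smul_mulVec, one_mulVec]; exact hb w
    haveI : Nonempty (Fin n) := ⟨⟨0, by omega⟩⟩
    have hb0 : b ≠ 0 := fun e => by
      have h := z.1.2
      rw [hzn, e, zero_smul, Matrix.det_zero] at h
      exact zero_ne_one h
    rw [hΘ]
    refine (AutPSL.semi_eq_one_iff (by omega)).2 ⟨rfl, Units.mk0 b hb0, Units.ext ?_⟩
    show (z.1 : Mn) = _
    rw [hzn, Matrix.smul_one_eq_diagonal]; rfl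
  · obtain ⟨d, hd⟩ : ∃ d : Fin n → F, d = fun k => if k.val < 2 then -1 else 1 := ⟨_, rfl⟩
    have hdd : ∀ k, d k = 1 ∨ d k = -1 := fun k => by rw [hd]; dsimp only; split <;> simp
    have hdet : (diagonal d).det = 1 := by
      rw [det_diagonal, Finset.prod_eq_mul (⟨0, by omega⟩ : Fin n) ⟨1, by omega⟩ (by simp)
        (fun k _ hk => by
          rw [hd]; dsimp only; rw [if_neg]; intro h
          rcases k with ⟨kv, _⟩
          simp [Fin.ext_iff] at hk h
          omega) (by simp) (by simp)]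
      simp [hd]
    have hdq : ∀ k, d k * d k ^ q = 1 := fun k => by
      rw [← hpow]
      rcases hdd k with e | e <;> rw [e] <;> simp
    have hdu : slOf (diagonal d) hdet ∈ Cfsg.SU n F q := by
      intro u v
      refine Finset.sum_congr rfl fun k _ => ?_
      show ((diagonal d) *ᵥ u) k * (((diagonal d) *ᵥ v) k) ^ q = _
      rw [mulVec_diagonal, mulVec_diagonal, mul_pow, mul_mul_mul_comm, hdq, one_mul]
    obtain ⟨s, hs⟩ : ∃ s : ↥(Cfsg.SU n F q), (s.1 : Mn) = diagonal d := ⟨⟨_, hdu⟩, rfl⟩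
    have hs2 : Θ s * Θ s = 1 := by
      rw [← map_mul, show s * s = 1 from Subtype.ext (Subtype.ext (by
        rw [Subgroup.coe_mul, Matrix.SpecialLinearGroup.coe_mul, hs, diagonal_mul_diagonal]
        show _ = (1 : Mn)
        rw [← diagonal_one]
        congr 1
        funext k
        rcases hdd k with e | e <;> rw [e] <;> simp)), map_one]
    have hs1 : Θ s ≠ 1 := fun e => by
      obtain ⟨-, b, hb⟩ := (AutPSL.semi_eq_one_iff (show 2 ≤ n by omega)).1 ((hΘ s).symm.trans e)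
      have hval : (s.1 : Mn) = diagonal fun _ => (b : F) :=
        congrArg (fun u : GL (Fin n) F => (u : Mn)) hb
      rw [hs] at hval
      have e0 := congrFun (diagonal_injective hval) ⟨0, by omega⟩
      have e2 := congrFun (diagonal_injective hval) ⟨2, by omega⟩
      simp [hd] at e0 e2
      exact h2 (by linear_combination e2 - e0)
    rw [← orderOf_eq_prime (p := 2) (by rw [pow_two, hs2]) hs1]
    exact Subgroup.orderOf_dvd_natCard _ ⟨s, rfl⟩

/-- Triviality of the odd cores is invariant under conjugation of the automorphism. -/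
theorem bot_conj {K : Type*} [Group K] (p : ℕ) {x₀ : MulAut K} (c : MulAut K)
    (h : ∀ A : Subgroup (MulAut K), (∀ k : K, MulAut.conj k ∈ A) →
      Cfsg.pPrimeCore p ↥(A ⊓ Subgroup.centralizer {x₀}) = ⊥)
    (A : Subgroup (MulAut K)) (hinn : ∀ k : K, MulAut.conj k ∈ A) :
    Cfsg.pPrimeCore p ↥(A ⊓ Subgroup.centralizer {c * x₀ * c⁻¹}) = ⊥ := by
  obtain ⟨E, hE⟩ : ∃ E : MulAut K ≃* MulAut K, ∀ f, E f = c * f * c⁻¹ := ⟨MulAut.conj c, fun f => rfl⟩
  obtain ⟨A₀, hA₀⟩ : ∃ A₀, A₀ = A.comap E.toMonoidHom := ⟨_, rfl⟩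
  have hinn₀ : ∀ k : K, MulAut.conj k ∈ A₀ := fun k => by
    rw [hA₀, Subgroup.mem_comap]
    show E (MulAut.conj k) ∈ A
    rw [hE, show c * MulAut.conj k * c⁻¹ = MulAut.conj (c k) from MulEquiv.ext fun z => by
      show c (k * c⁻¹ z * k⁻¹) = c k * z * (c k)⁻¹
      rw [map_mul, map_mul, map_inv, MulAut.apply_inv_self]]
    exact hinn _
  have hB : (A₀ ⊓ Subgroup.centralizer {x₀}).map E.toMonoidHom = A ⊓ Subgroup.centralizer {c * x₀ * c⁻¹} := by
    ext y
    obtain ⟨z, rfl⟩ := E.surjective y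
    rw [← hE x₀, hA₀]
    simp only [Subgroup.mem_map, Subgroup.mem_inf, Subgroup.mem_comap, Subgroup.mem_centralizer_singleton_iff,
      MulEquiv.coe_toMonoidHom, EmbeddingLike.apply_eq_iff_eq, exists_eq_right]
    refine and_congr_right fun _ => ⟨fun e => by rw [← map_mul, e, map_mul], fun e => E.injective ?_⟩
    rw [map_mul, map_mul, e]
  by_contra hne
  exact (pPrimeCore_ne_bot_congr (((A₀ ⊓ Subgroup.centralizer {x₀}).equivMapOfInjective E.toMonoidHom
    E.injective).trans (MulEquiv.subgroupCongr hB))).2 hne (h A₀ hinn₀)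

end Cfsg.Agent.AutBalance
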