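import Cfsg.Agent.Lib.AutBalance.FieldBase
import Cfsg.Agent.Lib.AutPOmega.GraphSplitCount
import Cfsg.Agent.S0297

/-!
Local balance for the field automorphisms of the minus-type orthogonal groups.
-/

set_option autoImplicit false

namespace Cfsg.Agent.AutBalance

open Matrix QuadraticMap Cfsg.Agent.AutPOmega
open Cfsg.Agent.Orth (qMinus)

theorem exists_bin_aniso (F : Type*) [Field F] [Finite F] :
    ∃ a b : F, ∀ z₁ z₂ : F, z₁ ^ 2 + a * z₁ * z₂ + b * z₂ ^ 2 = 0 → z₁ = 0 ∧ z₂ = 0 := by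
  obtain ⟨c, hc⟩ : ∃ c : F, ∀ x : F, x ^ 2 + x ≠ c := by
    by_contra h
    push Not at h
    have hs : Function.Surjective fun x : F => x ^ 2 + x := h
    have hi := Finite.injective_iff_surjective.2 hs
    have := @hi 0 (-1) (by show (0 : F) ^ 2 + 0 = (-1) ^ 2 + -1; ring)
    simp at this
  refine ⟨1, -c, fun z₁ z₂ h => ?_⟩
  rcases eq_or_ne z₂ 0 with rfl | hz
  · exact ⟨pow_eq_zero_iff two_ne_zero |>.1 (by linear_combination h), rfl⟩
  · exfalso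
    refine hc (z₁ / z₂) ?_
    field_simp
    linear_combination h

variable {m : ℕ} {F : Type*} [Field F] [Fintype F] {a b : F}

set_option maxHeartbeats 2000000 in
/-- An automorphism of odd prime order with non-trivial field part is a field automorphism and satisfies the
criterion. -/
theorem minus_field (hm : 3 ≤ m)
    (hab : ∀ z₁ z₂ : F, z₁ ^ 2 + a * z₁ * z₂ + b * z₂ ^ 2 = 0 → z₁ = 0 ∧ z₂ = 0)
    {p : ℕ} [hp : Fact p.Prime] (hp2 : p ≠ 2) {g : GL ((Fin m ⊕ Fin m) ⊕ Fin 2) F} {τ : F ≃+* F}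
    (hg : Cfsg.IsSemisimilarityPair (Cfsg.quadFormMinus m F a b) g τ) (hord : orderOf (semi g τ hg) = p)
    (hτ : τ ≠ 1) (A : Subgroup (MulAut (Cfsg.POmega F (Cfsg.quadFormMinus m F a b))))
    (hinn : ∀ k : Cfsg.POmega F (Cfsg.quadFormMinus m F a b), MulAut.conj k ∈ A) (hxA : semi g τ hg ∈ A) :
    Cfsg.IsFieldAutClassPOmegaMinus m (semi g τ hg) ∧
    (Cfsg.pPrimeCore p ↥(A ⊓ Subgroup.centralizer {semi g τ hg}) ≠ ⊥ ↔
      Nat.Coprime p (Nat.card ↥(MonoidHom.eqLocus (semi g τ hg).toMonoidHom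
        (MonoidHom.id (Cfsg.POmega F (Cfsg.quadFormMinus m F a b)))))) := by
  obtain ⟨r, hr⟩ := CharP.exists F
  haveI : Fact r.Prime := ⟨CharP.char_is_prime F r⟩
  have h7 : 7 ≤ Fintype.card ((Fin m ⊕ Fin m) ⊕ Fin 2) := by simp; omega
  have ho := orderOf_field (geo_minus hab m) h7 hg hp.out hord hτ
  have hodd : Odd (orderOf τ) := ho ▸ hp.out.odd_of_ne_two hp2
  obtain ⟨K, hK, -⟩ := AutPSL.exists_fixed_field τ
  haveI : Fintype K := Fintype.ofFinite _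
  obtain ⟨a₀, b₀, hab₀⟩ := exists_bin_aniso K
  have hab' := aniso_of_odd hK hodd hab₀
  have hfix : ∀ x, x ∈ K.subtype.range ↔ τ x = x := fun x => by
    rw [← hK]
    exact ⟨fun ⟨y, hy⟩ => hy ▸ y.2, fun hx => ⟨⟨x, hx⟩, rfl⟩⟩
  have ha : τ (a₀ : F) = a₀ := (hK _).1 a₀.2
  have hb : τ (b₀ : F) = b₀ := (hK _).1 b₀.2
  have hs1 : Cfsg.IsSemisimilarityPair (Cfsg.quadFormMinus m F (a₀ : F) b₀)
      (1 : GL ((Fin m ⊕ Fin m) ⊕ Fin 2) F) τ := ⟨1, fun v => by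
    rw [Units.val_one, Matrix.one_mulVec, Units.val_one, one_mul]
    have := minus_quad_map (m := m) (a := (a₀ : F)) (b := (b₀ : F)) τ.toRingHom v
    simpa [ha, hb, Function.comp_def] using this⟩
  -- the field part is the same on the transported group
  obtain ⟨e₂, he₂⟩ := exists_bin_equiv hab hab'
  obtain ⟨E, hE⟩ := Cfsg.Agent.LBQuad.exists_padCongr (k := m) e₂ he₂
  obtain ⟨R, hR⟩ := exists_mv_of_equiv E
  have hRQ : ∀ v, Cfsg.quadFormMinus m F (a₀ : F) b₀ (Transvec.mv R v) = 1 * Cfsg.quadFormMinus m F a b v :=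
    fun v => by
      rw [one_mul, hR, ← Cfsg.Agent.Orth.coe_qMinus, ← Cfsg.Agent.Orth.coe_qMinus, qMinus, qMinus]
      exact (hE v).symm
  obtain ⟨Ψ, hΨ⟩ := exists_transport one_ne_zero hRQ
  obtain ⟨g', hg'def⟩ : ∃ g', g' = R * g * mapGL τ R⁻¹ := ⟨_, rfl⟩
  have hcR : R * g = g' * mapGL τ R := by rw [hg'def, mul_assoc, ← map_mul, inv_mul_cancel, map_one, mul_one]
  have hg' : Cfsg.IsSemisimilarityPair (Cfsg.quadFormMinus m F (a₀ : F) b₀) g' τ := by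
    obtain ⟨c, hc⟩ := id hg
    refine ⟨c, fun v => ?_⟩
    obtain ⟨w, rfl⟩ : ∃ w, Transvec.mv R w = v := ⟨Transvec.mv R⁻¹ v, Transvec.mv_mv_inv R v⟩
    have e : Transvec.mv g' (fun i => τ (Transvec.mv R w i)) = Transvec.mv R (Transvec.mv g fun i => τ (w i)) := by
      rw [← Transvec.mv_mul, hcR, Transvec.mv_mul]
      congr 1
      funext i
      exact RingHom.map_mulVec τ.toRingHom _ w i
    show Cfsg.quadFormMinus m F (a₀ : F) b₀ (Transvec.mv g' fun i => τ (Transvec.mv R w i)) =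
      (c : F) * τ (Cfsg.quadFormMinus m F (a₀ : F) b₀ (Transvec.mv R w))
    rw [e, hRQ, hRQ, one_mul, one_mul]
    exact hc w
  have hx' : MulAut.congr Ψ (semi g τ hg) = semi g' τ hg' := MulEquiv.ext fun z => by
    show Ψ (semi g τ hg (Ψ.symm z)) = _
    rw [hΨ g g' τ hg hg' hcR.symm, Ψ.apply_symm_apply]
  have h2 : semi g' τ hg' ^ orderOf τ = 1 := by
    rw [ho, ← hx', ← map_pow, ← hord, pow_orderOf_eq_one, map_one]
  have h1 : semi 1 τ hs1 ^ orderOf τ = 1 := by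
    obtain ⟨hG, e⟩ := semi_pow hs1 (orderOf τ)
    have ht : ∀ k, tw τ (1 : GL ((Fin m ⊕ Fin m) ⊕ Fin 2) F) k = 1 := fun k => by
      induction k with
      | zero => rfl
      | succ k ih => rw [tw, ih, map_one, one_mul]
    rw [e]
    exact (semi_congr _ ⟨1, fun v => by simp⟩ (ht _) (pow_orderOf_eq_one τ)).trans (semi_one' _)
  obtain ⟨N, -, hNe⟩ := minus_coset_conj hm hab' ha hb hs1 hg' h1 h2
  obtain ⟨Ψ', hΨ'⟩ : ∃ Ψ' : Cfsg.POmega F (Cfsg.quadFormMinus m F a b) ≃*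
      Cfsg.POmega F (Cfsg.quadFormMinus m F (a₀ : F) b₀), Ψ' = Ψ.trans N⁻¹ := ⟨_, rfl⟩
  have hconj : (Ψ'.symm.trans (semi g τ hg)).trans Ψ' = semi 1 τ hs1 := by
    refine MulEquiv.ext fun z => ?_
    rw [hΨ']
    show N⁻¹ (Ψ (semi g τ hg (Ψ.symm (N z)))) = _
    rw [show Ψ (semi g τ hg (Ψ.symm (N z))) = MulAut.congr Ψ (semi g τ hg) (N z) from rfl, hx', hNe]
    show N⁻¹ (N (semi 1 τ hs1 (N⁻¹ (N z)))) = _
    rw [MulAut.inv_apply_self, MulAut.inv_apply_self]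
  refine ⟨⟨(a₀ : F), b₀, Ψ', τ, hab', hτ, ha, hb, fun s s' hs => ?_⟩, ?_⟩
  · rw [hconj]
    exact induced_semi hs1 s s' (by simpa using hs)
  have hx : semi g τ hg = MulAut.congr Ψ'.symm (semi 1 τ hs1) := by
    rw [← hconj]
    refine MulEquiv.ext fun z => ?_
    show semi g τ hg z = Ψ'.symm (Ψ' (semi g τ hg (Ψ'.symm (Ψ' z))))
    rw [MulEquiv.symm_apply_apply, MulEquiv.symm_apply_apply]
  have hB := base_minus K.subtype hab₀ hab' hm
  have hsimple := Cfsg.Agent.S0297.result (F := K) (m + 1) (by omega) a₀ b₀ hab₀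
  have hgen : ∀ (R : ((Fin m ⊕ Fin m) ⊕ Fin 2 → F) → F) (R₀ : ((Fin m ⊕ Fin m) ⊕ Fin 2 → K) → K),
      ⇑(qMinus F m (K.subtype a₀) (K.subtype b₀)) = R → ⇑(qMinus K m a₀ b₀) = R₀ →
      IsSimpleGroup (Cfsg.POmega K R₀) →
      (∀ β : MulAut (Cfsg.POmega F R), ∃ (g : GL ((Fin m ⊕ Fin m) ⊕ Fin 2) F) (σ : F ≃+* F)
        (hg : Cfsg.IsSemisimilarityPair R g σ), β = semi g σ hg) →
      ∀ (hs : Cfsg.IsSemisimilarityPair R (1 : GL ((Fin m ⊕ Fin m) ⊕ Fin 2) F) τ)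
        (A : Subgroup (MulAut (Cfsg.POmega F R))), (∀ k : Cfsg.POmega F R, MulAut.conj k ∈ A) →
        semi 1 τ hs ∈ A →
        (Cfsg.pPrimeCore p ↥(A ⊓ Subgroup.centralizer {semi 1 τ hs}) ≠ ⊥ ↔
          Nat.Coprime p (Nat.card ↥(MonoidHom.eqLocus (semi 1 τ hs).toMonoidHom
            (MonoidHom.id (Cfsg.POmega F R))))) := by
    rintro R R₀ rfl rfl hs₀ hext hs A hA hxA
    haveI := hs₀
    exact base_criterion hB hfix hs hp2 ho hext A hA hxA
  exact iff_transport p Ψ'.symm (hgen _ _ (Cfsg.Agent.Orth.coe_qMinus m _ _) (Cfsg.Agent.Orth.coe_qMinus m _ _)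
    hsimple (fun β => exists_semi (geo_minus hab' m) h7 r (hD_minus hab' hm) β) hs1) hx A hinn hxA

end Cfsg.Agent.AutBalance
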