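import Cfsg.Agent.Lib.AutBalance.Basic
import Cfsg.Agent.Lib.AutPOmega.Field
import Cfsg.Agent.Lib.AutPOmega.Coset
import Cfsg.Agent.S0295
import Cfsg.Agent.S2735

/-!
Local balance for the field automorphisms of the odd-dimensional orthogonal groups.
-/

set_option autoImplicit false

namespace Cfsg.Agent.AutBalance

open Matrix Cfsg.Agent.AutPOmega Cfsg.Agent.Transvec Cfsg.Agent.Transvec.Orth
open Cfsg.Agent.Orth (SqCls sqc)

variable {m : ℕ} {F : Type*} [Field F] [Fintype F]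

local notation "Iv" => Unit ⊕ (Fin m ⊕ Fin m)
local notation "Qo" => Cfsg.quadFormOdd m F
local notation "SOg" => Cfsg.specialIsometryGL F (Cfsg.quadFormOdd m F)
local notation "POm" => Cfsg.POmega F (Cfsg.quadFormOdd m F)

theorem center_eq_bot_odd (h2 : (2 : F) ≠ 0) (hm : 3 ≤ m) : Subgroup.center POm = ⊥ := by
  rw [eq_bot_iff]
  intro z hz
  refine AutPOmega.conj_injective (geo_odd h2 m) (card_iv7 h2 hm) (MulEquiv.ext fun w => ?_)
  show z * w * z⁻¹ = 1 * w * 1⁻¹
  rw [inv_one, one_mul, mul_one, ← (Subgroup.mem_center_iff.1 hz) w, mul_inv_cancel_right]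

/-- A product of two reflections of square value is an involution in the kernel of the spinor character. -/
theorem exists_ker_involution (h2 : (2 : F) ≠ 0) (hm : 3 ≤ m) {D : SOg →* SqCls F}
    (hD : ∀ (h : SOg) (r₁ r₂ : Cfsg.isometryGroup F Qo) (v₁ v₂ : Iv → F), Qo v₁ ≠ 0 → Qo v₂ ≠ 0 →
      ((r₁ : GL Iv F) : Matrix Iv Iv F) = Cfsg.reflectionMatrix Qo v₁ →
      ((r₂ : GL Iv F) : Matrix Iv Iv F) = Cfsg.reflectionMatrix Qo v₂ →
      (h : GL Iv F) = (r₁ : GL Iv F) * (r₂ : GL Iv F) → D h = sqc F (Qo v₁) * sqc F (Qo v₂)) :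
    2 ∣ Nat.card D.ker := by
  obtain ⟨j⟩ : Nonempty (Fin m) := ⟨⟨0, by omega⟩⟩
  obtain ⟨h, hh, hM⟩ := exists_so_value h2 hm 1 hD j
  rw [Units.val_one, Cfsg.Agent.Orth.sqc_one] at hh
  rw [Units.val_one] at hM
  obtain ⟨u, hu⟩ : ∃ u : Iv → F, u = Pi.single (Sum.inl ()) 1 := ⟨_, rfl⟩
  obtain ⟨w, hw⟩ : ∃ w : Iv → F,
      w = Pi.single (Sum.inr (Sum.inl j)) 1 + Pi.single (Sum.inr (Sum.inr j)) 1 := ⟨_, rfl⟩
  rw [← hu, ← hw] at hM
  obtain ⟨M, hMd⟩ : ∃ M : Matrix Iv Iv F, M = ((h : GL Iv F) : Matrix Iv Iv F) := ⟨_, rfl⟩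
  rw [← hMd, ← Cfsg.Agent.Orth.coe_qOdd] at hM
  have hqu : Cfsg.Agent.Orth.qOdd F m u = 1 := by
    rw [Cfsg.Agent.Orth.coe_qOdd, hu]; simp [Cfsg.quadFormOdd, Pi.single_apply]
  have hqw : Cfsg.Agent.Orth.qOdd F m w = 1 := by
    rw [Cfsg.Agent.Orth.coe_qOdd, hw]; simp [Cfsg.quadFormOdd, Pi.single_apply]
  have huw : QuadraticMap.polar (Cfsg.Agent.Orth.qOdd F m) u w = 0 := by
    simp only [QuadraticMap.polar, Cfsg.Agent.Orth.coe_qOdd, hu, hw]
    simp [Cfsg.quadFormOdd, Pi.single_apply]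
  have hv : ∀ x, mv (h : GL Iv F) x = x - (QuadraticMap.polar (Cfsg.Agent.Orth.qOdd F m) x w) • w
      - (QuadraticMap.polar (Cfsg.Agent.Orth.qOdd F m) x u) • u := fun x => by
    show ((h : GL Iv F) : Matrix Iv Iv F) *ᵥ x = _
    rw [← hMd, hM, ← Matrix.mulVec_mulVec, Cfsg.Agent.Orth.reflectionMatrix_mulVec,
      Cfsg.Agent.Orth.reflectionMatrix_mulVec, hqu, hqw, div_one, div_one, QuadraticMap.polar_sub_left,
      QuadraticMap.polar_smul_left, QuadraticMap.polar_comm (⇑(Cfsg.Agent.Orth.qOdd F m)) w u, huw, smul_eq_mul,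
      mul_zero, sub_zero]
  have hne : h ≠ 1 := fun e => by
    have h1 := hv u
    rw [e, OneMemClass.coe_one, Cfsg.Agent.Transvec.mv_one, huw, zero_smul, sub_zero,
      QuadraticMap.polar_self, hqu] at h1
    have h3 := congrFun h1 (Sum.inl ())
    rw [hu] at h3
    simp at h3
    exact h2 (by linear_combination h3)
  have hsq : h * h = 1 := Subtype.ext (ext_mv fun x => by
    rw [Subgroup.coe_mul, mv_mul, hv x, hv, OneMemClass.coe_one, Cfsg.Agent.Transvec.mv_one,
      QuadraticMap.polar_sub_left, QuadraticMap.polar_sub_left, QuadraticMap.polar_sub_left,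
      QuadraticMap.polar_sub_left, QuadraticMap.polar_smul_left, QuadraticMap.polar_smul_left,
      QuadraticMap.polar_smul_left, QuadraticMap.polar_smul_left,
      QuadraticMap.polar_comm (⇑(Cfsg.Agent.Orth.qOdd F m)) w u, huw, QuadraticMap.polar_self,
      QuadraticMap.polar_self, hqu, hqw]
    ext i
    simp
    ring)
  let k : D.ker := ⟨h, hh⟩
  have hk : orderOf k = 2 := orderOf_eq_prime (by rw [pow_two]; exact Subtype.ext hsq)
    fun e => hne (congrArg Subtype.val e)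
  exact (dvd_of_eq hk.symm).trans (orderOf_dvd_natCard k)

variable {F₀ : Type*} [Field F₀] [Fintype F₀] (φ : F₀ →+* F)

/-- The centraliser of a standard field automorphism of prime order contains a simple group with small
centraliser. -/
theorem field_data (h2 : (2 : F) ≠ 0) (hm : 3 ≤ m) {σ : F ≃+* F} {p : ℕ} [hp : Fact p.Prime]
    (ho : orderOf σ = p) (hfix : ∀ a, a ∈ φ.range ↔ σ a = a) :
    ∃ L : Subgroup (MulAut POm),
      L ≤ (MulAut.conj : POm →* MulAut POm).range ⊓ Subgroup.centralizer {sa 1 σ} ∧ IsSimpleGroup L ∧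
      (∀ c ∈ Subgroup.centralizer {(sa 1 σ : MulAut POm)}, ∀ l ∈ L, c * l * c⁻¹ ∈ L) ∧
      (p ∣ Nat.card ↥((MulAut.conj : POm →* MulAut POm).range ⊓ Subgroup.centralizer {sa 1 σ}) →
        p ∣ Nat.card L) ∧
      ∀ c ∈ Subgroup.centralizer {(sa 1 σ : MulAut POm)}, (∀ l ∈ L, c * l = l * c) →
        c ∈ Subgroup.zpowers (sa 1 σ) := by
  have h20 : (2 : F₀) ≠ 0 := fun e => h2 (by rw [← map_ofNat φ, e, map_zero])
  obtain ⟨D₀, hs₀, hin₀, hmap₀⟩ := exists_index_two h20 hm (m := m)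
  obtain ⟨D₀', hin₀', hD₀', -⟩ := exists_char h20 hm (m := m)
  have hker : D₀.ker = D₀'.ker := SetLike.ext fun g => (hin₀ g).trans (hin₀' g).symm
  obtain ⟨D, hin, -, hle⟩ := exists_char h2 hm (m := m)
  obtain ⟨Θ, hΘ⟩ : ∃ Θ : Cfsg.specialIsometryGL F₀ (Cfsg.quadFormOdd m F₀) →* MulAut POm,
      Θ = (conjHom SOg so_le).comp (baseSO h2 φ) := ⟨_, rfl⟩
  have hinj : Function.Injective Θ := hΘ ▸ (conjSO_injective h2 hm).comp (baseSO_injective h2 φ)
  -- the kernel is the simple group over the fixed field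
  have hodd₀ : Odd (Fintype.card F₀) := Nat.odd_iff.2 (FiniteField.odd_card_of_char_ne_two fun h => h20 (by
    haveI := ringChar.of_eq h; exact CharTwo.two_eq_zero))
  haveI := Cfsg.Agent.S0295.result (F := F₀) hodd₀ m hm
  have hcen₀ := center_eq_bot_odd (F := F₀) h20 hm
  have hWinn : Nonempty (Cfsg.POmega F₀ (Cfsg.quadFormOdd m F₀) ≃* D₀.ker) :=
    ⟨(MonoidHom.ofInjective (AutPOmega.conj_injective (geo_odd h20 m) (card_iv7 h20 hm))).trans
      ((MulEquiv.subgroupCongr hmap₀.symm).trans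
        (D₀.ker.equivMapOfInjective _ (conjSO_injective h20 hm)).symm)⟩
  obtain ⟨eW⟩ := hWinn
  haveI : Nontrivial D₀.ker := eW.symm.toEquiv.nontrivial
  haveI hWs : IsSimpleGroup D₀.ker := IsSimpleGroup.isSimpleGroup_of_surjective eW.toMonoidHom eW.surjective
  have hperf : commutator (D₀.ker : Subgroup _) = ⊤ := by
    rcases IsSimpleGroup.eq_bot_or_eq_top_of_normal (commutator D₀.ker) inferInstance with h | h
    · exfalso
      haveI : Subsingleton (Cfsg.POmega F₀ (Cfsg.quadFormOdd m F₀)) := by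
        refine ⟨fun a b => ?_⟩
        have hall : ∀ a : Cfsg.POmega F₀ (Cfsg.quadFormOdd m F₀), a = 1 := fun a => by
          rw [← Subgroup.mem_bot, ← hcen₀, Subgroup.mem_center_iff]
          intro b
          apply eW.injective
          rw [map_mul, map_mul]
          exact commutatorElement_eq_one_iff_mul_comm.1 (Subgroup.mem_bot.1 (h ▸ Subgroup.commutator_mem_commutator
            (Subgroup.mem_top (eW b)) (Subgroup.mem_top (eW a))))
        rw [hall a, hall b]
      exact not_subsingleton D₀.ker (eW.symm.toEquiv.subsingleton)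
    · exact h
  have hderiv : ⁅D₀.ker, D₀.ker⁆ = D₀.ker := by
    have h := congrArg (Subgroup.map D₀.ker.subtype) hperf
    rwa [commutator_def, Subgroup.map_commutator, ← MonoidHom.range_eq_map, Subgroup.range_subtype] at h
  have hle₀ : ⁅(⊤ : Subgroup (Cfsg.specialIsometryGL F₀ (Cfsg.quadFormOdd m F₀))), ⊤⁆ ≤ D₀.ker :=
    Subgroup.commutator_le.2 fun a _ b _ => by
      rw [MonoidHom.mem_ker, map_commutatorElement]
      exact commutatorElement_eq_one_iff_mul_comm.2 ((show ∀ x y : SqCls _, x * y = y * x from fun x y => QuotientGroup.induction_on x fun a => QuotientGroup.induction_on y fun b => congrArg _ (mul_comm a b)) _ _)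
  obtain ⟨J, hJ⟩ : ∃ J, J = (MulAut.conj : POm →* MulAut POm).range ⊓ Subgroup.centralizer {(sa 1 σ : MulAut POm)} :=
    ⟨_, rfl⟩
  have hJΘ : J ≤ Θ.range := by
    rw [hJ]
    rintro f ⟨hf, hc⟩
    obtain ⟨h, rfl⟩ := hle hf
    obtain ⟨g, rfl⟩ := (fixed_iff_range h2 φ hm hfix h).1
      ((commute_iff h2 hm h σ).1 (Subgroup.mem_centralizer_singleton_iff.1 hc))
    exact ⟨g, by rw [hΘ]; rfl⟩
  have hΘc : ∀ g, Θ g ∈ Subgroup.centralizer {(sa 1 σ : MulAut POm)} := fun g => by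
    rw [hΘ]
    exact Subgroup.mem_centralizer_singleton_iff.2
      ((commute_iff h2 hm _ σ).2 ((fixed_iff_range h2 φ hm hfix _).2 ⟨g, rfl⟩)).eq
  have hLJ : D₀.ker.map Θ ≤ J := by
    have h1 : D₀.ker ≤ (D.comp (baseSO h2 φ)).ker := by
      rw [← hderiv]
      refine (Subgroup.commutator_mono le_top le_top).trans ?_
      refine Subgroup.commutator_le.2 fun a _ b _ => ?_
      rw [MonoidHom.mem_ker, map_commutatorElement]
      exact commutatorElement_eq_one_iff_mul_comm.2 ((show ∀ x y : SqCls _, x * y = y * x from fun x y => QuotientGroup.induction_on x fun a => QuotientGroup.induction_on y fun b => congrArg _ (mul_comm a b)) _ _)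
    rintro _ ⟨g, hg, rfl⟩
    rw [hJ]
    exact ⟨by rw [hΘ]; exact (hin _).1 (h1 hg), hΘc g⟩
  have hJL : ⁅J, J⁆ = D₀.ker.map Θ := by
    refine le_antisymm ((Subgroup.commutator_mono hJΘ hJΘ).trans ?_) ?_
    · rw [MonoidHom.range_eq_map, ← Subgroup.map_commutator]
      exact Subgroup.map_mono hle₀
    · conv_lhs => rw [← hderiv, Subgroup.map_commutator]
      exact Subgroup.commutator_mono hLJ hLJ
  refine ⟨D₀.ker.map Θ, hJ ▸ hLJ, ?_, ?_, ?_, ?_⟩
  · haveI : Nontrivial ↥(D₀.ker.map Θ) := (D₀.ker.equivMapOfInjective Θ hinj).symm.toEquiv.nontrivial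
    exact IsSimpleGroup.isSimpleGroup_of_surjective (D₀.ker.equivMapOfInjective Θ hinj).toMonoidHom
      (D₀.ker.equivMapOfInjective Θ hinj).surjective
  · intro c hc l hl
    have hcJ : J.map (MulAut.conj c).toMonoidHom ≤ J := by
      rw [hJ]
      rintro _ ⟨f, ⟨⟨k, rfl⟩, hf⟩, rfl⟩
      refine ⟨⟨c k, MulEquiv.ext fun z => ?_⟩, ?_⟩
      · show c k * z * (c k)⁻¹ = c (k * c⁻¹ z * k⁻¹)
        rw [map_mul, map_mul, map_inv, MulAut.apply_inv_self]
      · exact Subgroup.mul_mem _ (Subgroup.mul_mem _ hc hf) (Subgroup.inv_mem _ hc)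
    rw [← hJL] at hl ⊢
    have h := Subgroup.map_commutator J J (MulAut.conj c).toMonoidHom
    exact Subgroup.commutator_mono hcJ hcJ (h ▸ Subgroup.mem_map_of_mem _ hl)
  · intro hd
    rw [← hJ] at hd
    rw [Subgroup.card_map_of_injective hinj]
    have hdvd : Nat.card J ∣ 2 * Nat.card D₀.ker := by
      refine (Subgroup.card_dvd_of_le hJΘ).trans (dvd_of_eq ?_)
      rw [← Nat.card_congr (MonoidHom.ofInjective hinj).toEquiv, ← D₀.ker.card_mul_index, Subgroup.index_ker,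
        MonoidHom.range_eq_top.2 hs₀, Subgroup.card_top, Cfsg.Agent.Orth.card_sqCls_le.2.1 h20, mul_comm]
    rcases hp.out.dvd_mul.1 (hd.trans hdvd) with h | h
    · rw [(Nat.prime_dvd_prime_iff_eq hp.out Nat.prime_two).1 h, hker]
      exact exists_ker_involution h20 hm hD₀'
    · exact h
  · intro c hc hcl
    obtain ⟨h, τ, rfl⟩ := exists_sa h2 hm c
    have hcm := Subgroup.mem_centralizer_singleton_iff.1 hc
    rw [sa_mul, sa_mul, map_one, mul_one, one_mul] at hcm
    obtain ⟨e1, -⟩ := sa_inj h2 hm hcm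
    obtain ⟨g, rfl⟩ := (fixed_iff_range h2 φ hm hfix h).1 e1.symm
    -- restrict the field part
    have hτr : ∀ a, τ (φ a) ∈ φ.range := fun a => (hfix _).2 (by
      have e : σ (τ (φ a)) = τ (σ (φ a)) :=
        congrArg (fun f : F ≃+* F => f (φ a)) (AutPSL.ringAut_comm σ τ)
      rw [e, (hfix (φ a)).1 ⟨a, rfl⟩])
    choose t ht using hτr
    let t₀ : F₀ →+* F₀ :=
      { toFun := t
        map_one' := φ.injective (by rw [ht]; simp)
        map_zero' := φ.injective (by rw [ht]; simp)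
        map_mul' := fun a b => φ.injective (by simp only [map_mul, ht])
        map_add' := fun a b => φ.injective (by simp only [map_add, ht]) }
    obtain ⟨τ₀, hτ₀⟩ : ∃ τ₀ : F₀ ≃+* F₀, ∀ a, φ (τ₀ a) = τ (φ a) :=
      ⟨RingEquiv.ofBijective t₀ ⟨t₀.injective, Finite.injective_iff_surjective.1 t₀.injective⟩, ht⟩
    have hu : ∀ u : Cfsg.specialIsometryGL F₀ (Cfsg.quadFormOdd m F₀), u ∈ D₀.ker →
        g * mapSO τ₀ u = u * g := by
      intro u hu
      have e := hcl _ (Subgroup.mem_map_of_mem Θ hu)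
      rw [hΘ, MonoidHom.comp_apply, conjSO_apply, sa_mul, sa_mul, mul_one, one_mul, mapSO_one] at e
      have e2 : mapSO τ (baseSO h2 φ u) = baseSO h2 φ (mapSO τ₀ u) :=
        Subtype.ext (Units.ext (Matrix.ext fun i j => (hτ₀ _).symm))
      rw [e2, ← map_mul, ← map_mul] at e
      exact baseSO_injective h2 φ (sa_inj h2 hm e).1
    have hone : (sa g τ₀ : MulAut (Cfsg.POmega F₀ (Cfsg.quadFormOdd m F₀))) = 1 := by
      refine MulEquiv.ext fun z => ?_
      obtain ⟨u, hu', he⟩ : MulAut.conj z ∈ D₀.ker.map (conjHom _ so_le) := hmap₀.symm ▸ ⟨z, rfl⟩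
      refine AutPOmega.conj_injective (geo_odd h20 m) (card_iv7 h20 hm) ?_
      have e3 : MulAut.conj ((sa g τ₀ : MulAut (Cfsg.POmega F₀ (Cfsg.quadFormOdd m F₀))) z) =
          sa g τ₀ * MulAut.conj z * (sa g τ₀)⁻¹ := MulEquiv.ext fun w => by
        show _ * w * _⁻¹ = sa g τ₀ (z * (sa g τ₀)⁻¹ w * z⁻¹)
        rw [map_mul, map_mul, map_inv, MulAut.apply_inv_self]
      rw [e3, MulAut.one_apply, mul_inv_eq_iff_eq_mul, ← he, conjSO_apply, sa_mul, sa_mul, mul_one, one_mul,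
        mapSO_one, hu u hu']
    rw [← sa_one_one (F := F₀) (m := m) h20 hm] at hone
    obtain ⟨rfl, rfl⟩ := sa_inj h20 hm hone
    rw [map_one]
    -- the field part fixes the fixed field
    obtain ⟨K, hK, -⟩ := AutPSL.exists_fixed_field σ
    have hKτ : ∀ a : K, τ (a : F) = a := fun a => by
      obtain ⟨b, hb⟩ := (hfix _).2 ((hK _).1 a.2)
      rw [← hb, ← hτ₀ b, RingAut.one_apply]
    haveI : Finite K := Subtype.finite
    haveI : Module.Finite K F := Module.Finite.of_finite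
    let σ' : F ≃ₐ[K] F := AlgEquiv.ofRingEquiv (f := σ) fun a => (hK _).1 a.2
    let τ' : F ≃ₐ[K] F := AlgEquiv.ofRingEquiv (f := τ) hKτ
    have hcard : Nat.card (F ≃ₐ[K] F) = p := by
      rw [IsGalois.card_aut_eq_finrank, finrank_fixed hK, ho]
    have hσ' : σ' ≠ 1 := fun e => hp.out.ne_one (by
      rw [← ho, orderOf_eq_one_iff]
      exact RingEquiv.ext fun a => congrArg (fun f : F ≃ₐ[K] F => f a) e)
    obtain ⟨k, hk⟩ : τ' ∈ Subgroup.zpowers σ' := by
      rw [zpowers_eq_top_of_prime_card hcard hσ']; exact Subgroup.mem_top _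
    let tof : (F ≃ₐ[K] F) →* (F ≃+* F) :=
      { toFun := fun f => f.toRingEquiv, map_one' := rfl, map_mul' := fun _ _ => rfl }
    have hk' : σ ^ k = τ := by
      have e := congrArg tof hk
      change tof (σ' ^ k) = tof τ' at e
      rw [map_zpow] at e
      exact (congrArg (· ^ k) (RingEquiv.ext fun _ => rfl)).trans (e.trans (RingEquiv.ext fun _ => rfl))
    let Φ : (F ≃+* F) →* MulAut POm := MonoidHom.mk' (fun τ => sa 1 τ) fun τ τ' => by
      rw [sa_mul, map_one, one_mul]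
    refine ⟨k, ?_⟩
    show Φ σ ^ k = Φ τ
    rw [← map_zpow, hk']

end Cfsg.Agent.AutBalance
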