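import Cfsg.Agent.Lib.AutBalance.Transfer
import Cfsg.Agent.Lib.AutPSp.Classes
import Cfsg.Agent.Lib.AutPSp.Centralizer
import Cfsg.Agent.Lib.AutPSp.Graph
import Cfsg.Agent.S0247
import Cfsg.Agent.S0270
import Mathlib.GroupTheory.SpecificGroups.Alternating.Centralizer
import Mathlib.GroupTheory.SpecificGroups.Alternating.Simple

/-!
Local balance for the field automorphisms of the symplectic groups.
-/

set_option autoImplicit false

open scoped commutatorElement

namespace Cfsg.Agent.AutBalance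

open Matrix Cfsg.Agent.AutPSp

section Base

variable {m : ℕ} {F : Type*} [Field F] [Fintype F]

local notation "Im" => Fin m ⊕ Fin m
local notation "Spm" => Matrix.symplecticGroup (Fin m) F
local notation "PSpm" => Cfsg.PSp m F

theorem center_eq_bot_psp (hm : 2 ≤ m) : Subgroup.center PSpm = ⊥ := by
  rw [eq_bot_iff]
  intro z hz
  obtain ⟨s, rfl⟩ := QuotientGroup.mk_surjective z
  rw [Subgroup.mem_bot, QuotientGroup.eq_one_iff]
  have h1 : (semi (spG s) 1 : MulAut PSpm) = 1 := by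
    rw [← inner_eq_semi]
    refine MulEquiv.ext fun w => ?_
    show (QuotientGroup.mk s : PSpm) * w * (QuotientGroup.mk s : PSpm)⁻¹ = w
    rw [← (Subgroup.mem_center_iff.1 hz) w, mul_inv_cancel_right]
  obtain ⟨-, a, ha⟩ := (semi_eq_one_iff hm).1 h1
  exact (mem_center_iff s).2 ⟨a, fun x => by rw [← spG_mulVec]; exact ha x⟩

theorem two_dvd_psp (hm : 2 ≤ m) (h2 : (2 : F) ≠ 0) : 2 ∣ Nat.card PSpm := by
  let s : Spm := ⟨Matrix.J (Fin m) F, SymplecticGroup.J_mem (Fin m) F⟩
  have hne : (QuotientGroup.mk s : PSpm) ≠ 1 := by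
    intro e
    obtain ⟨c, hc⟩ := (mem_center_iff s).1 ((QuotientGroup.eq_one_iff s).1 e)
    have h := congrFun (hc (Pi.single (Sum.inl ⟨0, by omega⟩) 1)) (Sum.inr ⟨0, by omega⟩)
    simp [act, s, Matrix.J, Matrix.mulVec, dotProduct, Matrix.one_apply] at h
  have hsq : (QuotientGroup.mk s : PSpm) * QuotientGroup.mk s = 1 := by
    rw [← QuotientGroup.mk_mul, QuotientGroup.eq_one_iff, mem_center_iff]
    refine ⟨-1, fun x => ?_⟩
    show ((s * s : Spm) : Matrix Im Im F) *ᵥ x = _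
    rw [Submonoid.coe_mul]
    show (Matrix.J (Fin m) F * Matrix.J (Fin m) F) *ᵥ x = _
    rw [Matrix.J_squared, Matrix.neg_mulVec, Matrix.one_mulVec, neg_one_smul]
  have ho : orderOf (QuotientGroup.mk s : PSpm) = 2 := orderOf_eq_prime (by rw [pow_two, hsq]) hne
  exact (dvd_of_eq ho.symm).trans (orderOf_dvd_natCard _)

theorem psp_facts (hm : 2 ≤ m) :
    IsSimpleGroup ↥(commutator PSpm) ∧ ⁅commutator PSpm, commutator PSpm⁆ = commutator PSpm ∧
      Nat.card PSpm ∣ 2 * Nat.card ↥(commutator PSpm) ∧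
      ((2 : F) ≠ 0 → 2 ∣ Nat.card ↥(commutator PSpm)) := by
  by_cases hs : m = 2 → 3 ≤ Fintype.card F
  · haveI := Cfsg.Agent.S0270.result (F := F) m hm hs
    have hcen := center_eq_bot_psp (F := F) hm
    have htop : commutator PSpm = ⊤ := by
      rcases IsSimpleGroup.eq_bot_or_eq_top_of_normal (commutator PSpm) inferInstance with h | h
      · exfalso
        have hall : ∀ a : PSpm, a = 1 := fun a => by
          rw [← Subgroup.mem_bot, ← hcen, Subgroup.mem_center_iff]
          intro b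
          refine commutatorElement_eq_one_iff_mul_comm.1 (Subgroup.mem_bot.1 (h ▸ ?_))
          exact Subgroup.commutator_mem_commutator (Subgroup.mem_top b) (Subgroup.mem_top a)
        exact not_subsingleton PSpm ⟨fun a b => (hall a).trans (hall b).symm⟩
      · exact h
    refine ⟨?_, ?_, ?_, fun h2 => ?_⟩
    · rw [htop]
      haveI : Nontrivial ↥(⊤ : Subgroup PSpm) := Subgroup.topEquiv.toEquiv.nontrivial
      exact IsSimpleGroup.isSimpleGroup_of_surjective (Subgroup.topEquiv (G := PSpm)).symm.toMonoidHom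
        (Subgroup.topEquiv (G := PSpm)).symm.surjective
    · nth_rewrite 1 [htop]
      nth_rewrite 1 [htop]
      exact (commutator_def _).symm
    · rw [htop, Subgroup.card_top]; exact dvd_mul_left _ _
    · rw [htop, Subgroup.card_top]; exact two_dvd_psp hm h2
  · push Not at hs
    obtain ⟨rfl, hlt⟩ := hs
    have hF : Fintype.card F = 2 := by have := Fintype.one_lt_card (α := F); omega
    have h20 : (2 : F) = 0 := by
      have h := Nat.cast_card_eq_zero F
      rw [hF] at h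
      exact_mod_cast h
    obtain ⟨e⟩ := Cfsg.Agent.S0247.result hF
    have hπ : Function.Bijective (QuotientGroup.mk' (Subgroup.center (Matrix.symplecticGroup (Fin 2) F))) :=
      ⟨by rw [← MonoidHom.ker_eq_bot_iff, QuotientGroup.ker_mk', center_trivial_char_two h20],
        QuotientGroup.mk'_surjective _⟩
    let E : Equiv.Perm (Fin 6) ≃* Cfsg.PSp 2 F := e.symm.trans (MulEquiv.ofBijective _ hπ)
    have hcard : 5 ≤ Nat.card (Fin 6) := by simp
    have hE : (alternatingGroup (Fin 6)).map E.toMonoidHom = commutator (Cfsg.PSp 2 F) := by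
      rw [← alternatingGroup.commutator_perm_eq hcard, commutator_def, Subgroup.map_commutator,
        Subgroup.map_top_of_surjective (f := E.toMonoidHom) E.surjective, ← commutator_def]
    have eA : alternatingGroup (Fin 6) ≃* ↥(commutator (Cfsg.PSp 2 F)) :=
      ((alternatingGroup (Fin 6)).equivMapOfInjective E.toMonoidHom E.injective).trans (MulEquiv.subgroupCongr hE)
    haveI := alternatingGroup.isSimpleGroup (α := Fin 6) hcard
    haveI : Nontrivial ↥(commutator (Cfsg.PSp 2 F)) := eA.symm.toEquiv.nontrivial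
    refine ⟨IsSimpleGroup.isSimpleGroup_of_surjective eA.toMonoidHom eA.surjective, ?_, ?_, fun h2 => absurd h20 h2⟩
    · rw [← hE, ← Subgroup.map_commutator, commutator_alternatingGroup_eq_self hcard]
    · rw [← Nat.card_congr E.toEquiv, ← Nat.card_congr eA.toEquiv, two_mul_nat_card_alternatingGroup]

end Base

section Extension

variable {m : ℕ} {F : Type*} [Field F] [Fintype F] {F₀ : Type*} [Field F₀] [Fintype F₀] (φ : F₀ →+* F)

local notation "Im" => Fin m ⊕ Fin m
local notation "Spm" => Matrix.symplecticGroup (Fin m) F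
local notation "Sp₀" => Matrix.symplecticGroup (Fin m) F₀

omit [Fintype F] [Fintype F₀] in
theorem J_map : (Matrix.J (Fin m) F₀).map φ = Matrix.J (Fin m) F := by
  simp [Matrix.J, Matrix.fromBlocks_map, Matrix.map_one _ (map_zero φ) (map_one φ), Matrix.map_neg]

omit [Fintype F] [Fintype F₀] in
theorem exists_bSp : ∃ b : Sp₀ →* Spm, ∀ s, (b s : Matrix Im Im F) = (s : Matrix Im Im F₀).map φ :=
  ⟨{ toFun := fun s => ⟨(s : Matrix Im Im F₀).map φ, by
      have h := congrArg (φ.mapMatrix) (SymplecticGroup.mem_iff.1 s.2)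
      simp only [map_mul, RingHom.mapMatrix_apply, J_map φ] at h
      rw [Matrix.transpose_map] at h
      rw [SymplecticGroup.mem_iff]
      exact h⟩
     map_one' := Subtype.ext (map_one φ.mapMatrix)
     map_mul' := fun s t => Subtype.ext (map_mul φ.mapMatrix _ _) }, fun _ => rfl⟩

omit [Fintype F] [Fintype F₀] in
theorem exists_bGSp : ∃ b : Cfsg.GSp m F₀ →* Cfsg.GSp m F,
    ∀ g, (b g : GL Im F) = Matrix.GeneralLinearGroup.map φ (g : GL Im F₀) := by
  refine ⟨((Matrix.GeneralLinearGroup.map φ).comp (Cfsg.GSp m F₀).subtype).codRestrict _ fun g => ?_, fun _ => rfl⟩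
  obtain ⟨c, hc0, hc⟩ := exists_mult (g := (g : GL Im F₀)) g.2
  refine ⟨Units.mk0 (φ c) ((map_ne_zero φ).2 hc0), fun u v => ?_⟩
  obtain ⟨M, hM⟩ : ∃ M : Matrix Im Im F, M = ((g : GL Im F₀) : Matrix Im Im F₀).map φ := ⟨_, rfl⟩
  have hJ : ((g : GL Im F₀) : Matrix Im Im F₀).transpose * Matrix.J (Fin m) F₀ *
      ((g : GL Im F₀) : Matrix Im Im F₀) = c • Matrix.J (Fin m) F₀ := by
    ext i j
    have h : Cfsg.sympForm m F₀ (((g : GL Im F₀) : Matrix Im Im F₀) *ᵥ Pi.single i 1)
        (((g : GL Im F₀) : Matrix Im Im F₀) *ᵥ Pi.single j 1) =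
        c * Cfsg.sympForm m F₀ (Pi.single i 1) (Pi.single j 1) := hc _ _
    simp only [Cfsg.sympForm, Matrix.mulVec_mulVec, Matrix.mulVec_single_one, single_dotProduct, one_mul] at h
    simp only [Matrix.smul_apply, smul_eq_mul]
    rw [mul_assoc, Matrix.mul_apply]
    exact h
  have hJ' : M.transpose * Matrix.J (Fin m) F * M = φ c • Matrix.J (Fin m) F := by
    have h := congrArg φ.mapMatrix hJ
    simp only [map_mul, RingHom.mapMatrix_apply, J_map φ] at h
    rw [Matrix.transpose_map] at h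
    rw [hM, h]
    ext i j
    rw [Matrix.map_apply, Matrix.smul_apply, Matrix.smul_apply, smul_eq_mul, smul_eq_mul, map_mul, ← J_map φ,
      Matrix.map_apply]
  show Cfsg.sympForm m F (((g : GL Im F₀) : Matrix Im Im F₀).map φ *ᵥ u)
    (((g : GL Im F₀) : Matrix Im Im F₀).map φ *ᵥ v) = φ c * Cfsg.sympForm m F u v
  rw [← hM]
  simp only [Cfsg.sympForm]
  rw [Matrix.mulVec_mulVec, ← Matrix.vecMul_transpose, ← dotProduct_mulVec, Matrix.mulVec_mulVec, ← mul_assoc, hJ',
    Matrix.smul_mulVec, dotProduct_smul, smul_eq_mul]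

variable (hm : 2 ≤ m) {σ : F ≃+* F} (hφ : ∀ a, a ∈ φ.range ↔ σ a = a)
include hm

omit [Fintype F₀] in
/-- A similitude with entries in the subfield is defined over it. -/
theorem exists_descend {bG : Cfsg.GSp m F₀ →* Cfsg.GSp m F}
    (hbG : ∀ g, (bG g : GL Im F) = Matrix.GeneralLinearGroup.map φ (g : GL Im F₀)) {g' : Cfsg.GSp m F}
    (h : ∀ a b, ((g' : GL Im F) : Matrix Im Im F) a b ∈ φ.range) : ∃ g₀, bG g₀ = g' := by
  have hm1 : 1 ≤ m := by omega
  choose A hA using h
  have hmap : (Matrix.of A).map φ = ((g' : GL Im F) : Matrix Im Im F) := Matrix.ext hA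
  have hdet : (Matrix.of A).det ≠ 0 := fun h0 => by
    have h1 := RingHom.map_det φ (Matrix.of A)
    rw [h0, map_zero, RingHom.mapMatrix_apply, hmap] at h1
    exact (Matrix.GeneralLinearGroup.det (g' : GL Im F)).ne_zero h1.symm
  have hform : ∀ u v : Im → F₀, Cfsg.sympForm m F (φ ∘ u) (φ ∘ v) = φ (Cfsg.sympForm m F₀ u v) := fun u v => by
    simp only [Cfsg.sympForm, dotProduct, Matrix.mulVec, map_sum, map_mul, ← J_map φ, Matrix.map_apply,
      Function.comp_apply]
  have hmv : ∀ u : Im → F₀, φ ∘ ((Matrix.of A) *ᵥ u) =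
      ((g' : GL Im F) : Matrix Im Im F) *ᵥ (φ ∘ u) := fun u => by
    rw [← hmap]
    exact funext fun l => RingHom.map_mulVec φ _ u l
  obtain ⟨x, hx⟩ : ∃ x : Im → F₀, x ≠ 0 := ⟨Pi.single (Sum.inl ⟨0, hm1⟩) 1, by simp⟩
  obtain ⟨w, hw⟩ := exists_one hx
  obtain ⟨c, hc⟩ : ∃ c : F₀, φ c = (mu g' : F) := ⟨Cfsg.sympForm m F₀ (Matrix.of A *ᵥ w) (Matrix.of A *ᵥ x), by
    rw [← hform, hmv, hmv]
    refine (mu_spec hm1 g' _ _).trans ?_
    show _ * Cfsg.sympForm m F _ _ = _
    rw [hform, show Cfsg.sympForm m F₀ w x = 1 from hw, map_one, mul_one]⟩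
  have hmem : Matrix.GeneralLinearGroup.mkOfDetNeZero _ hdet ∈ Cfsg.GSp m F₀ := by
    refine ⟨Units.mk0 c (fun e => (mu g').ne_zero (by rw [← hc, e, map_zero])), fun u v => φ.injective ?_⟩
    show φ (Cfsg.sympForm m F₀ (Matrix.of A *ᵥ u) (Matrix.of A *ᵥ v)) = φ (c * Cfsg.sympForm m F₀ u v)
    rw [← hform, map_mul, ← hform, hmv, hmv, hc]
    exact mu_spec hm1 g' _ _
  refine ⟨⟨_, hmem⟩, Subtype.ext (Units.ext ?_)⟩
  rw [hbG]
  exact hmap

include hφ

/-- The criterion for a standard field automorphism. -/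
theorem symp_field_criterion {p : ℕ} [hp : Fact p.Prime] (ho : orderOf σ = p) (hp2 : p = 2 → (2 : F) ≠ 0)
    (A : Subgroup (MulAut (Cfsg.PSp m F))) (hinn : ∀ k : Cfsg.PSp m F, MulAut.conj k ∈ A)
    (hxA : (semi 1 σ : MulAut (Cfsg.PSp m F)) ∈ A) :
    Cfsg.pPrimeCore p ↥(A ⊓ Subgroup.centralizer {(semi 1 σ : MulAut (Cfsg.PSp m F))}) ≠ ⊥ ↔
      Nat.Coprime p (Nat.card ↥(MonoidHom.eqLocus (semi 1 σ : MulAut (Cfsg.PSp m F)).toMonoidHom
        (MonoidHom.id (Cfsg.PSp m F)))) := by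
  have hm1 : 1 ≤ m := by omega
  obtain ⟨bS, hbS⟩ := exists_bSp (m := m) φ
  obtain ⟨bG, hbG⟩ := exists_bGSp (m := m) φ
  have hspG : ∀ s, bG (spG s) = spG (bS s) := fun s => Subtype.ext (Units.ext (by
    rw [hbG]
    exact (hbS s).symm))
  have hscG : ∀ a : F₀ˣ, bG (scG a) = scG (Units.map φ.toMonoidHom a) := fun a => Subtype.ext (Units.ext (by
    rw [hbG]
    ext i j
    show φ ((((scG a : Cfsg.GSp m F₀) : GL Im F₀) : Matrix Im Im F₀) i j) = _
    rw [scG_coe, scG_coe]
    rcases eq_or_ne i j with rfl | hij <;> simp [*]))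
  obtain ⟨i₀, -⟩ : ∃ i : Im, i = Sum.inl ⟨0, hm1⟩ := ⟨_, rfl⟩
  have hcomap : ∀ s, s ∈ Subgroup.center Sp₀ ↔ bS s ∈ Subgroup.center Spm := by
    intro s
    rw [mem_center_iff, mem_center_iff]
    constructor
    · rintro ⟨c, hc⟩
      have hd : ∀ i j, (s : Matrix Im Im F₀) i j = c * (Pi.single j (1 : F₀) : Im → F₀) i := fun i j => by
        have h := congrFun (hc (Pi.single j 1)) i
        simpa [act] using h
      refine ⟨φ c, fun x => funext fun i => ?_⟩
      show ((bS s : Matrix Im Im F) *ᵥ x) i = φ c * x i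
      simp [hbS, Matrix.mulVec, dotProduct, hd, Pi.single_apply, apply_ite φ, ite_mul]
    · rintro ⟨c, hc⟩
      have hd : ∀ i j, φ ((s : Matrix Im Im F₀) i j) = c * (Pi.single j (1 : F) : Im → F) i := fun i j => by
        have h := congrFun (hc (Pi.single j 1)) i
        simpa [act, hbS] using h
      refine ⟨(s : Matrix Im Im F₀) i₀ i₀, fun x => funext fun i => ?_⟩
      show ((s : Matrix Im Im F₀) *ᵥ x) i = (s : Matrix Im Im F₀) i₀ i₀ * x i
      have hd0 : ∀ j, (s : Matrix Im Im F₀) i j = (s : Matrix Im Im F₀) i₀ i₀ * (Pi.single j (1 : F₀) : Im → F₀) i :=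
        fun j => φ.injective (by
          rw [hd, map_mul, hd]
          simp [Pi.single_apply, apply_ite φ])
      simp [Matrix.mulVec, dotProduct, hd0, Pi.single_apply]
  let ψ : Cfsg.PSp m F₀ →* Cfsg.PSp m F := QuotientGroup.map _ _ bS fun s hs => (hcomap s).1 hs
  have hψmk : ∀ s, ψ (QuotientGroup.mk s) = QuotientGroup.mk (bS s) := fun s => rfl
  have hψ : Function.Injective ψ := (injective_iff_map_eq_one _).2 fun k hk => by
    obtain ⟨s, rfl⟩ := QuotientGroup.mk_surjective k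
    rw [hψmk, QuotientGroup.eq_one_iff] at hk
    exact (QuotientGroup.eq_one_iff s).2 ((hcomap s).2 hk)
  have hnat : ∀ (g₀ : Cfsg.GSp m F₀) (τ : F ≃+* F) (τ₀ : F₀ ≃+* F₀), (∀ a, τ (φ a) = φ (τ₀ a)) → ∀ k,
      (semi (bG g₀) τ : MulAut (Cfsg.PSp m F)) (ψ k) = ψ (semi g₀ τ₀ k) := by
    intro g₀ τ τ₀ hτ k
    obtain ⟨s, rfl⟩ := QuotientGroup.mk_surjective k
    rw [hψmk, semi_mk, semi_mk, hψmk]
    refine congrArg QuotientGroup.mk (Subtype.ext ?_)
    rw [spConj_coe, hbS, hbS, spConj_coe, Matrix.map_mul, Matrix.map_mul, hbG, ← map_inv]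
    have e : ((s : Matrix Im Im F₀).map φ).map τ = ((s : Matrix Im Im F₀).map τ₀).map φ :=
      Matrix.ext fun i j => hτ _
    rw [e]
    rfl
  have hσφ : ∀ a, σ (φ a) = φ a := fun a => (hφ _).1 ⟨a, rfl⟩
  have hfix : ∀ k, (semi 1 σ : MulAut (Cfsg.PSp m F)) (ψ k) = ψ k := fun k => by
    have h := hnat 1 σ 1 hσφ k
    rwa [map_one, semi_one] at h
  have hord : orderOf (semi 1 σ : MulAut (Cfsg.PSp m F)) = p := (orderOf_semi_one hm σ).trans ho
  obtain ⟨hsimple, hperf, hdvd, heven⟩ := psp_facts (F := F₀) hm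
  have hcen := center_eq_bot_psp (F := F) hm
  have hconj : Function.Injective (MulAut.conj : Cfsg.PSp m F →* MulAut (Cfsg.PSp m F)) := by
    rw [← MonoidHom.ker_eq_bot_iff, eq_bot_iff]
    intro k hk
    rw [← hcen, Subgroup.mem_center_iff]
    intro z
    have h := congrArg (fun f : MulAut (Cfsg.PSp m F) => f z) (MonoidHom.mem_ker.1 hk)
    change k * z * k⁻¹ = z at h
    exact (mul_inv_eq_iff_eq_mul.1 h).symm
  have hcomm : ∀ h : Cfsg.PSp m F, (semi 1 σ : MulAut (Cfsg.PSp m F)) h = h →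
      Commute (MulAut.conj h) (semi 1 σ : MulAut (Cfsg.PSp m F)) := fun h hh => MulEquiv.ext fun z => by
    show h * (semi 1 σ : MulAut (Cfsg.PSp m F)) z * h⁻¹ = (semi 1 σ : MulAut (Cfsg.PSp m F)) (h * z * h⁻¹)
    rw [map_mul, map_mul, map_inv, hh]
  have hlift : ∀ h : Cfsg.PSp m F, (semi 1 σ : MulAut (Cfsg.PSp m F)) h = h →
      ∃ g₀ : Cfsg.GSp m F₀, MulAut.conj h = semi (bG g₀) 1 := by
    intro h hh
    have hc := hcomm h hh
    obtain ⟨s, rfl⟩ := QuotientGroup.mk_surjective h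
    rw [inner_eq_semi] at hc ⊢
    obtain ⟨t, g', hg', hsg⟩ := exists_fixed_of_commute hm (g := spG s) hc
    obtain ⟨g₀, rfl⟩ := exists_descend φ hm hbG (g' := g') fun a b =>
      (hφ _).2 (congrArg (fun u : Cfsg.GSp m F => ((u : GL Im F) : Matrix Im Im F) a b) hg')
    exact ⟨g₀, (semi_eq_semi hm).2 ⟨rfl, t, hsg⟩⟩
  refine field_criterion ψ hψ hcen (center_eq_bot_psp hm) hord hfix hsimple hperf ?_ ?_ ?_ ?_ A hinn hxA
  · intro h hh
    obtain ⟨g₀, hg₀⟩ := hlift h hh
    refine ⟨semi g₀ 1, fun k => ?_, fun e => hconj ?_⟩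
    · rw [← hnat g₀ 1 1 (fun a => rfl) k, ← hg₀]; rfl
    · obtain ⟨-, a, rfl⟩ := (semi_eq_one_iff' hm).1 e
      rw [hg₀, map_one, (semi_eq_one_iff' hm).2 ⟨rfl, _, hscG a⟩]
  · intro H hH
    have h1 : ⁅H, H⁆ ≤ ψ.range := by
      rw [Subgroup.commutator_le]
      intro a ha b hb
      obtain ⟨g, hg⟩ := hlift a (hH a ha)
      obtain ⟨g', hg'⟩ := hlift b (hH b hb)
      have hmu : mu ⁅g, g'⁆ = 1 := by
        rw [map_commutatorElement, commutatorElement_eq_one_iff_mul_comm, mul_comm]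
      obtain ⟨s, hs⟩ := exists_Sp ((((⁅g, g'⁆ : Cfsg.GSp m F₀) : GL Im F₀) : Matrix Im Im F₀)) fun x y => by
        rw [mu_spec hm1, hmu, Units.val_one, one_mul]
      have hs' : spG s = ⁅g, g'⁆ := Subtype.ext (Units.ext (Matrix.ext_of_mulVec_single fun j => by
        rw [spG_mulVec, hs]))
      refine ⟨QuotientGroup.mk s, hconj ?_⟩
      rw [hψmk, inner_eq_semi, ← hspG, hs', map_commutatorElement, map_commutatorElement, hg, hg',
        ← conjHom_apply, ← conjHom_apply, ← conjHom_apply, map_commutatorElement]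
    calc ⁅⁅H, H⁆, ⁅H, H⁆⁆ ≤ ⁅ψ.range, ψ.range⁆ := Subgroup.commutator_mono h1 h1
      _ = (commutator (Cfsg.PSp m F₀)).map ψ := by
        rw [MonoidHom.range_eq_map, ← Subgroup.map_commutator, ← commutator_def]
  · intro hd
    by_cases hp2' : p = 2
    · rw [hp2']
      exact heven fun e => hp2 hp2' (by rw [← map_ofNat φ, e, map_zero])
    have hcard : Nat.card ↥(MonoidHom.eqLocus (semi 1 σ : MulAut (Cfsg.PSp m F)).toMonoidHom
        (MonoidHom.id (Cfsg.PSp m F))) ∣ 4 * Nat.card ↥(commutator (Cfsg.PSp m F₀)) := by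
      have hle : (MulAut.conj : Cfsg.PSp m F →* MulAut (Cfsg.PSp m F)).range ⊓
          Subgroup.centralizer {(semi 1 σ : MulAut (Cfsg.PSp m F))} ≤
          Cfsg.inndiagPSp m F ⊓ Subgroup.centralizer {(semi 1 σ : MulAut (Cfsg.PSp m F))} :=
        inf_le_inf_right _ (by rw [← range_conjHom]; exact inn_le_range)
      obtain ⟨E⟩ := centralizer_field hm φ hφ
      have hP : Nat.card (Cfsg.PGSp m F₀) = Nat.card ↥(Cfsg.inndiagPSp m F₀) := by
        obtain ⟨E₀⟩ := centralizer_field (F := F₀) hm (σ := 1) (RingHom.id F₀) fun a => by simp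
        rw [← Nat.card_congr E₀.toEquiv, show Cfsg.inndiagPSp m F₀ ⊓
          Subgroup.centralizer {(semi 1 (1 : F₀ ≃+* F₀) : MulAut (Cfsg.PSp m F₀))} = Cfsg.inndiagPSp m F₀ from
          inf_eq_left.2 fun y _ => Subgroup.mem_centralizer_singleton_iff.2 (by rw [semi_one, mul_one, one_mul])]
      rw [card_eqLocus hcen]
      refine (Subgroup.card_dvd_of_le hle).trans ?_
      rw [Nat.card_congr E.toEquiv, hP, card_inndiag hm, show (4 : ℕ) = 2 * 2 from rfl, mul_assoc]
      exact mul_dvd_mul (Nat.gcd_dvd_left _ _) hdvd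
    rcases hp.out.dvd_mul.1 (hd.trans hcard) with h | h
    · exact absurd ((Nat.prime_dvd_prime_iff_eq hp.out Nat.prime_two).1
        (hp.out.dvd_of_dvd_pow (show p ∣ 2 ^ 2 from h))) hp2'
    · exact h
  · intro c hc hck
    -- the automorphism is semilinear
    obtain ⟨g, τ, rfl⟩ : ∃ (g : Cfsg.GSp m F) (τ : F ≃+* F), c = semi g τ := by
      by_cases hgen : (2 : F) ≠ 0 ∨ 3 ≤ m
      · exact exists_semi' hm hgen c
      rw [not_or, not_not] at hgen
      obtain ⟨h2, hm3⟩ := hgen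
      obtain rfl : m = 2 := by omega
      have h3 : 3 ≤ Nat.card F := by
        rw [Nat.card_eq_fintype_card]
        by_contra hlt
        haveI : Subsingleton (F ≃+* F) := by
          obtain ⟨E⟩ := AutPSL.exists_ringAut_equiv (F := F) 2 1 (by
            have := Fintype.one_lt_card (α := F); rw [pow_one]; omega)
          exact E.toEquiv.subsingleton
        exact hp.out.ne_one (by rw [← ho, Subsingleton.elim σ 1, orderOf_one])
      rcases exists_semi_or h2 c with h | ⟨g, τ, e⟩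
      · exact h
      exfalso
      obtain ⟨s₀, hs₀⟩ := exists_tv (Pi.single (Sum.inl 0) (1 : F₀) : Fin 2 ⊕ Fin 2 → F₀) 1
      have h20 : (2 : F₀) = 0 := φ.injective (by rw [map_ofNat, map_zero, h2])
      obtain ⟨s, hs⟩ := exists_tv (Pi.single (Sum.inl 0) (1 : F) : Fin 2 ⊕ Fin 2 → F) 1
      obtain ⟨t, ht⟩ := exists_short (1 : F) h2
      have hse : bS s₀ = s := Subtype.ext (by
        rw [hbS, mat_tv h20 hs₀, mat_tv h2 hs, Matrix.map_add _ (map_add φ), Matrix.map_single _ _ _ φ,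
          Matrix.map_one _ (map_zero φ) (map_one φ), map_one])
      have h1 : (semi g τ : MulAut (Cfsg.PSp 2 F)) (QuotientGroup.mk s) = QuotientGroup.mk t := by
        rw [← e, MulAut.mul_apply, ← hse, ← hψmk, hck, hψmk, hse]
        show QuotientGroup.mk' _ (psi h2 s) = _
        rw [psi_tv h2 hs ht]
        rfl
      have hmem : (QuotientGroup.mk t : Cfsg.PSp 2 F) ∈ cenQ (sm (g : GL (Fin 2 ⊕ Fin 2) F) τ
          (Pi.single (Sum.inl 0) (1 : F))) := by
        rw [← rel_semi g τ (Pi.single (Sum.inl 0) (1 : F)), ← h1]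
        exact Subgroup.mem_map_of_mem _ (Subgroup.mem_map_of_mem _ ⟨1, hs⟩)
      obtain ⟨u, hu, eu⟩ := hmem
      have hinj : Function.Injective (QuotientGroup.mk' (Subgroup.center (Matrix.symplecticGroup (Fin 2) F))) := by
        rw [← MonoidHom.ker_eq_bot_iff, QuotientGroup.ker_mk', center_trivial_char_two h2]
      obtain rfl := hinj eu
      refine tv_ne_short h2 ⟨1, ht⟩ (fun e1 => ?_) hu
      have := ht (Pi.single (Sum.inr 0) 1)
      rw [e1, act_one] at this
      have a := congrFun this (Sum.inl 1)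
      simp [B, Cfsg.sympForm, Matrix.J, dotProduct, sum_I4, Matrix.mulVec, Matrix.one_apply, Pi.single_apply] at a
    -- it is defined over the fixed field
    rw [semi_mul, semi_mul, semi_eq_semi hm] at hc
    obtain ⟨-, a, ha⟩ := hc
    rw [mapGSp_one', mul_one, one_mul] at ha
    obtain ⟨t, g', hg', rfl⟩ := exists_fixed_of_commute hm (g := g) ((commute_field_iff hm g σ).2
      ⟨a, ha⟩)
    obtain ⟨g₀, rfl⟩ := exists_descend φ hm hbG (g' := g') fun a b =>
      (hφ _).2 (congrArg (fun u : Cfsg.GSp m F => ((u : GL Im F) : Matrix Im Im F) a b) hg')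
    rw [show (semi (scG t * bG g₀) τ : MulAut (Cfsg.PSp m F)) = semi (bG g₀) τ from
      (semi_eq_semi hm).2 ⟨rfl, t, rfl⟩] at hck ⊢
    have hτr : ∀ a, τ (φ a) ∈ φ.range := fun a => (hφ _).2 (by
      have e : σ (τ (φ a)) = τ (σ (φ a)) := congrArg (fun f : F ≃+* F => f (φ a)) (AutPSL.ringAut_comm σ τ)
      rw [e, hσφ])
    choose r hr using hτr
    let r₀ : F₀ →+* F₀ :=
      { toFun := r
        map_one' := φ.injective (by rw [hr]; simp)
        map_zero' := φ.injective (by rw [hr]; simp)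
        map_mul' := fun a b => φ.injective (by simp only [map_mul, hr])
        map_add' := fun a b => φ.injective (by simp only [map_add, hr]) }
    obtain ⟨τ₀, hτ₀⟩ : ∃ τ₀ : F₀ ≃+* F₀, ∀ a, φ (τ₀ a) = τ (φ a) :=
      ⟨RingEquiv.ofBijective r₀ ⟨r₀.injective, Finite.injective_iff_surjective.1 r₀.injective⟩, hr⟩
    have hone : (semi g₀ τ₀ : MulAut (Cfsg.PSp m F₀)) = 1 := MulEquiv.ext fun k => hψ (by
      rw [← hnat g₀ τ τ₀ (fun a => (hτ₀ a).symm) k, hck k]; rfl)
    obtain ⟨rfl, b, rfl⟩ := (semi_eq_one_iff' hm).1 hone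
    obtain ⟨k, hk⟩ := mem_zpowers_of_fix (τ := τ) ho fun a ha => by
      obtain ⟨a₀, rfl⟩ := (hφ a).2 ha
      rw [← hτ₀, RingAut.one_apply]
    rw [hscG, show (semi (scG (Units.map φ.toMonoidHom b)) τ : MulAut (Cfsg.PSp m F)) = semi 1 τ from
      (semi_eq_semi hm).2 ⟨rfl, _, (mul_one _).symm⟩]
    let Φ : (F ≃+* F) →* MulAut (Cfsg.PSp m F) := MonoidHom.mk' (fun τ => semi 1 τ) fun τ τ' => by
      rw [semi_mul, mapGSp_one', mul_one]
    refine ⟨k, ?_⟩
    show Φ σ ^ k = Φ τ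
    rw [← map_zpow, show σ ^ k = τ from hk]

end Extension

end Cfsg.Agent.AutBalance
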