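import Cfsg.Agent.Lib.AutBalance.Basic

/-!
Local balance read through an embedding of the group over a fixed field, and its invariance under conjugation.
-/

set_option autoImplicit false

open scoped commutatorElement

namespace Cfsg.Agent.AutBalance

theorem pPrimeCore_ne_bot_iff {p : ℕ} {G : Type*} [Group G] :
    Cfsg.pPrimeCore p G ≠ ⊥ ↔ ∃ N : Subgroup G, N.Normal ∧ (Nat.card N).Coprime p ∧ N ≠ ⊥ := by
  rw [Ne, Cfsg.pPrimeCore, sSup_eq_bot]
  constructor
  · intro h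
    push Not at h
    obtain ⟨N, hN, hne⟩ := h
    exact ⟨N, hN.1, hN.2, hne⟩
  · rintro ⟨N, hn, hc, hne⟩ h
    exact hne (h N ⟨hn, hc⟩)

theorem pPrimeCore_ne_bot_congr {p : ℕ} {G G' : Type*} [Group G] [Group G'] (e : G ≃* G') :
    Cfsg.pPrimeCore p G ≠ ⊥ ↔ Cfsg.pPrimeCore p G' ≠ ⊥ := by
  rw [pPrimeCore_ne_bot_iff, pPrimeCore_ne_bot_iff]
  constructor
  · rintro ⟨N, hn, hc, hne⟩
    exact ⟨N.map e.toMonoidHom, hn.map _ e.surjective,
      by rwa [Subgroup.card_map_of_injective (f := e.toMonoidHom) e.injective],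
      fun h => hne ((Subgroup.map_eq_bot_iff_of_injective N (f := e.toMonoidHom) e.injective).1 h)⟩
  · rintro ⟨N, hn, hc, hne⟩
    exact ⟨N.map e.symm.toMonoidHom, hn.map _ e.symm.surjective,
      by rwa [Subgroup.card_map_of_injective (f := e.symm.toMonoidHom) e.symm.injective],
      fun h => hne ((Subgroup.map_eq_bot_iff_of_injective N (f := e.symm.toMonoidHom) e.symm.injective).1 h)⟩

/-- The criterion is invariant under conjugation of the automorphism. -/
theorem iff_conj {K : Type*} [Group K] (p : ℕ) {x₀ : MulAut K} (c : MulAut K)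
    (h : ∀ A : Subgroup (MulAut K), (∀ k : K, MulAut.conj k ∈ A) → x₀ ∈ A →
      (Cfsg.pPrimeCore p ↥(A ⊓ Subgroup.centralizer {x₀}) ≠ ⊥ ↔
        Nat.Coprime p (Nat.card ↥(MonoidHom.eqLocus x₀.toMonoidHom (MonoidHom.id K)))))
    (A : Subgroup (MulAut K)) (hinn : ∀ k : K, MulAut.conj k ∈ A) (hxA : c * x₀ * c⁻¹ ∈ A) :
    Cfsg.pPrimeCore p ↥(A ⊓ Subgroup.centralizer {c * x₀ * c⁻¹}) ≠ ⊥ ↔
      Nat.Coprime p (Nat.card ↥(MonoidHom.eqLocus (c * x₀ * c⁻¹).toMonoidHom (MonoidHom.id K))) := by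
  obtain ⟨E, hE⟩ : ∃ E : MulAut K ≃* MulAut K, ∀ f, E f = c * f * c⁻¹ := ⟨MulAut.conj c, fun f => rfl⟩
  obtain ⟨A₀, hA₀⟩ : ∃ A₀, A₀ = A.comap E.toMonoidHom := ⟨_, rfl⟩
  have hinn₀ : ∀ k : K, MulAut.conj k ∈ A₀ := fun k => by
    rw [hA₀, Subgroup.mem_comap]
    show E (MulAut.conj k) ∈ A
    rw [hE, show c * MulAut.conj k * c⁻¹ = MulAut.conj (c k) from MulEquiv.ext fun z => by
      show c (k * c⁻¹ z * k⁻¹) = c k * z * (c k)⁻¹
      rw [map_mul, map_mul, map_inv, MulAut.apply_inv_self]]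
    exact hinn _
  have hx₀ : x₀ ∈ A₀ := by
    rw [hA₀, Subgroup.mem_comap]
    show E x₀ ∈ A
    rwa [hE]
  have hB : (A₀ ⊓ Subgroup.centralizer {x₀}).map E.toMonoidHom = A ⊓ Subgroup.centralizer {c * x₀ * c⁻¹} := by
    ext y
    obtain ⟨z, rfl⟩ := E.surjective y
    rw [← hE x₀, hA₀]
    simp only [Subgroup.mem_map, Subgroup.mem_inf, Subgroup.mem_comap, Subgroup.mem_centralizer_singleton_iff,
      MulEquiv.coe_toMonoidHom, EmbeddingLike.apply_eq_iff_eq, exists_eq_right]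
    refine and_congr_right fun _ => ⟨fun e => by rw [← map_mul, e, map_mul], fun e => E.injective ?_⟩
    rw [map_mul, map_mul, e]
  rw [← pPrimeCore_ne_bot_congr (((A₀ ⊓ Subgroup.centralizer {x₀}).equivMapOfInjective E.toMonoidHom
    E.injective).trans (MulEquiv.subgroupCongr hB)), h A₀ hinn₀ hx₀]
  have e : Nat.card ↥(MonoidHom.eqLocus (c * x₀ * c⁻¹).toMonoidHom (MonoidHom.id K)) =
      Nat.card ↥(MonoidHom.eqLocus x₀.toMonoidHom (MonoidHom.id K)) := by
    rw [← Subgroup.card_map_of_injective (K := MonoidHom.eqLocus x₀.toMonoidHom (MonoidHom.id K))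
      (f := c.toMonoidHom) c.injective]
    congr 2
    ext k
    obtain ⟨j, rfl⟩ := c.surjective k
    constructor
    · intro hk
      refine ⟨j, c.injective ?_, rfl⟩
      change c (x₀ (c⁻¹ (c j))) = c j at hk
      rwa [MulAut.inv_apply_self] at hk
    · rintro ⟨i, hi, e⟩
      obtain rfl := c.injective e
      show c (x₀ (c⁻¹ (c i))) = c i
      rw [MulAut.inv_apply_self]
      exact congrArg c hi
  rw [e]

/-- The criterion for an automorphism whose fixed group is almost the image of a group with simple derived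
subgroup. -/
theorem field_criterion {K K₀ : Type*} [Group K] [Finite K] [Group K₀] (ψ : K₀ →* K)
    (hψ : Function.Injective ψ) (hcen : Subgroup.center K = ⊥) (hcen₀ : Subgroup.center K₀ = ⊥)
    {x : MulAut K} {p : ℕ} [Fact p.Prime] (hord : orderOf x = p) (hfix : ∀ k, x (ψ k) = ψ k)
    (hsimple : IsSimpleGroup ↥(commutator K₀)) (hperf : ⁅commutator K₀, commutator K₀⁆ = commutator K₀)
    (hres : ∀ h : K, x h = h → ∃ β : MulAut K₀, (∀ k, h * ψ k * h⁻¹ = ψ (β k)) ∧ (β = 1 → h = 1))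
    (hder : ∀ H : Subgroup K, (∀ h ∈ H, x h = h) → ⁅⁅H, H⁆, ⁅H, H⁆⁆ ≤ (commutator K₀).map ψ)
    (hdiv : p ∣ Nat.card ↥(MonoidHom.eqLocus x.toMonoidHom (MonoidHom.id K)) → p ∣ Nat.card ↥(commutator K₀))
    (hcent : ∀ c : MulAut K, c * x = x * c → (∀ k, c (ψ k) = ψ k) → c ∈ Subgroup.zpowers x)
    (A : Subgroup (MulAut K)) (hinn : ∀ k : K, MulAut.conj k ∈ A) (hxA : x ∈ A) :
    Cfsg.pPrimeCore p ↥(A ⊓ Subgroup.centralizer {x}) ≠ ⊥ ↔
      Nat.Coprime p (Nat.card ↥(MonoidHom.eqLocus x.toMonoidHom (MonoidHom.id K))) := by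
  haveI := hsimple
  obtain ⟨L₀, hL₀⟩ : ∃ L₀, L₀ = commutator K₀ := ⟨_, rfl⟩
  rw [← hL₀] at hperf hdiv hder hsimple
  have hcent0 : ∀ β : MulAut K₀, (∀ l ∈ L₀, β l = l) → β = 1 := by
    -- the centraliser of the derived group is trivial
    have hC : ∀ z : K₀, (∀ l ∈ L₀, z * l = l * z) → z = 1 := by
      intro z hz
      rw [← Subgroup.mem_bot, ← hcen₀, Subgroup.mem_center_iff]
      intro w
      have hmem : ⁅w, z⁆ ∈ L₀ := by
        rw [hL₀]; exact Subgroup.commutator_mem_commutator (Subgroup.mem_top w) (Subgroup.mem_top z)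
      have hcz : ∀ l ∈ L₀, w * z * w⁻¹ * l = l * (w * z * w⁻¹) := fun l hl => by
        have h1 : w⁻¹ * l * w ∈ L₀ := by
          have := (hL₀ ▸ (inferInstance : (commutator K₀).Normal) : L₀.Normal).conj_mem l hl w⁻¹
          rwa [inv_inv] at this
        calc w * z * w⁻¹ * l = w * (z * (w⁻¹ * l * w)) * w⁻¹ := by group
          _ = w * ((w⁻¹ * l * w) * z) * w⁻¹ := by rw [hz _ h1]
          _ = _ := by group
      have hcom : ∀ l ∈ L₀, ⁅w, z⁆ * l = l * ⁅w, z⁆ := fun l hl => by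
        rw [commutatorElement_def]
        calc w * z * w⁻¹ * z⁻¹ * l = w * z * w⁻¹ * (z⁻¹ * (l * z) * z⁻¹) := by group
          _ = w * z * w⁻¹ * (z⁻¹ * (z * l) * z⁻¹) := by rw [hz l hl]
          _ = (w * z * w⁻¹ * l) * z⁻¹ := by group
          _ = _ := by rw [hcz l hl]; group
      have hsimp : (Subgroup.center L₀) = ⊥ := by
        rcases IsSimpleGroup.eq_bot_or_eq_top_of_normal (Subgroup.center L₀) inferInstance with h | h
        · exact h
        · exfalso
          have h1 : ⁅L₀, L₀⁆ = ⊥ := by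
            rw [eq_bot_iff, Subgroup.commutator_le]
            intro a ha b hb
            rw [Subgroup.mem_bot, commutatorElement_eq_one_iff_mul_comm]
            exact congrArg Subtype.val (Subgroup.mem_center_iff.1 (h ▸ Subgroup.mem_top (⟨b, hb⟩ : L₀)) ⟨a, ha⟩)
          exact not_subsingleton L₀ (by rw [← hperf, h1]; infer_instance)
      have h1 : (⟨⁅w, z⁆, hmem⟩ : L₀) = 1 := by
        rw [← Subgroup.mem_bot, ← hsimp, Subgroup.mem_center_iff]
        exact fun l => Subtype.ext (hcom l l.2).symm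
      exact commutatorElement_eq_one_iff_mul_comm.1 (congrArg Subtype.val h1)
    intro β hβ
    refine MulEquiv.ext fun k => ?_
    rw [MulAut.one_apply]
    refine (inv_mul_eq_one.1 (hC (k⁻¹ * β k) fun l hl => ?_)).symm
    have h1 : k * l * k⁻¹ ∈ L₀ := (hL₀ ▸ (inferInstance : (commutator K₀).Normal) : L₀.Normal).conj_mem l hl k
    have h2 := hβ _ h1
    rw [map_mul, map_mul, map_inv, hβ l hl] at h2
    calc k⁻¹ * β k * l = k⁻¹ * (β k * l * (β k)⁻¹) * β k := by group
      _ = k⁻¹ * (k * l * k⁻¹) * β k := by rw [h2]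
      _ = _ := by group
  have hinj : Function.Injective (MulAut.conj : K →* MulAut K) := by
    rw [← MonoidHom.ker_eq_bot_iff, eq_bot_iff]
    intro k hk
    rw [← hcen, Subgroup.mem_center_iff]
    intro z
    have h := congrArg (fun f : MulAut K => f z) (MonoidHom.mem_ker.1 hk)
    change k * z * k⁻¹ = z at h
    exact (mul_inv_eq_iff_eq_mul.1 h).symm
  have hxc : ∀ k, x * MulAut.conj k = MulAut.conj (x k) * x := fun k => MulEquiv.ext fun z => by
    show x (k * z * k⁻¹) = x k * x z * (x k)⁻¹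
    rw [map_mul, map_mul, map_inv]
  obtain ⟨H, hH⟩ : ∃ H, H = MonoidHom.eqLocus x.toMonoidHom (MonoidHom.id K) := ⟨_, rfl⟩
  have hmemH : ∀ h, h ∈ H ↔ x h = h := fun h => by rw [hH]; rfl
  have hHL : ⁅⁅H, H⁆, ⁅H, H⁆⁆ = L₀.map ψ := by
    refine le_antisymm (hder H fun h hh => (hmemH h).1 hh) ?_
    have hle : (⊤ : Subgroup K₀).map ψ ≤ H := by
      rintro _ ⟨k, -, rfl⟩
      exact (hmemH _).2 (hfix k)
    conv_lhs => rw [← hperf, Subgroup.map_commutator, hL₀, commutator_def, Subgroup.map_commutator]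
    exact Subgroup.commutator_mono (Subgroup.commutator_mono hle hle) (Subgroup.commutator_mono hle hle)
  have hcH : ∀ c : MulAut K, c * x = x * c → ∀ h, x h = h → x (c h) = c h := fun c hc h hh => by
    have := congrArg (fun f : MulAut K => f h) hc
    change c (x h) = x (c h) at this
    rw [← this, hh]
  have hinjc : Function.Injective ((MulAut.conj : K →* MulAut K).comp ψ) := hinj.comp hψ
  refine core_ne_bot_iff hcen A hinn hxA hord (L₀.map ((MulAut.conj : K →* MulAut K).comp ψ)) ?_ ?_ ?_ ?_ ?_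
  · rintro _ ⟨l, -, rfl⟩
    refine ⟨⟨_, rfl⟩, Subgroup.mem_centralizer_singleton_iff.2 ?_⟩
    show MulAut.conj (ψ l) * x = x * MulAut.conj (ψ l)
    rw [hxc, hfix]
  · haveI : IsSimpleGroup L₀ := hsimple
    haveI : Nontrivial ↥(L₀.map ((MulAut.conj : K →* MulAut K).comp ψ)) :=
      (L₀.equivMapOfInjective _ hinjc).symm.toEquiv.nontrivial
    exact IsSimpleGroup.isSimpleGroup_of_surjective (L₀.equivMapOfInjective _ hinjc).toMonoidHom
      (L₀.equivMapOfInjective _ hinjc).surjective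
  · rintro c hc _ ⟨l, hl, rfl⟩
    have hc' := Subgroup.mem_centralizer_singleton_iff.1 hc
    have hmap : H.map c.toMonoidHom ≤ H := by
      rintro _ ⟨h, hh, rfl⟩
      exact (hmemH _).2 (hcH c hc' h ((hmemH h).1 hh))
    have h2 : c (ψ l) ∈ L₀.map ψ := by
      have hl2 : ψ l ∈ ⁅⁅H, H⁆, ⁅H, H⁆⁆ := hHL.symm ▸ Subgroup.mem_map_of_mem ψ hl
      rw [← hHL]
      have h3 : c (ψ l) ∈ (⁅⁅H, H⁆, ⁅H, H⁆⁆).map c.toMonoidHom := Subgroup.mem_map_of_mem _ hl2
      rw [Subgroup.map_commutator, Subgroup.map_commutator] at h3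
      exact Subgroup.commutator_mono (Subgroup.commutator_mono hmap hmap) (Subgroup.commutator_mono hmap hmap) h3
    obtain ⟨l', hl', e⟩ := h2
    refine ⟨l', hl', MulEquiv.ext fun z => ?_⟩
    show ψ l' * z * (ψ l')⁻¹ = c (ψ l * c⁻¹ z * (ψ l)⁻¹)
    rw [map_mul, map_mul, map_inv, MulAut.apply_inv_self, e]
  · intro hd
    rw [Subgroup.card_map_of_injective hinjc]
    refine hdiv ?_
    rwa [card_eqLocus hcen]
  · intro c hc hcl
    have hc' := Subgroup.mem_centralizer_singleton_iff.1 hc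
    have hl : ∀ l ∈ L₀, c (ψ l) = ψ l := fun l hl => hinj (by
      have h := hcl _ (Subgroup.mem_map_of_mem _ hl)
      change c * MulAut.conj (ψ l) = MulAut.conj (ψ l) * c at h
      have e : MulAut.conj (c (ψ l)) * c = c * MulAut.conj (ψ l) := MulEquiv.ext fun z => by
        show c (ψ l) * c z * (c (ψ l))⁻¹ = c (ψ l * z * (ψ l)⁻¹)
        rw [map_mul, map_mul, map_inv]
      rw [← e] at h
      exact mul_right_cancel h)
    refine hcent c hc' fun k => ?_
    have hh : x (c (ψ k) * (ψ k)⁻¹) = c (ψ k) * (ψ k)⁻¹ := by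
      rw [map_mul, map_inv, hfix, hcH c hc' _ (hfix k)]
    obtain ⟨β, hβ, hone⟩ := hres _ hh
    refine mul_inv_eq_one.1 (hone (hcent0 β fun l hl' => hψ ?_))
    have hn : k⁻¹ * l * k ∈ L₀ := by
      have := (hL₀ ▸ (inferInstance : (commutator K₀).Normal) : L₀.Normal).conj_mem l hl' k⁻¹
      rwa [inv_inv] at this
    have e := hl _ hn
    simp only [map_mul, map_inv, hl l hl'] at e
    rw [← hβ]
    calc c (ψ k) * (ψ k)⁻¹ * ψ l * (c (ψ k) * (ψ k)⁻¹)⁻¹
        = c (ψ k) * ((ψ k)⁻¹ * ψ l * ψ k) * (c (ψ k))⁻¹ := by group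
      _ = c (ψ k) * ((c (ψ k))⁻¹ * ψ l * c (ψ k)) * (c (ψ k))⁻¹ := by rw [e]
      _ = ψ l := by group

/-- A field automorphism fixing the fixed field of an automorphism of prime order is a power of it. -/
theorem mem_zpowers_of_fix {F : Type*} [Field F] [Fintype F] {σ τ : F ≃+* F} {p : ℕ} [hp : Fact p.Prime]
    (ho : orderOf σ = p) (h : ∀ a, σ a = a → τ a = a) : τ ∈ Subgroup.zpowers σ := by
  obtain ⟨K, hK, hcardK⟩ := AutPSL.exists_fixed_field σ
  haveI : Finite K := Subtype.finite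
  haveI : Module.Finite K F := Module.Finite.of_finite
  let σ' : F ≃ₐ[K] F := AlgEquiv.ofRingEquiv (f := σ) fun a => (hK _).1 a.2
  let τ' : F ≃ₐ[K] F := AlgEquiv.ofRingEquiv (f := τ) fun a => h _ ((hK _).1 a.2)
  have hrank : Module.finrank K F = p := by
    have h1 := Module.natCard_eq_pow_finrank (K := K) (V := F)
    rw [Nat.card_eq_fintype_card, hcardK] at h1
    rw [← ho]
    exact (Nat.pow_right_injective Finite.one_lt_card h1).symm
  have hcard : Nat.card (F ≃ₐ[K] F) = p := by rw [IsGalois.card_aut_eq_finrank, hrank]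
  have hσ' : σ' ≠ 1 := fun e => hp.out.ne_one (by
    rw [← ho, orderOf_eq_one_iff]
    exact RingEquiv.ext fun a => congrArg (fun f : F ≃ₐ[K] F => f a) e)
  obtain ⟨k, hk⟩ : τ' ∈ Subgroup.zpowers σ' := by
    rw [zpowers_eq_top_of_prime_card hcard hσ']; exact Subgroup.mem_top _
  let tof : (F ≃ₐ[K] F) →* (F ≃+* F) :=
    { toFun := fun f => f.toRingEquiv, map_one' := rfl, map_mul' := fun _ _ => rfl }
  have e := congrArg tof hk
  change tof (σ' ^ k) = tof τ' at e
  rw [map_zpow] at e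
  exact ⟨k, (congrArg (· ^ k) (RingEquiv.ext fun _ => rfl)).trans (e.trans (RingEquiv.ext fun _ => rfl))⟩

end Cfsg.Agent.AutBalance
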