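import Cfsg.Agent.Lib.AutBalance.LinGraph
import Cfsg.Agent.Lib.Classical.UnitaryStd
import Cfsg.Agent.Lib.AutPSU.GraphInvAut
import Cfsg.Agent.S0282
import Cfsg.Agent.S0283

/-!
Local balance for field automorphisms of odd order of `PSU n`.
-/

set_option autoImplicit false

namespace Cfsg.Agent.AutBalance

open Matrix
open Cfsg.Agent.AutPSU (semi conjHom mapGU Conj mat scU)

variable {F : Type*} [Field F] {n q : ℕ}

local notation "PSUn" => Cfsg.PSU n F q
local notation "GUn" => Cfsg.GU n F q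
local notation "SUn" => Cfsg.SU n F q
local notation "Mn" => Matrix (Fin n) (Fin n) F

variable [Fintype F]

/-- The exceptional group is not simple. -/
theorem not_three_two (hF : Fintype.card F = q ^ 2) (hK : IsSimpleGroup PSUn) : ¬ (n = 3 ∧ q = 2) := by
  rintro ⟨rfl, rfl⟩
  obtain ⟨h72, hsol⟩ := S0282.result (F := F) (by rw [hF]; norm_num)
  haveI := hK
  have hcomm : ∀ a b : Cfsg.PSU 3 F 2, a * b = b * a := IsSimpleGroup.comm_iff_isSolvable.2 hsol
  letI : CommGroup (Cfsg.PSU 3 F 2) := { (inferInstance : Group (Cfsg.PSU 3 F 2)) with mul_comm := hcomm }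
  have h := (inferInstance : IsSimpleGroup (Cfsg.PSU 3 F 2))
  have hp : (Nat.card (Cfsg.PSU 3 F 2)).Prime := IsSimpleGroup.prime_card
  rw [h72] at hp
  norm_num at hp

/-- The centre of the simple group is trivial. -/
theorem center_psu (hn : 3 ≤ n) (hF : Fintype.card F = q ^ 2) (hK : IsSimpleGroup PSUn) :
    Subgroup.center PSUn = ⊥ := by
  rcases hK.eq_bot_or_eq_top_of_normal (Subgroup.center PSUn) inferInstance with h | h
  · exact h
  exfalso
  obtain ⟨C⟩ := AutPSU.exists_conj hF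
  have hcomm : ∀ a b : PSUn, a * b = b * a := fun a b =>
    (Subgroup.mem_center_iff.1 (h ▸ Subgroup.mem_top a) b).symm
  -- inner automorphisms are trivial, so the group itself is
  obtain ⟨a, ha⟩ := exists_ne (1 : PSUn)
  obtain ⟨s, rfl⟩ := QuotientGroup.mk_surjective a
  refine ha ((QuotientGroup.eq_one_iff s).2 ((AutPSU.mem_center_iff C (by omega) hF s).2 ?_))
  have h1 : (MulAut.conj (QuotientGroup.mk s : PSUn) : MulAut PSUn) = 1 := MulEquiv.ext fun x => by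
    rw [MulAut.conj_apply, hcomm (QuotientGroup.mk s) x, mul_inv_cancel_right]; rfl
  rw [AutPSU.inner_eq_semi, AutPSU.semi_eq_one_iff hn hF] at h1
  exact h1.2

/-- A finite group with trivial centre has a nontrivial inner automorphism of order prime to `p`. -/
theorem exists_coprime_inner {X : Type*} [Group X] [Finite X] [Nontrivial X] (hcen : Subgroup.center X = ⊥) (p : ℕ)
    [hp : Fact p.Prime] : ∃ g : X, (orderOf (MulAut.conj g : MulAut X)).Coprime p ∧ (MulAut.conj g : MulAut X) ≠ 1 := by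
  classical
  by_contra hcon
  push Not at hcon
  have hpg : IsPGroup p X := by
    refine IsPGroup.iff_card.2 ⟨(Nat.card X).primeFactorsList.length, ?_⟩
    by_contra hne
    obtain ⟨l, hl, hlne, hld⟩ : ∃ l, l.Prime ∧ l ≠ p ∧ l ∣ Nat.card X := by
      by_contra h
      push Not at h
      exact hne (Nat.eq_prime_pow_of_unique_prime_dvd Nat.card_pos.ne' fun {d} hd hdd => by
        by_contra hdp
        exact h d hd hdp hdd).symm.symm
    haveI : Fact l.Prime := ⟨hl⟩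
    obtain ⟨g, hg⟩ := exists_prime_orderOf_dvd_card' (G := X) l hld
    have h1 := hcon g (Nat.Coprime.coprime_dvd_left (orderOf_map_dvd _ g) (by
      rw [hg]; exact (Nat.coprime_primes hl hp.out).2 hlne))
    have h2 : g ∈ Subgroup.center X := Subgroup.mem_center_iff.2 fun y => by
      have h3 : g * y * g⁻¹ = y := congrArg (fun f : MulAut X => f y) h1
      exact (mul_inv_eq_iff_eq_mul.1 h3).symm
    rw [hcen, Subgroup.mem_bot] at h2
    rw [h2, orderOf_one] at hg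
    exact hl.ne_one hg.symm
  haveI := hpg.center_nontrivial
  obtain ⟨z, hz⟩ := exists_ne (1 : Subgroup.center X)
  have h2 := z.2
  simp only [hcen, Subgroup.mem_bot] at h2
  exact hz (Subtype.ext h2)

/-- Scalar matrices give trivial automorphisms. -/
theorem semi_one_of_scalar (hn : 3 ≤ n) (hF : Fintype.card F = q ^ 2) {g : GUn} {c : F}
    (h : mat g = c • (1 : Mn)) : (semi g 1 : MulAut PSUn) = 1 := by
  rw [AutPSU.semi_eq_one_iff hn hF]
  exact ⟨rfl, c, fun x => by rw [show ((g : GL (Fin n) F) : Mn) = c • 1 from h, smul_mulVec, one_mulVec]⟩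

/-- Commutation of a semilinear map with a unitary matrix. -/
theorem comm_of_semiU (C : Conj F q) (hn : 3 ≤ n) (hF : Fintype.card F = q ^ 2) {F₀ : Type*} [Field F₀]
    (ι : F₀ →+* F) {P₀ : Matrix (Fin n) (Fin n) F₀} {M h : GUn} (hP : mat M = P₀.map ι) {τ : F ≃+* F}
    (hc : (semi h τ : MulAut PSUn) * semi M 1 = semi M 1 * semi h τ) :
    Unip.Comm ι (h : GL (Fin n) F) τ P₀ := by
  rw [AutPSU.semi_mul, AutPSU.semi_mul_one, mul_one, AutPSU.semi_iff C hn hF] at hc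
  obtain ⟨a, ha⟩ := hc
  rw [AutPSU.mat_mul, AutPSU.mat_mul, AutPSU.mat_mapGU, hP] at ha
  exact ⟨a, ha⟩

/-- A normal `2`-subgroup of the image of `SU 3 2` is trivial. -/
theorem su32_core {K : Type*} [Field K] [Fintype K] (hK : Fintype.card K = 2 ^ 2) {A : Type*} [Group A]
    (Θ : ↥(Cfsg.SU 3 K 2) →* A)
    (hker : ∀ s : ↥(Cfsg.SU 3 K 2), Θ s = 1 → ∃ c : K, ∀ v, AutPSU.act s v = c • v)
    (hZ : ∀ z ∈ Subgroup.center (Cfsg.SU 3 K 2), Θ z = 1)
    (M : Subgroup A) (hM : M ≤ Θ.range) (hn : ∀ l ∈ Θ.range, ∀ m ∈ M, l * m * l⁻¹ ∈ M)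
    (hc : (Nat.card M).Coprime 3) : M = ⊥ := by
  classical
  haveI : Fact (Nat.Prime 2) := ⟨Nat.prime_two⟩
  obtain ⟨C⟩ := AutPSU.exists_conj hK
  -- the group is a 2-group
  have h8 : Nat.card M ∣ 2 ^ 3 := by
    have h1 : Nat.card M ∣ 72 := by
      refine (Subgroup.card_dvd_of_le hM).trans ?_
      rw [← Subgroup.index_ker, ← (S0282.result (F := K) (by rw [hK]; norm_num)).1, ← Subgroup.index_eq_card]
      exact Subgroup.index_dvd_of_le fun z hz => hZ z hz
    rw [show (72 : ℕ) = 2 ^ 3 * 3 ^ 2 by norm_num] at h1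
    exact (hc.pow_right 2).dvd_of_dvd_mul_right h1
  obtain ⟨S, hS⟩ : ∃ S, S = M.comap Θ := ⟨_, rfl⟩
  haveI hSn : S.Normal := ⟨fun g hg s => by
    rw [hS, Subgroup.mem_comap] at hg ⊢
    rw [map_mul, map_mul, map_inv]
    exact hn _ ⟨s, rfl⟩ _ hg⟩
  obtain ⟨T⟩ : Nonempty (Sylow 2 S) := Sylow.nonempty
  -- the Sylow subgroup maps onto the subgroup
  have hsplit : ∀ g : S, ∃ t : S, t ∈ (T : Subgroup S) ∧ Θ (g : ↥(Cfsg.SU 3 K 2)) = Θ (t : ↥(Cfsg.SU 3 K 2)) := by
    let f : S →* M := (Θ.comp S.subtype).codRestrict M fun g => by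
      exact Subgroup.mem_comap.1 ((SetLike.ext_iff.1 hS _).1 g.2)
    have hf : Function.Surjective f := by
      rintro ⟨m, hm⟩
      obtain ⟨s, hs⟩ := hM hm
      exact ⟨⟨s, by rw [hS, Subgroup.mem_comap, hs]; exact hm⟩, Subtype.ext hs⟩
    intro g
    have hidx : ((T : Subgroup S).map f).index = 1 := by
      have h1 : ¬ 2 ∣ ((T : Subgroup S).map f).index := fun hd =>
        T.not_dvd_index (hd.trans ((T : Subgroup S).index_map_dvd hf))
      have h2 : ((T : Subgroup S).map f).index ∣ 2 ^ 3 := (Subgroup.index_dvd_card _).trans h8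
      obtain ⟨k, -, hk⟩ := (Nat.dvd_prime_pow Nat.prime_two).1 h2
      rcases k with _ | k
      · simpa using hk
      · exact absurd (hk ▸ dvd_pow_self 2 k.succ_ne_zero) h1
    rw [Subgroup.index_eq_one] at hidx
    obtain ⟨t, ht, e⟩ := hidx.symm.le (Subgroup.mem_top (f g))
    exact ⟨t, ht, (congrArg Subtype.val e).symm⟩
  have hTc : ∀ g : S, ∀ u ∈ (T : Subgroup S), g * u * g⁻¹ ∈ (T : Subgroup S) := by
    intro g u hu
    obtain ⟨t, ht, e⟩ := hsplit g
    obtain ⟨c, hc⟩ := hker ((t : ↥(Cfsg.SU 3 K 2))⁻¹ * (g : ↥(Cfsg.SU 3 K 2)))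
      (by rw [map_mul, map_inv, e, inv_mul_cancel])
    have hz : ((t : ↥(Cfsg.SU 3 K 2))⁻¹ * (g : ↥(Cfsg.SU 3 K 2))) ∈ Subgroup.center (Cfsg.SU 3 K 2) :=
      (AutPSU.mem_center_iff C (by norm_num) hK _).2 ⟨c, hc⟩
    have hcomm : (t⁻¹ * g) * u = u * (t⁻¹ * g) := Subtype.ext (Subgroup.mem_center_iff.1 hz u).symm
    have he : g * u * g⁻¹ = t * u * t⁻¹ := by
      calc g * u * g⁻¹ = t * ((t⁻¹ * g) * u) * g⁻¹ := by group
        _ = t * (u * (t⁻¹ * g)) * g⁻¹ := by rw [hcomm]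
        _ = _ := by group
    rw [he]
    exact Subgroup.mul_mem _ (Subgroup.mul_mem _ ht hu) (Subgroup.inv_mem _ ht)
  have hmemT : ∀ u : S, IsPGroup 2 (Subgroup.zpowers u) → u ∈ (T : Subgroup S) := by
    intro u hu
    haveI : (T : Subgroup S).Normal := ⟨fun v hv g => hTc g v hv⟩
    obtain ⟨P, hP⟩ := hu.exists_le_sylow
    haveI := Sylow.unique_of_normal T inferInstance
    rw [Subsingleton.elim P T] at hP
    exact hP (Subgroup.mem_zpowers u)
  -- common fixed vectors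
  letI : MulAction ↥(T : Subgroup S) (Fin 3 → K) :=
    { smul := fun t v => AutPSU.act ((t : S) : ↥(Cfsg.SU 3 K 2)) v
      one_smul := fun v => AutPSU.act_one v
      mul_smul := fun a b v => AutPSU.act_mul _ _ v }
  haveI : Fintype (Fin 3 → K) := inferInstance
  obtain ⟨w, hw, hw0⟩ := T.isPGroup'.exists_fixed_point_of_prime_dvd_card_of_fixed_point (Fin 3 → K)
    (by rw [Nat.card_fun, Nat.card_eq_fintype_card (α := K), hK]; norm_num)
    (a := 0) (fun t => AutPSU.act_zero _)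
  obtain ⟨W, hW⟩ : ∃ W : Set (Fin 3 → K), W = {v | ∀ t : S, t ∈ (T : Subgroup S) → AutPSU.act (t : ↥(Cfsg.SU 3 K 2)) v = v} := ⟨_, rfl⟩
  have hwW : w ∈ W := by rw [hW]; exact fun t ht => hw ⟨t, ht⟩
  have hWg : ∀ (g : ↥(Cfsg.SU 3 K 2)) v, v ∈ W → AutPSU.act g v ∈ W := by
    intro g v hv
    rw [hW] at hv ⊢
    intro t ht
    obtain ⟨u, hu⟩ : ∃ u : S, (u : ↥(Cfsg.SU 3 K 2)) = g⁻¹ * t * g := ⟨⟨_, by
      simpa using hSn.conj_mem _ t.2 g⁻¹⟩, rfl⟩
    have huT : u ∈ (T : Subgroup S) := by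
      refine hmemT u ?_
      intro x
      obtain ⟨k, hk⟩ := x.2
      obtain ⟨j, hj⟩ := T.isPGroup' ⟨t ^ k, Subgroup.zpow_mem _ ht k⟩
      refine ⟨j, Subtype.ext (Subtype.ext ?_)⟩
      have hj' : ((t : ↥(Cfsg.SU 3 K 2)) ^ k) ^ 2 ^ j = 1 := congrArg (fun z : ↥(T : Subgroup S) => ((z : S) : ↥(Cfsg.SU 3 K 2))) hj
      have hx : ((x : S) : ↥(Cfsg.SU 3 K 2)) = g⁻¹ * (t : ↥(Cfsg.SU 3 K 2)) ^ k * (g⁻¹)⁻¹ := by
        rw [← conj_zpow, inv_inv, ← hk]
        show ((u ^ k : S) : ↥(Cfsg.SU 3 K 2)) = _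
        rw [Subgroup.coe_zpow, hu]
      show (((x : S) : ↥(Cfsg.SU 3 K 2))) ^ 2 ^ j = 1
      rw [hx, conj_pow, hj', mul_one, mul_inv_cancel]
    rw [← AutPSU.act_mul, show (t : ↥(Cfsg.SU 3 K 2)) * g = g * u by rw [hu]; group, AutPSU.act_mul, hv u huT]
  have hlin : ∀ u v, u ∈ W → v ∈ W → ∀ a : K, u - v ∈ W ∧ a • u ∈ W := by
    intro u v hu hv a
    rw [hW] at hu hv ⊢
    exact ⟨fun t ht => by rw [AutPSU.act_sub, hu t ht, hv t ht], fun t ht => by rw [AutPSU.act_smul, hu t ht]⟩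
  haveI : Nontrivial Kˣ := Finite.one_lt_card_iff_nontrivial.1 (by
    rw [Nat.card_units, Nat.card_eq_fintype_card, hK]; norm_num)
  obtain ⟨z, hz⟩ := exists_ne (1 : Kˣ)
  have hz3 : (z : K) ^ 3 = 1 := by
    have := FiniteField.pow_card_sub_one_eq_one (z : K) z.ne_zero
    rwa [hK] at this
  have hdiag : ∀ a b : Fin 3, a ≠ b → ∃ g : ↥(Cfsg.SU 3 K 2), ∀ v, AutPSU.act g v = fun k =>
      (if k = a then (z : K) else if k = b then ((z⁻¹ : Kˣ) : K) else 1) * v k := by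
    intro a b hab
    obtain ⟨d, hd⟩ : ∃ d : Fin 3 → K, d = fun k => if k = a then (z : K) else if k = b then ((z⁻¹ : Kˣ) : K) else 1 := ⟨_, rfl⟩
    have hdet : (diagonal d).det = 1 := by
      rw [det_diagonal, Finset.prod_eq_mul a b hab (fun k _ hk => by simp [hd, hk.1, hk.2]) (by simp) (by simp)]
      simp [hd, hab.symm]
    have hnorm : ∀ k, d k ^ (2 + 1) = 1 := fun k => by
      rw [hd]; dsimp only
      split_ifs
      · exact hz3
      · rw [← Units.val_pow_eq_pow_val, inv_pow, show z ^ 3 = 1 from Units.ext hz3, inv_one, Units.val_one]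
      · exact one_pow _
    obtain ⟨s, hs⟩ := AutPSU.exists_SU (q := 2) (diagonal d) hdet fun u v => by
      refine Finset.sum_congr rfl fun k _ => ?_
      rw [mulVec_diagonal, mulVec_diagonal, mul_pow, mul_mul_mul_comm, ← pow_succ', hnorm, one_mul]
    exact ⟨s, fun v => (hs v).trans (funext fun k => by rw [mulVec_diagonal, hd])⟩
  have hsingle : ∃ a : Fin 3, (Pi.single a 1 : Fin 3 → K) ∈ W := by
    obtain ⟨a, ha⟩ : ∃ a, w a ≠ 0 := Function.ne_iff.1 (Ne.symm hw0)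
    obtain ⟨b, c, hab, hac, hbc⟩ :=
      (by decide : ∀ a : Fin 3, ∃ b c : Fin 3, a ≠ b ∧ a ≠ c ∧ b ≠ c) a
    obtain ⟨g, hg⟩ := hdiag a b hab
    obtain ⟨g', hg'⟩ := hdiag a c hac
    obtain ⟨y, hy⟩ : ∃ y, y = AutPSU.act g w - w := ⟨_, rfl⟩
    have hyW : y ∈ W := hy ▸ (hlin _ _ (hWg g w hwW) hwW 1).1
    have h2W := (hlin _ _ (hWg g' y hyW) hyW 1).1
    have hz1 : (z : K) - 1 ≠ 0 := sub_ne_zero.2 fun e => hz (Units.ext e)
    refine ⟨a, ?_⟩
    have hk : (Pi.single a 1 : Fin 3 → K) = (((z : K) - 1) * ((z : K) - 1) * w a)⁻¹ • (AutPSU.act g' y - y) := by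
      funext k
      rw [hg', hy, hg]
      rcases eq_or_ne k a with rfl | hka
      · simp
        field_simp
      · rcases eq_or_ne k b with rfl | hkb
        · simp [hka, hbc]
        · simp [hka, hkb]
    rw [hk]
    exact (hlin _ _ h2W h2W _).2
  have hall : ∀ k : Fin 3, (Pi.single k 1 : Fin 3 → K) ∈ W := by
    obtain ⟨a, ha⟩ := hsingle
    obtain ⟨P, hP⟩ := AutPSU.exists_SU (q := 2) (!![(0 : K), 0, 1; 1, 0, 0; 0, 1, 0])
      (by simp [Matrix.det_fin_three]) fun u v => by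
        simp [AutPSU.h, Cfsg.hermForm, Fin.sum_univ_three, Matrix.mulVec, dotProduct]
        ring
    have hstep : ∀ k, (Pi.single k 1 : Fin 3 → K) ∈ W → (Pi.single (k + 1) 1 : Fin 3 → K) ∈ W := fun k hk => by
      have h := hWg P _ hk
      rwa [hP, show (!![(0 : K), 0, 1; 1, 0, 0; 0, 1, 0]) *ᵥ Pi.single k 1 = Pi.single (k + 1) 1 by
        fin_cases k <;> ext l <;> fin_cases l <;> simp [Matrix.mulVec, dotProduct, Fin.sum_univ_three]] at h
    intro k
    have h1 := hstep a ha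
    have h2 := hstep _ h1
    rcases (by decide : ∀ a k : Fin 3, k = a ∨ k = a + 1 ∨ k = a + 1 + 1) a k with rfl | rfl | rfl <;> assumption
  refine eq_bot_iff.2 fun m hm => Subgroup.mem_bot.2 ?_
  obtain ⟨s, rfl⟩ := hM hm
  obtain ⟨t, ht, e⟩ := hsplit ⟨s, by rw [hS, Subgroup.mem_comap]; exact hm⟩
  rw [show Θ s = Θ (t : ↥(Cfsg.SU 3 K 2)) from e]
  have ht1 : (t : ↥(Cfsg.SU 3 K 2)) = 1 := AutPSU.ext_act fun v => by
    rw [AutPSU.act_one, pi_eq_sum_univ' v, AutPSU.act, Matrix.mulVec_sum]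
    refine Finset.sum_congr rfl fun k _ => ?_
    rw [Matrix.mulVec_smul]
    have hk := hall k
    rw [hW] at hk
    exact congrArg (v k • ·) (hk t ht)
  rw [ht1, map_one]

/-- The criterion at a field automorphism of odd prime order. -/
theorem psu_field (hn : 3 ≤ n) {r : ℕ} [Fact r.Prime] [CharP F r] {p : ℕ} [hp : Fact p.Prime] (hpr : p ≠ r)
    (hp2 : p ≠ 2) (hF : Fintype.card F = q ^ 2) (hK : IsSimpleGroup PSUn) {σ : F ≃+* F} (hσ : orderOf σ = p)
    (A : Subgroup (MulAut PSUn)) (hinn : ∀ k : PSUn, MulAut.conj k ∈ A) :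
    Cfsg.pPrimeCore p ↥(A ⊓ Subgroup.centralizer {(semi 1 σ : MulAut PSUn)}) ≠ ⊥ ↔
      Nat.Coprime p (Nat.card ↥(MonoidHom.eqLocus (semi 1 σ : MulAut PSUn).toMonoidHom (MonoidHom.id PSUn))) := by
  classical
  have hs := not_three_two hF hK
  obtain ⟨C⟩ := AutPSU.exists_conj hF
  have hodd : Odd (orderOf σ) := hσ ▸ hp.out.odd_of_ne_two hp2
  obtain ⟨K, hKmem, hcard⟩ := AutPSL.exists_fixed_field σ
  haveI : Fintype K := Fintype.ofFinite _
  haveI : CharP K r := (K.subtype.charP_iff K.subtype.injective r).2 ‹_›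
  obtain ⟨f, hfq⟩ : ∃ f : ℕ, q = r ^ f := by
    obtain ⟨a, -, ha⟩ := FiniteField.card F r
    obtain ⟨b, -, hb⟩ := (Nat.dvd_prime_pow (Fact.out : r.Prime)).1
      (⟨q, by rw [← ha, hF, pow_two]⟩ : q ∣ r ^ (a : ℕ))
    exact ⟨b, hb⟩
  obtain ⟨hKc, hKσ⟩ := AutPSU.conj_on_fixed C hF r f hfq hodd hcard
  obtain ⟨q0, hq0⟩ : ∃ q0, q0 = r ^ (f / orderOf σ) := ⟨_, rfl⟩
  rw [← hq0] at hKc hKσ
  rw [Nat.card_eq_fintype_card] at hKc
  obtain ⟨C₀⟩ := AutPSU.exists_conj hKc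
  have hcompat : ∀ a : K, C.σ (a : F) = (C₀.σ a : F) := fun a => by
    rw [hKσ _ a.2, C₀.apply_eq, SubmonoidClass.coe_pow]
  have hlift : ∀ P : Matrix (Fin n) (Fin n) K, Pᵀ * P.map C₀.σ = 1 →
      (P.map K.subtype)ᵀ * (P.map K.subtype).map C.σ = 1 := fun P h => by
    have e : (P.map K.subtype).map C.σ = (P.map C₀.σ).map K.subtype := Matrix.ext fun i j => hcompat _
    rw [e, ← transpose_map, ← Matrix.map_mul, h, Matrix.map_one _ (map_zero _) (map_one _)]
  obtain ⟨x, hxdef⟩ : ∃ x, x = (semi 1 σ : MulAut PSUn) := ⟨_, rfl⟩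
  rw [← hxdef]
  have hxord : orderOf x = p := by rw [hxdef, AutPSU.orderOf_semi_one C hn hF, hσ]
  have hgu0 : ∀ s : ↥(Cfsg.SU n K q0),
      (s.1 : Matrix (Fin n) (Fin n) K)ᵀ * (s.1 : Matrix (Fin n) (Fin n) K).map C₀.σ = 1 := fun s =>
    (HermSU.mem_GU_iff (σ := C₀.σ.toRingHom) C₀.apply_eq (Matrix.SpecialLinearGroup.toGL s.1)).1
      (fun u v => s.2 u v)
  have hex : ∀ s : ↥(Cfsg.SU n K q0), ∃ t : SUn, (t.1 : Mn) = (s.1 : Matrix (Fin n) (Fin n) K).map K.subtype := fun s => by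
    obtain ⟨g, hg⟩ := AutPSU.exists_gu C _ (hlift _ (hgu0 s))
    refine ⟨⟨slOf ((s.1 : Matrix (Fin n) (Fin n) K).map K.subtype) ?_, fun u v => ?_⟩, rfl⟩
    · rw [← RingHom.mapMatrix_apply, ← RingHom.map_det, s.1.2, map_one]
    · have h := g.2 u v
      rw [show ((Units.coeHom (Matrix (Fin n) (Fin n) F)) (g : GL (Fin n) F)) =
        (s.1 : Matrix (Fin n) (Fin n) K).map K.subtype from hg] at h
      exact h
  choose ΦS hΦS using hex
  let Φh : ↥(Cfsg.SU n K q0) →* SUn := MonoidHom.mk' ΦS fun a b => Subtype.ext (Subtype.ext (by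
    rw [Subgroup.coe_mul, Matrix.SpecialLinearGroup.coe_mul, hΦS, hΦS, hΦS, Subgroup.coe_mul,
      Matrix.SpecialLinearGroup.coe_mul, Matrix.map_mul]))
  let Θ : ↥(Cfsg.SU n K q0) →* MulAut PSUn :=
    MulAut.conj.comp ((QuotientGroup.mk' _).comp Φh)
  have hrepΘ : ∀ s, ∃ g : GUn, mat g = (s : ↥(Cfsg.SU n K q0)).1.1.map K.subtype ∧ Θ s = semi g 1 := fun s =>
    ⟨⟨_, HermSU.toGL_mem_GU (ΦS s)⟩, hΦS s, AutPSU.inner_eq_semi (ΦS s)⟩
  have hfix : ∀ P : Matrix (Fin n) (Fin n) K, (P.map K.subtype).map σ = P.map K.subtype := fun P =>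
    Matrix.ext fun a b => (hKmem _).1 (P a b).2
  have hLJ : Θ.range ≤ innCent x := by
    rintro _ ⟨s, rfl⟩
    refine ⟨⟨_, rfl⟩, Subgroup.mem_centralizer_singleton_iff.2 ?_⟩
    obtain ⟨g, hg, e⟩ := hrepΘ s
    rw [e, hxdef]
    refine ((AutPSU.commute_field_iff C hn hF g σ).2 ⟨1, ?_⟩).eq
    rw [map_one, one_mul]
    refine Subtype.ext (Units.ext ?_)
    show mat g = mat (mapGU σ g)
    rw [AutPSU.mat_mapGU, hg, hfix]
  -- elements of the inner part descend
  have hrep : ∀ j ∈ innCent x, ∃ (P : GL (Fin n) K) (g : GUn), j = semi g 1 ∧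
      mat g = (P : Matrix (Fin n) (Fin n) K).map K.subtype ∧
      (P : Matrix (Fin n) (Fin n) K)ᵀ * (P : Matrix (Fin n) (Fin n) K).map C₀.σ = 1 := by
    intro j hj
    obtain ⟨g, rfl⟩ := AutPSU.inn_le_range hj.1
    obtain ⟨t, g', hg', rfl⟩ := AutPSU.exists_fixed_of_commute C hn hF hodd (g := g)
      (hxdef ▸ Subgroup.mem_centralizer_singleton_iff.1 hj.2)
    obtain ⟨P₀, hP₀⟩ : ∃ P₀ : Matrix (Fin n) (Fin n) K, P₀.map K.subtype = mat g' :=
      ⟨Matrix.of fun a b => ⟨mat g' a b, (hKmem _).2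
        (congrFun (congrFun (congrArg (fun u : GUn => mat u) hg') a) b)⟩, rfl⟩
    have hu : IsUnit P₀ := by
      rw [Matrix.isUnit_iff_isUnit_det, isUnit_iff_ne_zero]
      intro h0
      have h := ((Matrix.isUnit_iff_isUnit_det _).1 (g' : GL (Fin n) F).isUnit).ne_zero
      rw [show ((g' : GL (Fin n) F) : Mn) = P₀.map K.subtype from hP₀.symm, ← RingHom.mapMatrix_apply,
        ← RingHom.map_det, h0, map_zero] at h
      exact h rfl
    refine ⟨hu.unit, g', ?_, hP₀.symm, ?_⟩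
    · rw [AutPSU.conjHom_apply, ← AutPSU.semi_mul_one,
        (AutPSU.semi_eq_one_iff' C hn hF).2 ⟨rfl, t, rfl⟩, one_mul]
    · have h := AutPSU.gu_mul C g'
      rw [← hP₀] at h
      have e : (P₀.map K.subtype).map C.σ = (P₀.map C₀.σ).map K.subtype := Matrix.ext fun i j => hcompat _
      rw [e, ← transpose_map, ← Matrix.map_mul] at h
      exact Matrix.map_injective K.subtype.injective (h.trans (Matrix.map_one _ (map_zero _) (map_one _)).symm)
  have hmk : ∀ P : Matrix (Fin n) (Fin n) K, P.det = 1 → Pᵀ * P.map C₀.σ = 1 →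
      ∃ s : ↥(Cfsg.SU n K q0), (s.1 : Matrix (Fin n) (Fin n) K) = P := fun P hd h => by
    obtain ⟨g, hg⟩ := AutPSU.exists_gu C₀ P h
    refine ⟨⟨slOf P hd, fun u v => ?_⟩, rfl⟩
    have e := g.2 u v
    rw [show ((Units.coeHom (Matrix (Fin n) (Fin n) K)) (g : GL (Fin n) K)) = P from hg] at e
    exact e
  have hnorm : ∀ j ∈ innCent x, ∀ l ∈ Θ.range, j * l * j⁻¹ ∈ Θ.range := by
    rintro j hj _ ⟨s, rfl⟩
    obtain ⟨P, g, rfl, hg, hP⟩ := hrep j hj
    obtain ⟨g₁, hg₁, e₁⟩ := hrepΘ s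
    have hPgu : P ∈ Cfsg.GU n K q0 := (HermSU.mem_GU_iff (σ := C₀.σ.toRingHom) C₀.apply_eq P).2 hP
    obtain ⟨s', hs'⟩ := hmk ((P * Matrix.SpecialLinearGroup.toGL s.1 * P⁻¹ : GL (Fin n) K) : Matrix (Fin n) (Fin n) K)
      (by rw [Units.val_mul, Units.val_mul, Matrix.det_units_conj]; exact s.1.2)
      ((HermSU.mem_GU_iff (σ := C₀.σ.toRingHom) C₀.apply_eq _).1
        (Subgroup.mul_mem _ (Subgroup.mul_mem _ hPgu (fun u v => s.2 u v)) (Subgroup.inv_mem _ hPgu)))
    obtain ⟨g₂, hg₂, e₂⟩ := hrepΘ s'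
    refine ⟨s', ?_⟩
    rw [e₁, e₂, ← AutPSU.conjHom_apply, ← AutPSU.conjHom_apply, ← AutPSU.conjHom_apply, ← map_inv, ← map_mul,
      ← map_mul]
    congr 1
    refine eq_mul_inv_iff_mul_eq.2 (Subtype.ext (Units.ext ?_))
    show mat g₂ * mat g = mat g * mat g₁
    rw [hg, hg₁, hg₂, hs', ← Matrix.map_mul, ← Matrix.map_mul]
    congr 1
    show ((P * Matrix.SpecialLinearGroup.toGL s.1 * P⁻¹ : GL (Fin n) K) : Matrix (Fin n) (Fin n) K) *
      (P : Matrix (Fin n) (Fin n) K) = ((P * Matrix.SpecialLinearGroup.toGL s.1 : GL (Fin n) K) : Matrix (Fin n) (Fin n) K)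
    rw [← Units.val_mul, inv_mul_cancel_right]
  have hΘ1 : ∀ s : ↥(Cfsg.SU n K q0), Θ s = 1 →
      ∃ c : K, ∀ a b, (s.1 : Matrix (Fin n) (Fin n) K) a b = if a = b then c else 0 := fun s h => by
    obtain ⟨g, hg, e⟩ := hrepΘ s
    rw [e, AutPSU.semi_eq_one_iff' C hn hF] at h
    obtain ⟨-, c, hc⟩ := h
    have hd : mat g = diagonal fun _ => ((c : Fˣ) : F) := congrArg (fun u : GUn => mat u) hc
    rw [hg] at hd
    obtain ⟨i⟩ : Nonempty (Fin n) := ⟨⟨0, by omega⟩⟩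
    refine ⟨(s.1 : Matrix (Fin n) (Fin n) K) i i, fun a b => Subtype.ext ?_⟩
    have h1 := congrFun (congrFun hd a) b
    have h2 := congrFun (congrFun hd i) i
    simp only [Matrix.map_apply, Matrix.diagonal_apply, if_true] at h1 h2
    rcases eq_or_ne a b with rfl | hab
    · rw [if_pos rfl] at h1 ⊢; exact h1.trans h2.symm
    · rw [if_neg hab] at h1 ⊢; exact h1
  have hZ : ∀ z ∈ Subgroup.center (Cfsg.SU n K q0), Θ z = 1 := by
    intro z hz
    obtain ⟨b, hb⟩ := (AutPSU.mem_center_iff C₀ (by omega) hKc z).1 hz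
    have hzn : (z.1 : Matrix (Fin n) (Fin n) K) = b • 1 := Matrix.ext_iff_mulVec.2 fun w => by
      rw [smul_mulVec, one_mulVec]; exact hb w
    obtain ⟨g, hg, e⟩ := hrepΘ z
    rw [e]
    refine semi_one_of_scalar hn hF (c := (b : F)) ?_
    rw [hg, hzn]
    exact Matrix.ext fun a c => by rcases eq_or_ne a c with rfl | h <;> simp [*]
  have hdiv : p ∣ Nat.card ↥(innCent x) → p ∣ Nat.card ↥Θ.range := by
    intro hd
    obtain ⟨j, hj⟩ := exists_prime_orderOf_dvd_card' p hd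
    obtain ⟨P, g, hjg, hg, hP⟩ := hrep j j.2
    suffices h : ∃ l ∈ Θ.range, orderOf l = p by
      obtain ⟨l, hl, e⟩ := h
      rw [← e]; exact Subgroup.orderOf_dvd_natCard _ hl
    by_cases hpm : p ∣ q0 + 1
    · obtain ⟨z, hz⟩ := exists_prime_orderOf_dvd_card' (G := AutPSU.N1 C₀) p
        (by rw [AutPSU.card_N1 C₀ hn hKc]; exact hpm)
      obtain ⟨w, hw⟩ : ∃ w : Kˣ, w = (z : Kˣ) := ⟨_, rfl⟩
      have hwp : w ^ p = 1 := by
        rw [hw, ← Subgroup.coe_pow, ← hz, pow_orderOf_eq_one, Subgroup.coe_one]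
      have hw1 : (w : K) ≠ 1 := fun e => hp.out.ne_one (by
        rw [← hz, orderOf_eq_one_iff]; exact Subtype.ext (hw.symm.trans (Units.ext e)))
      have hwn : (w : K) * C₀.σ (w : K) = 1 := hw ▸ z.2
      have hwn' : ((w⁻¹ : Kˣ) : K) * C₀.σ ((w⁻¹ : Kˣ) : K) = 1 :=
        (AutPSU.N1 C₀).inv_mem (show w ∈ AutPSU.N1 C₀ from hwn)
      obtain ⟨i₀, hi₀⟩ : ∃ i : Fin n, i.val = 0 := ⟨⟨0, by omega⟩, rfl⟩
      obtain ⟨i₁, hi₁⟩ : ∃ i : Fin n, i.val = 1 := ⟨⟨1, by omega⟩, rfl⟩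
      have h01 : i₀ ≠ i₁ := fun e => by rw [e] at hi₀; omega
      obtain ⟨d, hd'⟩ : ∃ d : Fin n → K,
          d = Function.update (Function.update (1 : Fin n → K) i₀ (w : K)) i₁ ((w⁻¹ : Kˣ) : K) := ⟨_, rfl⟩
      obtain ⟨s, hs'⟩ := hmk (diagonal d)
        (by rw [det_diagonal, hd', Finset.prod_update_of_mem (Finset.mem_univ _),
              Finset.prod_update_of_mem (by simp [h01])]
            simp)
        (by
          rw [diagonal_transpose, diagonal_map (map_zero _), diagonal_mul_diagonal, ← diagonal_one]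
          congr 1
          funext k
          simp only [hd', Function.update_apply, Function.comp_apply]
          split_ifs <;> first | exact hwn' | exact hwn | simp)
      have hdp : ∀ k, d k ^ p = 1 := fun k => by
        simp only [hd', Function.update_apply]
        split_ifs
        · rw [← Units.val_pow_eq_pow_val, inv_pow, hwp, inv_one, Units.val_one]
        · rw [← Units.val_pow_eq_pow_val, hwp, Units.val_one]
        · exact one_pow p
      refine ⟨_, ⟨s, rfl⟩, orderOf_eq_prime ?_ fun h => ?_⟩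
      · rw [← map_pow]
        convert map_one Θ
        refine Subtype.ext (Subtype.ext ?_)
        rw [Subgroup.coe_pow, Matrix.SpecialLinearGroup.coe_pow, hs', diagonal_pow, Subgroup.coe_one,
          Matrix.SpecialLinearGroup.coe_one, ← diagonal_one]
        exact congrArg _ (funext fun k => hdp k)
      · obtain ⟨c, hc⟩ := hΘ1 _ h
        obtain ⟨i₂, hi₂⟩ : ∃ i : Fin n, i.val = 2 := ⟨⟨2, by omega⟩, rfl⟩
        have e0 := hc i₀ i₀
        have e2 := hc i₂ i₂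
        have h20 : i₂ ≠ i₀ := fun e => by rw [e] at hi₂; omega
        have h21 : i₂ ≠ i₁ := fun e => by rw [e] at hi₂; omega
        simp [hs', hd', h01, h20, h21] at e0 e2
        exact hw1 (e0.trans e2.symm)
    · obtain ⟨s, hs'⟩ := hmk ((P ^ (q0 + 1) : GL (Fin n) K) : Matrix (Fin n) (Fin n) K)
        (by
          have hdet : Matrix.GeneralLinearGroup.det P ∈ AutPSU.N1 C₀ :=
            HermSU.det_mem_normOne (σ := C₀.σ.toRingHom) C₀.apply_eq
              ((HermSU.mem_GU_iff (σ := C₀.σ.toRingHom) C₀.apply_eq P).2 hP)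
          show ((Matrix.GeneralLinearGroup.det (P ^ (q0 + 1)) : Kˣ) : K) = 1
          rw [map_pow, show Matrix.GeneralLinearGroup.det P ^ (q0 + 1) = 1 from
            (AutPSU.card_N1 C₀ hn hKc) ▸ congrArg Subtype.val
              (pow_card_eq_one' (x := (⟨_, hdet⟩ : AutPSU.N1 C₀))), Units.val_one])
        ((HermSU.mem_GU_iff (σ := C₀.σ.toRingHom) C₀.apply_eq _).1
          (Subgroup.pow_mem _ ((HermSU.mem_GU_iff (σ := C₀.σ.toRingHom) C₀.apply_eq P).2 hP) _))
      obtain ⟨g', hg', e'⟩ := hrepΘ s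
      refine ⟨_, ⟨s, rfl⟩, ?_⟩
      have hgpow : g' = g ^ (q0 + 1) := by
        refine Subtype.ext (Units.ext ?_)
        show mat g' = _
        rw [hg', hs', Subgroup.coe_pow, Units.val_pow_eq_pow_val, Units.val_pow_eq_pow_val,
          show ((g : GL (Fin n) F) : Mn) = (P : Matrix (Fin n) (Fin n) K).map K.subtype from hg]
        exact map_pow (RingHom.mapMatrix K.subtype) _ _
      have hjp : orderOf (semi g 1 : MulAut PSUn) = p := by rw [← hjg, Subgroup.orderOf_coe, hj]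
      rw [e', hgpow, ← AutPSU.conjHom_apply, map_pow, AutPSU.conjHom_apply, Nat.Coprime.orderOf_pow, hjp]
      rw [hjp]
      exact (hp.out.coprime_iff_not_dvd).2 hpm
  obtain ⟨S, hS, hS0, hSa⟩ : ∃ S : Finset K, q0 + 1 ≤ S.card ∧ (0 : K) ∉ S ∧ ∀ a ∈ S, a ^ (q0 + 1) = -1 :=
    norm_fibre hKc C₀
  obtain ⟨σ₀, hσ₀, hherm, -⟩ := UnitaryStd.exists_setup (n := n) hKc (by omega)
  obtain ⟨μ, hμ⟩ := C₀.ne_one
  obtain ⟨c0, hc0d⟩ : ∃ c0, c0 = μ - C₀.σ μ := ⟨_, rfl⟩
  have hc0 : σ₀ c0 = -c0 := by rw [hσ₀, ← C₀.apply_eq, hc0d, map_sub, C₀.invol, neg_sub]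
  have hc0ne : c0 ≠ 0 := hc0d ▸ sub_ne_zero.2 (Ne.symm hμ)
  have hC : ∀ c : MulAut PSUn, (∀ l ∈ Θ.range, c * l = l * c) → (orderOf c).Coprime p → c = 1 := by
    intro c hcl hco
    obtain ⟨h, τ, rfl⟩ := AutPSU.exists_semi' hn hF hs c
    obtain ⟨hτ, u, hu⟩ := Unip.scalar_of_isotropic K.subtype (h : GL (Fin n) F) τ hn q0 hKc S hS hS0
      fun i j hij a ha => by
        obtain ⟨v, hv⟩ : ∃ v : Fin n → K, v = Pi.single i 1 + a • Pi.single j 1 := ⟨_, rfl⟩
        have hq00 : q0 ≠ 0 := fun e => by rw [e] at hKc; simp at hKc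
        have hvv : Cfsg.hermForm n K q0 v v = 0 := by
          rw [Cfsg.hermForm, ← Finset.sum_subset (Finset.subset_univ {i, j}) fun k _ hk => by
            simp only [Finset.mem_insert, Finset.mem_singleton, not_or] at hk
            simp [hv, hk.1, hk.2], Finset.sum_pair hij]
          simp [hv, hij, hij.symm, ← pow_succ', hSa a ha]
        obtain ⟨A, -, hA⟩ := UnitaryStd.exists_su_htv hherm v hvv hc0
        obtain ⟨w, hw⟩ : ∃ w : Fin n → K, w = c0 • fun k => v k ^ q0 := ⟨_, rfl⟩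
        have hN : IsNilpotent (vecMulVec v w) := ⟨2, by
          rw [pow_two, vecMulVec_mul_vecMulVec, hw, smul_dotProduct, isotropic_dot, hvv, smul_zero, zero_smul]
          ext a b; simp [vecMulVec_apply]⟩
        obtain ⟨g, hg, e⟩ := hrepΘ A
        have hP : mat g = (1 + vecMulVec v w).map K.subtype := by
          rw [hg]
          congr 1
          show (A.1 : Matrix (Fin n) (Fin n) K) = _
          rw [hA, Cfsg.unitaryTransvection, hw]
          ext a b
          simp [vecMulVec_apply]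
        have hw0 : w ≠ 0 := fun e => by
          have h1 := congrFun (hw.symm.trans e) i
          simp [hv, hij, hc0ne] at h1
        have hcl' := hcl _ ⟨A, rfl⟩
        rw [e] at hcl'
        obtain ⟨l, hl⟩ := Unip.line_of_rank_one K.subtype (h : GL (Fin n) F) τ hw0
          (Unip.comm_nilpotent K.subtype _ τ (by omega) hN (comm_of_semiU C hn hF K.subtype hP hcl'))
        refine ⟨l, ?_⟩
        rw [hv, show (K.subtype : K → F) ∘ (Pi.single i 1 + a • Pi.single j 1 : Fin n → K) =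
          Pi.single i 1 + K.subtype a • (Pi.single j 1 : Fin n → F) from funext fun k => by
            simp [Pi.single_apply]; split_ifs <;> simp] at hl
        exact hl
    have hsc : mat h = (u : F) • (1 : Mn) := by
      rw [Matrix.smul_one_eq_diagonal]
      exact congrArg (fun v : GL (Fin n) F => (v : Mn)) hu
    have e1 : (semi h τ : MulAut PSUn) = semi 1 τ := by
      rw [AutPSU.semi_decomp, semi_one_of_scalar hn hF hsc, one_mul]
    rw [e1] at hco ⊢
    obtain ⟨k, hk⟩ := mem_zpowers_of_fix hσ (τ := τ) fun a ha => hτ ⟨a, (hKmem a).2 ha⟩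
    refine eq_one_of_mem_zpowers hxord ?_ hco
    rw [hxdef, ← hk]
    let φ : (F ≃+* F) →* MulAut PSUn := MonoidHom.mk' (fun τ => semi 1 τ) fun a b => by
      rw [AutPSU.semi_mul, AutPSU.mapGU_one', mul_one]
    exact ⟨k, (map_zpow φ σ k).symm⟩
  have hΘne : innCent x ≠ ⊥ := fun hb => by
    haveI := hK.toNontrivial
    obtain ⟨g, hkdvd, hk1⟩ := exists_coprime_inner (center_psu hn hF hK) p
    refine hk1 (hC _ (fun l hl => ?_) hkdvd)
    rw [Subgroup.mem_bot.1 (hb.le (hLJ hl)), mul_one, one_mul]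
  refine core_iff (center_psu hn hF hK) A hinn hΘne (fun hd M hM hMn hMc => ?_)
    fun c _ hcj hco => hC c (fun l hl => hcj l (hLJ hl)) hco
  refine hJ_of_image Θ.range hLJ hnorm ?_ (fun c _ => hC c) M hM hMn hMc
  intro M' hM' hn' hc'
  by_cases hsmall : n = 3 ∧ q0 = 2
  · obtain ⟨rfl, rfl⟩ := hsmall
    have hr : r = 2 := ((Nat.prime_dvd_prime_iff_eq Nat.prime_two (Fact.out : r.Prime)).1
      (Nat.prime_two.dvd_of_dvd_pow (dvd_of_eq hq0))).symm
    have hp3 : p = 3 := by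
      have h1 : Nat.card ↥Θ.range ∣ 72 := by
        rw [← Subgroup.index_ker, ← (S0282.result (F := K) (by rw [hKc]; norm_num)).1, ← Subgroup.index_eq_card]
        exact Subgroup.index_dvd_of_le fun z hz => hZ z hz
      have h2 := (hdiv hd).trans h1
      rw [show (72 : ℕ) = 2 ^ 3 * 3 ^ 2 by norm_num] at h2
      rcases hp.out.dvd_mul.1 h2 with h | h
      · exact absurd ((Nat.prime_dvd_prime_iff_eq hp.out Nat.prime_two).1 (hp.out.dvd_of_dvd_pow h)) hp2
      · exact (Nat.prime_dvd_prime_iff_eq hp.out Nat.prime_three).1 (hp.out.dvd_of_dvd_pow h)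
    subst hp3
    refine su32_core hKc Θ (fun s h => ?_) hZ M' hM' hn' hc'
    obtain ⟨c, hc⟩ := hΘ1 s h
    refine ⟨c, fun v => ?_⟩
    show (s.1 : Matrix (Fin 3) (Fin 3) K) *ᵥ v = _
    rw [show (s.1 : Matrix (Fin 3) (Fin 3) K) = c • 1 from Matrix.ext fun a b => by
      rw [hc]; rcases eq_or_ne a b with rfl | hab <;> simp [*], smul_mulVec, one_mulVec]
  · exact hL_of_simple Θ (S0283.result hKc n hn hsmall) hZ (hdiv hd) M' hM' hn' hc'

end Cfsg.Agent.AutBalance
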