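import Cfsg.Agent.Lib.AutBalance.UniField
import Cfsg.Agent.Lib.AutBalance.FormsCore
import Cfsg.Agent.Lib.AutPSU.GraphInvTransfer

/-!
Odd cores of centralisers of graph involutions of `PSU n`.
-/

set_option autoImplicit false

namespace Cfsg.Agent.AutBalance

open Matrix
open Cfsg.Agent.AutPSU (semi conjHom mapGU Conj mat scU)

variable {F : Type*} [Field F] [Fintype F] {n q : ℕ}

local notation "PSUn" => Cfsg.PSU n F q
local notation "GUn" => Cfsg.GU n F q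
local notation "Mn" => Matrix (Fin n) (Fin n) F

/-- Conjugating a commutation with a semilinear map. -/
theorem comm_change {F₀ : Type*} [Field F₀] (ι : F₀ →+* F) (B h : GL (Fin n) F) (τ : F ≃+* F)
    (P : Matrix (Fin n) (Fin n) F₀) {a : F}
    (ha : (h : Mn) * ((B : Mn) * P.map ι * ((B⁻¹ : GL (Fin n) F) : Mn)).map τ =
      a • ((B : Mn) * P.map ι * ((B⁻¹ : GL (Fin n) F) : Mn) * (h : Mn))) :
    Unip.Comm ι (B⁻¹ * h * AutPSL.mapGL τ B) τ P := by
  refine ⟨a, ?_⟩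
  have e := congrArg (fun X : Mn => ((B⁻¹ : GL (Fin n) F) : Mn) * X * (B : Mn).map τ) ha
  simp only [Matrix.map_mul, Matrix.mul_smul, Matrix.smul_mul] at e
  have eB : ((B⁻¹ : GL (Fin n) F) : Mn).map τ * (B : Mn).map τ = 1 := by
    rw [← Matrix.map_mul, Units.inv_mul, Matrix.map_one _ (map_zero τ) (map_one τ)]
  simp only [Matrix.mul_assoc, eB, Matrix.mul_one] at e
  rw [← Matrix.mul_assoc ((B⁻¹ : GL (Fin n) F) : Mn) (B : Mn), Units.inv_mul, Matrix.one_mul] at e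
  simp only [Units.val_mul, AutPSL.mapGL_coe, Matrix.mul_assoc]
  exact e

/-- The odd core at a graph involution is trivial, and the inner part is not. -/
theorem psu_grf (hn : 3 ≤ n) {r : ℕ} [Fact r.Prime] [CharP F r] (h2 : (2 : F) ≠ 0)
    (hF : Fintype.card F = q ^ 2) (hK : IsSimpleGroup PSUn) (C : Conj F q) {g : GUn}
    (hg : (mat g)ᵀ = mat g ∨ (mat g)ᵀ = -mat g) (𝒢 : Subgroup (MulAut PSUn))
    (hinn : ∀ k : PSUn, MulAut.conj k ∈ 𝒢) :
    Cfsg.pPrimeCore 2 ↥(𝒢 ⊓ Subgroup.centralizer {(semi g C.σ : MulAut PSUn)}) = ⊥ ∧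
      innCent (semi g C.σ : MulAut PSUn) ≠ ⊥ := by
  classical
  haveI : Fact (Nat.Prime 2) := ⟨Nat.prime_two⟩
  haveI : Nonempty (Fin n) := ⟨⟨0, by omega⟩⟩
  have hs := not_three_two hF hK
  obtain ⟨K, hKmem, -⟩ := AutPSL.exists_fixed_field C.σ
  haveI : Fintype K := Fintype.ofFinite _
  haveI : CharP K r := (K.subtype.charP_iff K.subtype.injective r).2 ‹_›
  have h2K : (2 : K) ≠ 0 := fun e => h2 (by rw [← map_ofNat K.subtype 2, e, map_zero])
  let E : AutPSU.Emb C K := ⟨K.subtype, fun a => (hKmem _).1 a.2, fun x hx => ⟨⟨x, (hKmem x).2 hx⟩, rfl⟩⟩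
  obtain ⟨A, ⟨d⟩, hA⟩ := AutPSU.exists_form E hg
  have hex : ∀ P : ↥(isoSub (A : Matrix (Fin n) (Fin n) K)), ∃ M : GUn,
      mat M = (d.B : Mn) * ((P : GL (Fin n) K) : Matrix (Fin n) (Fin n) K).map E.ι * ((d.B⁻¹ : GL (Fin n) F) : Mn) := by
    intro P
    have h := (AutPSU.Dat.conn_gu_iff d d 1 ((P : GL (Fin n) K) : Matrix (Fin n) (Fin n) K)).2 (by
      rw [map_one, one_mul, one_mul, mem_isoSub.1 P.2])
    obtain ⟨M, hM⟩ := AutPSU.exists_gu C _ h
    exact ⟨M, by rw [hM, AutPSU.Dat.conn, one_smul]⟩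
  choose ψ₀ hψ₀ using hex
  let ψ : ↥(isoSub (A : Matrix (Fin n) (Fin n) K)) →* GUn := MonoidHom.mk' ψ₀ fun a b => Subtype.ext (Units.ext (by
    show mat (ψ₀ (a * b)) = mat (ψ₀ a * ψ₀ b)
    rw [AutPSU.mat_mul, hψ₀, hψ₀, hψ₀, Subgroup.coe_mul, Units.val_mul, Matrix.map_mul]
    simp only [Matrix.mul_assoc]
    rw [← Matrix.mul_assoc ((d.B⁻¹ : GL (Fin n) F) : Mn) (d.B : Mn), Units.inv_mul, Matrix.one_mul]))
  have hψ : ∀ P : ↥(isoSub (A : Matrix (Fin n) (Fin n) K)), mat (ψ P) = (d.B : Mn) *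
      ((P : GL (Fin n) K) : Matrix (Fin n) (Fin n) K).map E.ι * ((d.B⁻¹ : GL (Fin n) F) : Mn) := hψ₀
  obtain ⟨x, hxdef⟩ : ∃ x, x = (semi g C.σ : MulAut PSUn) := ⟨_, rfl⟩
  rw [← hxdef]
  let φ : ↥(isoSub (A : Matrix (Fin n) (Fin n) K)) →* MulAut PSUn := conjHom.comp ψ
  have hφ : ∀ P, φ P = semi (ψ P) 1 := fun P => rfl
  have hcen : ∀ P, φ P ∈ Subgroup.centralizer {x} := fun P => by
    rw [Subgroup.mem_centralizer_singleton_iff, hxdef, hφ]
    refine (AutPSU.twist_iff C hn hF (ψ P) g g).2 ?_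
    have h := AutPSU.Dat.conn_twist d d (t := 1) one_ne_zero ((P : GL (Fin n) K) : Matrix (Fin n) (Fin n) K)
    rw [AutPSU.Dat.conn, one_smul, ← hψ P] at h
    exact ⟨_, h⟩
  have hin : ∀ P : ↥(isoSub (A : Matrix (Fin n) (Fin n) K)),
      ((P : GL (Fin n) K) : Matrix (Fin n) (Fin n) K).det = 1 → φ P ∈ innCent x := fun P hd => by
    refine ⟨(AutPSU.semi_mem_inn C hn hF (ψ P)).2 ?_, hcen P⟩
    rw [show HermSU.detHom (σ := C.σ.toRingHom) C.apply_eq (ψ P) = 1 from Subtype.ext (Units.ext (by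
      show (mat (ψ P)).det = 1
      rw [hψ, Matrix.det_units_conj, ← RingHom.mapMatrix_apply, ← RingHom.map_det, hd, map_one]))]
    exact one_mem _
  have hone : ∀ P : ↥(isoSub (A : Matrix (Fin n) (Fin n) K)), φ P = 1 ↔
      ∃ c : Kˣ, (P : GL (Fin n) K) = Matrix.GeneralLinearGroup.scalar (Fin n) c := fun P => by
    constructor
    · intro h
      rw [hφ, AutPSU.semi_eq_one_iff' C hn hF] at h
      obtain ⟨-, a, ha⟩ := h
      have hm : mat (ψ P) = ((a : Fˣ) : F) • (1 : Mn) := by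
        rw [Matrix.smul_one_eq_diagonal]; exact congrArg (fun u : GUn => mat u) ha
      rw [hψ] at hm
      have e := congrArg (fun X : Mn => ((d.B⁻¹ : GL (Fin n) F) : Mn) * X * (d.B : Mn)) hm
      simp only [Matrix.mul_smul, Matrix.smul_mul, Matrix.mul_one, Units.inv_mul, Matrix.mul_assoc] at e
      rw [← Matrix.mul_assoc, Units.inv_mul, Matrix.one_mul] at e
      obtain ⟨i⟩ : Nonempty (Fin n) := inferInstance
      have hc : ∀ b c, E.ι (((P : GL (Fin n) K) : Matrix (Fin n) (Fin n) K) b c) =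
          if b = c then ((a : Fˣ) : F) else 0 := fun b c => by
        have := congrFun (congrFun e b) c
        simpa [Matrix.one_apply] using this
      have hi := hc i i
      rw [if_pos rfl] at hi
      have hne : ((P : GL (Fin n) K) : Matrix (Fin n) (Fin n) K) i i ≠ 0 := fun h0 => by
        rw [h0, map_zero] at hi; exact (a : Fˣ).ne_zero hi.symm
      refine ⟨Units.mk0 _ hne, Units.ext (Matrix.ext fun b c => E.ι.injective ?_)⟩
      rw [hc]
      show _ = E.ι (Matrix.scalar (Fin n) _ b c)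
      rcases eq_or_ne b c with rfl | hbc
      · simp [hi]
      · simp [hbc]
    · rintro ⟨c, hc⟩
      rw [hφ]
      refine semi_one_of_scalar hn hF (c := E.ι (c : K)) ?_
      rw [hψ, show ((P : GL (Fin n) K) : Matrix (Fin n) (Fin n) K) = (c : K) • 1 by
        rw [hc, Matrix.smul_one_eq_diagonal]; rfl, AutPSU.emb_smul, Matrix.map_one _ (map_zero _) (map_one _),
        Matrix.mul_smul, Matrix.mul_one, Matrix.smul_mul, Units.mul_inv]
  have hnormal : ∀ j ∈ innCent x, ∀ P : ↥(isoSub (A : Matrix (Fin n) (Fin n) K)),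
      ∃ P' : ↥(isoSub (A : Matrix (Fin n) (Fin n) K)),
        ((P' : GL (Fin n) K) : Matrix (Fin n) (Fin n) K).det = ((P : GL (Fin n) K) : Matrix (Fin n) (Fin n) K).det ∧
          j * φ P * j⁻¹ = φ P' := by
    intro j hj P
    obtain ⟨M, rfl⟩ := AutPSU.inn_le_range hj.1
    have hc := Subgroup.mem_centralizer_singleton_iff.1 hj.2
    rw [hxdef, AutPSU.conjHom_apply] at hc
    obtain ⟨a, ha⟩ := (AutPSU.twist_iff C hn hF M g g).1 hc
    obtain ⟨t, Q, c, -, hM, hQ, -⟩ := AutPSU.Dat.exists_conn d d M ha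
    have hQm : Q * (P : GL (Fin n) K) * Q⁻¹ ∈ isoSub (A : Matrix (Fin n) (Fin n) K) := by
      rw [mem_isoSub, Units.val_mul, Units.val_mul]
      calc ((Q : Matrix (Fin n) (Fin n) K) * ((P : GL (Fin n) K) : Matrix (Fin n) (Fin n) K) *
              ((Q⁻¹ : GL (Fin n) K) : Matrix (Fin n) (Fin n) K))ᵀ * (A : Matrix (Fin n) (Fin n) K) *
            ((Q : Matrix (Fin n) (Fin n) K) * ((P : GL (Fin n) K) : Matrix (Fin n) (Fin n) K) *
              ((Q⁻¹ : GL (Fin n) K) : Matrix (Fin n) (Fin n) K))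
          = ((Q⁻¹ : GL (Fin n) K) : Matrix (Fin n) (Fin n) K)ᵀ * (((P : GL (Fin n) K) : Matrix (Fin n) (Fin n) K)ᵀ *
              ((Q : Matrix (Fin n) (Fin n) K)ᵀ * (A : Matrix (Fin n) (Fin n) K) * (Q : Matrix (Fin n) (Fin n) K)) *
              ((P : GL (Fin n) K) : Matrix (Fin n) (Fin n) K)) * ((Q⁻¹ : GL (Fin n) K) : Matrix (Fin n) (Fin n) K) := by
            simp only [transpose_mul, Matrix.mul_assoc]
        _ = ((Q⁻¹ : GL (Fin n) K) : Matrix (Fin n) (Fin n) K)ᵀ *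
              ((Q : Matrix (Fin n) (Fin n) K)ᵀ * (A : Matrix (Fin n) (Fin n) K) * (Q : Matrix (Fin n) (Fin n) K)) *
              ((Q⁻¹ : GL (Fin n) K) : Matrix (Fin n) (Fin n) K) := by
            rw [hQ, Matrix.mul_smul, Matrix.smul_mul, mem_isoSub.1 P.2]
        _ = ((Q : Matrix (Fin n) (Fin n) K) * ((Q⁻¹ : GL (Fin n) K) : Matrix (Fin n) (Fin n) K))ᵀ *
              (A : Matrix (Fin n) (Fin n) K) *
              ((Q : Matrix (Fin n) (Fin n) K) * ((Q⁻¹ : GL (Fin n) K) : Matrix (Fin n) (Fin n) K)) := by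
            simp only [transpose_mul, Matrix.mul_assoc]
        _ = _ := by rw [Units.mul_inv, transpose_one, Matrix.one_mul, Matrix.mul_one]
    refine ⟨⟨_, hQm⟩, ?_, ?_⟩
    · show ((Q * (P : GL (Fin n) K) * Q⁻¹ : GL (Fin n) K) : Matrix (Fin n) (Fin n) K).det = _
      rw [Units.val_mul, Units.val_mul, Matrix.det_units_conj]
    · show conjHom M * conjHom (ψ P) * (conjHom M)⁻¹ = conjHom (ψ ⟨_, hQm⟩)
      rw [mul_inv_eq_iff_eq_mul, ← map_mul, ← map_mul]
      congr 1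
      refine Subtype.ext (Units.ext ?_)
      show mat (M * ψ P) = mat (ψ ⟨_, hQm⟩ * M)
      rw [AutPSU.mat_mul, AutPSU.mat_mul, hψ, hψ, hM, AutPSU.Dat.conn, Matrix.smul_mul, Matrix.mul_smul,
        Units.val_mul, Units.val_mul, Matrix.map_mul, Matrix.map_mul]
      congr 1
      simp only [Matrix.mul_assoc]
      have e1 : ∀ X : Mn, ((d.B⁻¹ : GL (Fin n) F) : Mn) * ((d.B : Mn) * X) = X := fun X => by
        rw [← Matrix.mul_assoc, Units.inv_mul, Matrix.one_mul]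
      rw [e1, e1, ← Matrix.mul_assoc ((((Q⁻¹ : GL (Fin n) K) : Matrix (Fin n) (Fin n) K)).map E.ι),
        ← Matrix.map_mul, Units.inv_mul, Matrix.map_one _ (map_zero _) (map_one _), Matrix.one_mul]
  refine ⟨forms_core hn (r := r) h2K hA φ hcen hin hone hnormal ?_ 𝒢 hinn,
    forms_ne_bot hn (r := r) h2K hA φ hin hone⟩
  intro c _ hcl hco
  obtain ⟨h, τ, rfl⟩ := AutPSU.exists_semi' hn hF hs c
  obtain ⟨hτ, u, hu⟩ := forms_scalar E.ι hn (r := r) h2K hA (h := d.B⁻¹ * (h : GL (Fin n) F) * AutPSL.mapGL τ d.B)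
    (τ := τ) fun P hd hP => by
      have hu : IsUnit P := (Matrix.isUnit_iff_isUnit_det _).2 (by rw [hd]; exact isUnit_one)
      have hc := hcl ⟨hu.unit, hP⟩ hd
      rw [hφ, AutPSU.semi_mul, AutPSU.semi_mul_one, mul_one, AutPSU.semi_iff C hn hF] at hc
      obtain ⟨a, ha⟩ := hc
      rw [AutPSU.mat_mul, AutPSU.mat_mul, AutPSU.mat_mapGU, hψ] at ha
      exact comm_change E.ι d.B (h : GL (Fin n) F) τ P ha
  have hτ1 : τ = 1 := by
    obtain ⟨k, hk⟩ := mem_zpowers_of_fix (AutPSU.sigma_orderOf C) (τ := τ) fun a ha =>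
      hτ ⟨a, (hKmem a).2 ha⟩
    have hτ2 : τ ^ 2 = 1 := by
      rw [← hk]
      show (C.σ ^ k) ^ 2 = 1
      rw [← zpow_natCast, ← _root_.zpow_mul, mul_comm, _root_.zpow_mul, zpow_natCast,
        ← AutPSU.sigma_orderOf C, pow_orderOf_eq_one, _root_.one_zpow]
    have hm : τ ^ orderOf (semi h τ : MulAut PSUn) = 1 := by
      have e := pow_orderOf_eq_one (semi h τ : MulAut PSUn)
      nth_rewrite 1 [AutPSU.semi_pow] at e
      exact ((AutPSU.semi_eq_one_iff' C hn hF).1 e).1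
    exact orderOf_eq_one_iff.1 (Nat.eq_one_of_dvd_coprimes hco (orderOf_dvd_of_pow_eq_one hm)
      (orderOf_dvd_of_pow_eq_one hτ2))
  subst hτ1
  refine semi_one_of_scalar hn hF (c := (u : F)) ?_
  have e := congrArg (fun v : GL (Fin n) F => ((d.B * v * d.B⁻¹ : GL (Fin n) F) : Mn)) hu
  simp only [AutPSL.mapGL_one, mul_assoc, mul_inv_cancel_left, mul_inv_cancel, mul_one] at e
  refine e.trans ?_
  rw [← mul_assoc, ← AutPSL.scalar_comm, mul_inv_cancel_right, Matrix.smul_one_eq_diagonal]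
  rfl

end Cfsg.Agent.AutBalance
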